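import Mathlib.Init
import Mathlib.Data.Nat.Notation

/-!
Certificates for word identities in the Coxeter groups of the diagram `Y₃₃₂`.
-/

set_option autoImplicit false

namespace Cfsg.Agent.H77.Y332Words

/-- The word `d c b d e f d h i`. -/
def spider : List ℕ := [3,2,1,3,4,5,3,7,8]

/-- The word `a b c d e f h`. -/
def sevenA : List ℕ := [0,1,2,3,4,5,7]

/-- The word `b c d e f g h`. -/
def sevenB : List ℕ := [1,2,3,4,5,6,7]

/-- The reflection of the highest root. -/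
def thetaWord : List ℕ := [2,3,4,5,7,3,2,4,3,7,8,7,3,4,2,3,7,5,4,3,2]

/-- A translation by a root. -/
def trans_c : List ℕ := [3,7,4,5,3,4,1,2,3,7,8,7,3,4,2,3,7,5,4,3,1,2]

/-- A word carrying the highest root to that root. -/
def move_c : List ℕ := [3,7,8,4,3,7,5,4,3,2]

/-- A translation by a root. -/
def trans_d : List ℕ := [7,4,5,2,3,4,1,2,3,7,8,7,3,4,2,3,7,5,4,1,2,3]

/-- A word carrying the highest root to that root. -/
def move_d : List ℕ := [7,8,4,2,3,7,5,4,3,2]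

/-- A translation by a root. -/
def trans_e : List ℕ := [3,7,5,2,3,4,1,2,3,7,8,7,3,4,2,3,7,5,1,2,3,4]

/-- A word carrying the highest root to that root. -/
def move_e : List ℕ := [3,7,8,2,3,7,5,4,3,2]

/-- A translation by a root. -/
def trans_f : List ℕ := [4,3,7,2,3,4,1,2,3,7,8,7,3,4,2,3,7,1,2,3,4,5]

/-- A word carrying the highest root to that root. -/
def move_f : List ℕ := [4,3,7,8,2,3,7,4,3,2]

/-- A translation by a root. -/
def trans_h : List ℕ := [3,4,5,2,3,4,1,2,3,7,8,7,3,4,5,2,3,4,1,2,3,7]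

/-- A word carrying the highest root to that root. -/
def move_h : List ℕ := [8,3,4,2,3,7,5,4,3,2]

/-- A translation by a root. -/
def trans_i : List ℕ := [7,3,4,5,2,3,4,1,2,3,7,3,4,5,2,3,4,1,2,3,7,8]

/-- A word carrying the highest root to that root. -/
def move_i : List ℕ := [7,3,4,2,3,7,5,4,3,2]

/-- A translation by a root. -/
def trans_cd : List ℕ := [7,4,5,3,4,1,2,3,7,8,7,3,4,2,3,7,5,4,1,2,3,2]

/-- A word carrying the highest root to that root. -/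
def move_cd : List ℕ := [7,8,4,3,7,5,4,3,2]

/-- A translation by a root. -/
def trans_b : List ℕ := [1,2,3,4,5,7,3,2,4,3,7,8,7,3,4,2,3,7,5,4,3,2]

/-- A word carrying the highest root to that root. -/
def move_b : List ℕ := []

/-- A list of moves. -/
def cert_D : List (ℕ × ℕ) := [(1,243),(0,242),(0,241),(0,240),(2,239),(2,221),(0,221),(0,233),(0,241),(1,239),(0,238),(0,237),(0,236),(1,234),(1,232),(0,231),(0,230),(0,229),(1,227),(0,226),(1,224),(0,223),(0,222),(1,220),(2,219),(0,221),(0,220),(0,219),(2,218),(0,238),(0,237),(1,235),(0,234),(1,232),(0,231),(0,230),(1,228),(0,227),(1,225),(0,224),(0,223),(0,222),(1,220),(0,219),(1,217),(2,216),(0,221),(0,220),(0,219),(0,218),(0,217),(0,216),(2,215),(0,220),(0,227),(0,235),(0,234),(0,233),(1,231),(0,230),(1,228),(1,226),(0,225),(0,224),(0,223),(1,221),(1,219),(0,218),(0,217),(0,216),(1,214),(2,213),(0,212),(0,211),(0,210),(0,216),(0,215),(1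,213),(0,212),(1,222),(0,221),(0,220),(0,219),(0,218),(0,217),(0,216),(0,215),(1,213),(1,211),(1,209),(0,208),(0,207),(2,206),(0,216),(1,214),(0,213),(0,212),(0,222),(1,220),(0,219),(0,218),(0,217),(0,216),(1,214),(0,213),(1,211),(0,210),(0,209),(1,207),(0,206),(2,205),(0,217),(1,215),(0,214),(0,213),(0,212),(0,222),(0,221),(0,220),(1,218),(0,217),(1,215),(0,214),(0,213),(1,211),(0,210),(0,209),(0,208),(0,207),(1,205),(2,204),(2,199),(2,198),(0,199),(0,198),(0,200),(0,199),(1,197),(2,196),(0,197),(0,196),(2,195),(0,197),(0,196),(1,194),(2,193),(0,195),(0,194),(0,193),(2,192),(0,194),(0,193),(1,191),(2,190),(0,193),(0,192),(0,194),(1,195),(1,193),(1,191),(0,190),(2,189),(1,188),(0,187),(0,186),(2,185),(0,189),(0,188),(1,186),(0,185),(2,184),(0,189),(0,188),(0,187),(0,186),(1,184),(2,183),(0,189),(0,188),(0,190),(1,191),(1,189),(1,187),(0,186),(0,185),(0,184),(0,183),(0,182),(0,181),(0,180),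(1,178),(2,177),(0,185),(0,187),(0,192),(0,193),(1,191),(0,190),(0,189),(0,188),(1,186),(1,184),(0,183),(0,182),(0,181),(0,180),(1,178),(0,177),(2,176),(0,180),(0,179),(0,178),(0,177),(0,176),(0,181),(0,180),(0,182),(0,184),(0,197),(0,196),(0,195),(0,194),(0,193),(0,192),(0,198),(0,202),(0,201),(1,199),(1,197),(0,196),(0,195),(0,194),(0,193),(1,191),(0,190),(0,189),(0,188),(0,187),(0,186),(0,185),(1,183),(1,181),(1,179),(0,178),(0,177),(1,175),(2,174),(0,179),(0,187),(0,186),(0,192),(0,191),(0,190),(1,188),(0,187),(1,185),(0,184),(0,183),(0,182),(1,180),(1,178),(0,177),(0,176),(0,175),(0,174),(2,173),(0,182),(0,181),(0,199),(1,197),(0,196),(0,195),(1,193),(0,192),(0,191),(0,190),(1,188),(0,187),(0,186),(0,185),(1,183),(0,182),(1,180),(0,179),(0,178),(1,176),(0,175),(0,174),(1,172),(2,171),(0,180),(0,179),(0,178),(0,181),(0,190),(0,189),(0,188),(0,187),(1,185),(0,184),(1,182),(1,180),(0,179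),(1,177),(0,176),(0,175),(0,174),(0,173),(0,172),(0,171),(2,170),(0,192),(0,196),(0,195),(1,193),(1,191),(0,190),(0,189),(0,188),(0,187),(1,185),(0,184),(1,182),(0,181),(0,180),(1,178),(0,177),(1,175),(0,174),(0,173),(0,172),(0,171),(1,169),(2,168),(0,167),(0,182),(0,181),(0,183),(1,194),(0,193),(0,192),(0,191),(0,190),(1,188),(0,187),(0,186),(1,184),(1,182),(1,180),(0,179),(0,178),(0,177),(0,176),(0,175),(0,174),(1,172),(0,171),(0,170),(1,168),(1,166),(0,165),(0,164),(2,163),(0,178),(0,180),(0,194),(1,192),(0,191),(0,190),(1,188),(0,187),(0,186),(1,184),(0,183),(0,182),(0,181),(1,179),(1,177),(0,176),(0,175),(0,174),(1,172),(0,171),(0,170),(1,168),(0,167),(0,166),(1,164),(0,163),(2,162),(0,174),(0,173),(0,175),(0,177),(0,189),(0,193),(0,192),(1,190),(1,188),(0,187),(0,186),(1,184),(0,183),(0,182),(0,181),(0,180),(0,179),(0,178),(1,176),(1,174),(1,172),(0,171),(0,170),(1,168),(0,167),(0,1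66),(0,165),(0,164),(1,162),(2,161),(0,155),(0,154),(0,153),(0,152),(0,151),(0,150),(0,156),(1,157),(1,155),(0,154),(0,153),(0,152),(0,151),(1,149),(0,148),(0,147),(0,146),(0,145),(1,143),(2,142),(0,145),(0,158),(0,157),(0,156),(0,155),(0,154),(0,153),(0,152),(1,150),(0,149),(0,148),(1,146),(1,144),(0,143),(0,142),(0,156),(1,154),(0,153),(0,159),(0,160),(1,158),(0,157),(0,162),(0,161),(0,160),(1,158),(1,156),(0,155),(0,154),(1,152),(0,151),(0,150),(1,148),(0,147),(0,146),(1,144),(0,143),(1,141),(2,140),(0,139),(0,145),(0,159),(0,158),(0,157),(0,156),(0,155),(1,153),(0,160),(1,161),(1,159),(0,158),(0,157),(1,155),(0,154),(1,152),(0,151),(0,150),(0,149),(0,148),(1,146),(1,144),(0,143),(0,142),(0,141),(0,140),(1,138),(2,137),(0,148),(0,147),(0,146),(0,145),(0,149),(0,148),(0,150),(0,156),(0,159),(1,157),(1,155),(0,154),(0,153),(0,152),(0,162),(0,161),(0,160),(0,159),(0,158),(0,163),(0,164),(1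,162),(0,161),(0,166),(0,165),(0,164),(1,162),(1,160),(0,159),(1,157),(0,156),(0,155),(0,154),(0,153),(1,151),(1,149),(1,147),(0,146),(1,144),(0,143),(0,142),(0,141),(0,140),(0,139),(0,138),(1,136),(2,135),(0,139),(0,138),(0,137),(0,136),(0,135),(0,140),(0,139),(0,144),(0,143),(1,141),(0,140),(1,138),(0,137),(0,136),(1,134),(0,133),(0,132),(0,131),(0,130),(0,129),(0,128),(0,134),(0,145),(1,143),(0,142),(0,141),(0,140),(1,138),(0,137),(0,136),(1,152),(0,151),(0,150),(0,149),(0,148),(0,147),(0,146),(0,145),(0,144),(1,142),(0,141),(0,152),(0,151),(0,154),(0,155),(1,153),(0,152),(1,150),(0,149),(0,148),(0,147),(0,146),(1,144),(0,143),(0,149),(0,148),(0,147),(0,157),(0,156),(0,158),(0,157),(1,155),(0,154),(0,153),(0,152),(1,150),(0,149),(0,163),(0,162),(0,161),(0,160),(0,159),(0,158),(0,164),(0,168),(0,167),(1,165),(1,163),(0,162),(0,161),(0,160),(0,159),(1,157),(0,156),(0,155),(0,154),(0,153),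(0,152),(1,150),(1,148),(1,146),(0,145),(0,144),(1,142),(1,140),(0,139),(0,138),(0,137),(1,135),(1,133),(0,132),(0,131),(0,130),(0,129),(1,127),(0,126),(0,125),(0,124),(0,123),(1,121),(2,120),(0,123),(0,136),(0,135),(0,134),(0,133),(0,132),(0,131),(0,130),(1,128),(0,127),(0,126),(1,124),(1,122),(0,121),(0,120),(0,134),(1,132),(0,131),(0,137),(0,138),(1,136),(0,135),(0,140),(0,152),(0,151),(0,150),(0,149),(0,148),(0,147),(0,153),(0,160),(0,159),(0,165),(0,164),(0,163),(0,162),(0,161),(0,160),(1,158),(0,157),(0,156),(1,154),(1,152),(0,151),(0,150),(0,164),(1,162),(0,161),(1,166),(0,165),(0,170),(0,169),(0,168),(1,166),(1,164),(0,163),(0,162),(1,160),(0,159),(0,158),(1,156),(0,155),(0,154),(1,152),(0,151),(1,149),(0,148),(1,146),(0,145),(0,144),(0,143),(0,142),(0,141),(1,139),(0,138),(1,136),(1,134),(0,133),(0,132),(1,130),(0,129),(0,128),(1,126),(0,125),(0,124),(1,122),(0,121),(1,119),(2,118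),(0,117),(0,123),(0,141),(1,142),(1,140),(0,139),(0,138),(0,137),(0,136),(0,135),(0,134),(0,133),(1,131),(0,140),(0,139),(0,138),(0,142),(0,144),(0,143),(1,141),(0,140),(0,146),(0,145),(0,144),(0,147),(0,153),(0,167),(0,166),(0,165),(0,164),(0,163),(1,161),(0,168),(1,169),(1,167),(0,166),(0,165),(1,163),(0,162),(1,160),(0,159),(0,158),(0,157),(0,156),(1,154),(1,152),(0,151),(0,150),(0,149),(0,148),(1,146),(0,145),(1,143),(0,142),(0,141),(1,139),(1,137),(0,136),(0,135),(1,133),(0,132),(1,130),(0,129),(0,128),(0,127),(0,126),(1,124),(1,122),(0,121),(0,120),(0,119),(0,118),(1,116),(2,115),(0,126),(0,125),(0,124),(0,123),(0,127),(0,126),(0,128),(0,134),(0,137),(1,135),(1,133),(0,132),(0,131),(0,130),(0,139),(0,138),(0,137),(0,136),(1,140),(0,139),(0,156),(0,155),(0,154),(0,153),(0,157),(0,156),(0,158),(0,164),(0,167),(1,165),(1,163),(0,162),(0,161),(0,160),(0,170),(0,169),(0,168),(0,167),(0,1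66),(0,171),(0,172),(1,170),(0,169),(0,174),(0,173),(0,172),(1,170),(1,168),(0,167),(1,165),(0,164),(0,163),(0,162),(0,161),(1,159),(1,157),(1,155),(0,154),(1,152),(0,151),(0,150),(0,149),(0,148),(0,147),(0,146),(1,144),(0,143),(0,142),(1,140),(1,138),(0,137),(1,135),(0,134),(0,133),(0,132),(0,131),(1,129),(1,127),(1,125),(0,124),(1,122),(0,121),(0,120),(0,119),(0,118),(0,117),(0,116),(1,114),(2,113),(0,117),(0,116),(0,115),(0,114),(0,113),(0,118),(0,117),(0,122),(0,121),(1,119),(0,118),(1,116),(0,115),(0,114),(1,112),(0,111),(0,110),(0,109),(0,108),(0,107),(0,106),(0,112),(0,123),(1,121),(0,120),(0,119),(0,118),(1,116),(0,115),(0,114),(1,130),(0,129),(0,128),(0,127),(0,126),(0,125),(0,124),(0,123),(0,122),(1,120),(0,119),(0,130),(0,129),(0,132),(0,133),(1,131),(0,130),(1,128),(0,127),(0,126),(0,125),(0,124),(1,122),(0,121),(0,127),(0,126),(0,125),(0,135),(0,134),(0,136),(0,135),(1,133),(0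,132),(0,131),(0,130),(1,128),(0,127),(0,147),(0,146),(0,145),(0,144),(0,143),(0,148),(0,147),(0,152),(0,151),(1,149),(0,148),(1,146),(0,145),(0,144),(1,142),(0,141),(0,140),(0,139),(0,138),(0,137),(0,136),(0,142),(0,153),(1,151),(0,150),(0,149),(0,148),(1,146),(0,145),(0,144),(1,160),(0,159),(0,158),(0,157),(0,156),(0,155),(0,154),(0,153),(0,152),(1,150),(0,149),(0,160),(0,159),(0,162),(0,163),(1,161),(0,160),(1,158),(0,157),(0,156),(0,155),(0,154),(1,152),(0,151),(0,157),(0,156),(0,155),(0,165),(0,164),(0,166),(0,165),(1,163),(0,162),(0,161),(0,160),(1,158),(0,157),(0,171),(0,170),(0,169),(0,168),(0,167),(0,166),(0,172),(1,173),(1,171),(0,170),(0,169),(0,168),(0,167),(1,165),(0,164),(0,163),(0,162),(0,161),(0,160),(1,158),(1,156),(1,154),(0,153),(0,152),(1,150),(1,148),(0,147),(0,146),(0,145),(1,143),(1,141),(0,140),(0,139),(0,138),(0,137),(1,135),(0,134),(0,133),(0,132),(0,131),(0,130),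(1,128),(1,126),(1,124),(0,123),(0,122),(1,120),(1,118),(0,117),(0,116),(0,115),(1,113),(1,111),(0,110),(0,109),(0,108),(0,107),(1,105),(0,104),(0,103),(0,102),(0,101),(1,99),(2,98),(0,101),(0,114),(0,113),(0,112),(0,111),(0,110),(0,109),(0,108),(1,106),(0,105),(0,104),(1,102),(1,100),(0,99),(0,98),(0,112),(1,110),(0,109),(0,115),(0,116),(1,114),(0,113),(0,118),(0,130),(0,129),(0,128),(0,127),(0,126),(0,125),(0,131),(0,138),(0,137),(0,144),(0,143),(0,142),(0,141),(0,140),(0,139),(0,138),(1,136),(0,135),(0,134),(1,132),(1,130),(0,129),(0,128),(0,142),(1,140),(0,139),(0,145),(0,146),(1,144),(0,143),(0,148),(0,160),(0,159),(0,158),(0,157),(0,156),(0,155),(0,161),(0,168),(0,167),(0,174),(0,173),(0,172),(0,171),(0,170),(0,169),(0,168),(1,166),(0,165),(0,164),(1,162),(1,160),(0,159),(0,158),(0,172),(1,170),(0,169),(0,175),(0,176),(1,174),(0,173),(0,177),(0,176),(1,174),(1,172),(0,171),(0,170),(1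,168),(0,167),(0,166),(1,164),(0,163),(0,162),(1,160),(0,159),(1,157),(0,156),(1,154),(0,153),(0,152),(0,151),(0,150),(0,149),(1,147),(0,146),(1,144),(1,142),(0,141),(0,140),(1,138),(0,137),(0,136),(1,134),(0,133),(0,132),(1,130),(0,129),(1,127),(0,126),(1,124),(0,123),(0,122),(0,121),(0,120),(0,119),(1,117),(0,116),(1,114),(1,112),(0,111),(0,110),(1,108),(0,107),(0,106),(1,104),(0,103),(0,102),(1,100),(0,99),(1,97),(2,96),(0,95),(0,101),(0,119),(1,120),(1,118),(0,117),(0,116),(0,115),(0,114),(0,113),(0,112),(0,111),(1,109),(0,118),(0,117),(0,116),(0,120),(0,122),(0,121),(1,119),(0,118),(0,124),(0,123),(0,122),(0,125),(0,131),(0,149),(1,150),(1,148),(0,147),(0,146),(0,145),(0,144),(0,143),(0,142),(0,141),(1,139),(0,148),(0,147),(0,146),(0,150),(0,152),(0,151),(1,149),(0,148),(0,154),(0,153),(0,152),(0,155),(0,161),(0,175),(0,174),(0,173),(0,172),(0,171),(1,169),(0,177),(0,176),(0,178),(0,1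80),(0,179),(1,177),(1,175),(0,174),(0,173),(1,171),(0,170),(1,168),(0,167),(0,166),(0,165),(0,164),(1,162),(1,160),(0,159),(0,158),(0,157),(0,156),(1,154),(0,153),(1,151),(0,150),(0,149),(1,147),(1,145),(0,144),(0,143),(1,141),(0,140),(1,138),(0,137),(0,136),(0,135),(0,134),(1,132),(1,130),(0,129),(0,128),(0,127),(0,126),(1,124),(0,123),(1,121),(0,120),(0,119),(1,117),(1,115),(0,114),(0,113),(1,111),(0,110),(1,108),(0,107),(0,106),(0,105),(0,104),(1,102),(1,100),(0,99),(0,98),(0,97),(0,96),(1,94),(2,93),(0,104),(0,103),(0,102),(0,101),(0,105),(0,104),(0,106),(0,112),(0,115),(1,113),(1,111),(0,110),(0,109),(0,108),(0,117),(0,116),(0,115),(0,114),(1,118),(0,117),(0,134),(0,133),(0,132),(0,131),(0,135),(0,134),(0,136),(0,142),(0,145),(1,143),(1,141),(0,140),(0,139),(0,138),(0,147),(0,146),(0,145),(0,144),(1,148),(0,147),(0,164),(0,163),(0,162),(0,161),(0,165),(0,164),(0,166),(0,172),(0,175),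(1,173),(1,171),(0,170),(0,169),(0,168),(0,177),(0,176),(0,175),(0,174),(1,178),(0,177),(0,180),(1,178),(1,176),(0,175),(1,173),(0,172),(0,171),(0,170),(0,169),(1,167),(1,165),(1,163),(0,162),(1,160),(0,159),(0,158),(0,157),(0,156),(0,155),(0,154),(1,152),(0,151),(0,150),(1,148),(1,146),(0,145),(1,143),(0,142),(0,141),(0,140),(0,139),(1,137),(1,135),(1,133),(0,132),(1,130),(0,129),(0,128),(0,127),(0,126),(0,125),(0,124),(1,122),(0,121),(0,120),(1,118),(1,116),(0,115),(1,113),(0,112),(0,111),(0,110),(0,109),(1,107),(1,105),(1,103),(0,102),(1,100),(0,99),(0,98),(0,97),(0,96),(0,95),(0,94),(1,92),(2,91),(0,95),(0,94),(0,93),(0,92),(0,91),(0,96),(0,95),(0,100),(0,99),(1,97),(0,96),(1,94),(0,93),(0,92),(1,90),(2,89),(2,88),(0,97),(1,95),(0,94),(0,93),(0,92),(1,90),(0,89),(0,88),(2,87),(0,87),(2,86),(0,86),(2,85),(0,85),(2,84),(0,85),(0,84),(2,83),(0,84),(0,83),(2,82),(0,87),(0,86),(0,85),(1,83)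,(0,82),(2,81),(2,80),(2,79),(2,78),(1,78),(2,77),(2,76),(0,76),(2,75),(1,78),(0,77),(0,76),(0,75),(2,74),(0,76),(0,75),(0,74),(2,73),(0,76),(0,77),(1,75),(0,74),(0,73),(2,72),(0,72),(2,71),(0,71),(2,70),(0,70),(2,69),(2,68),(0,69),(0,68),(2,67),(0,68),(0,67),(2,66),(2,65),(0,66),(0,65),(2,64),(1,65),(0,64),(2,63),(2,62),(2,61),(2,60),(0,65),(0,64),(0,63),(0,62),(0,61),(0,66),(0,65),(0,70),(0,69),(1,67),(0,66),(1,64),(0,63),(0,62),(1,60),(2,59),(2,58),(0,67),(1,65),(0,64),(0,63),(0,62),(1,60),(0,59),(0,58),(2,57),(0,57),(2,56),(0,56),(2,55),(0,55),(2,54),(0,55),(0,54),(2,53),(0,54),(0,53),(2,52),(0,57),(0,56),(0,55),(1,53),(0,52),(2,51),(2,50),(2,49),(2,48),(1,48),(2,47),(2,46),(0,46),(2,45),(1,48),(0,47),(0,46),(0,45),(2,44),(0,46),(0,45),(0,44),(2,43),(0,46),(0,47),(1,45),(0,44),(0,43),(2,42),(0,42),(2,41),(0,41),(2,40),(0,40),(2,39),(2,38),(0,39),(0,38),(2,37),(0,38),(0,37),(2,36),(2,35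),(0,36),(0,35),(2,34),(1,35),(0,34),(2,33),(2,32),(2,31),(2,30),(0,35),(0,34),(0,33),(0,32),(0,31),(0,36),(0,35),(0,40),(0,39),(1,37),(0,36),(1,34),(0,33),(0,32),(1,30),(2,29),(2,28),(0,37),(1,35),(0,34),(0,33),(0,32),(1,30),(0,29),(0,28),(2,27),(0,27),(2,26),(0,26),(2,25),(0,25),(2,24),(0,25),(0,24),(2,23),(0,24),(0,23),(2,22),(0,27),(0,26),(0,25),(1,23),(0,22),(2,21),(2,20),(2,19),(2,18),(1,18),(2,17),(2,16),(0,16),(2,15),(1,18),(0,17),(0,16),(0,15),(2,14),(0,16),(0,15),(0,14),(2,13),(0,16),(0,17),(1,15),(0,14),(0,13),(2,12),(0,12),(2,11),(0,11),(2,10),(0,10),(2,9),(2,8),(0,9),(0,8),(2,7),(0,8),(0,7),(2,6),(2,5),(0,6),(0,5),(2,4),(1,5),(0,4),(2,3),(2,2),(2,1),(2,0)]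

/-- A list of moves. -/
def cert_xb : List (ℕ × ℕ) := [(0,163),(0,162),(0,161),(0,160),(0,159),(0,158),(2,157),(0,159),(0,158),(0,157),(0,156),(0,155),(1,153),(0,152),(1,160),(0,159),(0,158),(0,157),(1,155),(0,154),(0,164),(0,163),(0,162),(0,161),(1,159),(0,158),(1,165),(0,164),(0,163),(1,161),(0,160),(0,164),(0,176),(0,175),(0,174),(0,173),(0,172),(0,171),(0,170),(1,168),(0,167),(1,165),(1,163),(0,162),(0,161),(1,159),(1,157),(0,156),(0,155),(1,153),(1,151),(0,150),(2,149),(0,159),(0,158),(1,160),(0,159),(1,157),(0,156),(0,155),(0,154),(0,153),(0,162),(1,160),(0,159),(1,157),(0,156),(0,155),(0,163),(1,164),(1,162),(0,161),(0,160),(0,159),(1,157),(0,156),(1,154),(1,152),(0,151),(0,150),(0,149),(0,148),(0,152),(0,154),(0,166),(0,165),(1,167),(0,166),(1,164),(0,163),(0,162),(0,161),(0,160),(0,159),(1,157),(0,156),(0,155),(1,153),(1,151),(0,150),(0,162),(0,161),(0,163),(0,166),(0,165),(0,17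2),(0,171),(0,170),(0,169),(0,168),(0,167),(0,166),(1,164),(1,162),(1,160),(0,159),(0,158),(0,157),(0,156),(0,166),(0,165),(0,168),(1,173),(0,172),(0,171),(0,170),(0,169),(1,167),(0,166),(1,164),(0,163),(0,162),(1,160),(0,159),(0,163),(0,177),(0,176),(0,175),(0,174),(1,172),(0,171),(0,170),(1,178),(0,177),(0,176),(1,174),(0,173),(0,177),(0,189),(0,188),(0,187),(0,186),(0,185),(0,184),(0,183),(1,181),(0,180),(1,178),(1,176),(0,175),(0,174),(1,172),(0,171),(1,169),(0,168),(0,167),(0,166),(1,164),(1,162),(0,161),(0,160),(1,158),(0,157),(1,155),(0,154),(0,153),(1,151),(1,149),(1,147),(2,146),(2,145),(0,145),(2,144),(0,145),(0,144),(0,143),(2,142),(1,144),(0,143),(1,146),(0,145),(0,144),(1,142),(2,141),(0,147),(0,146),(0,145),(1,143),(0,148),(0,147),(1,145),(0,144),(1,142),(0,141),(2,140),(0,148),(0,147),(1,149),(0,148),(1,146),(0,145),(0,144),(0,143),(0,142),(0,141),(0,152),(0,151),(1,149),(0,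148),(1,146),(0,145),(0,144),(0,143),(0,152),(1,153),(1,151),(0,150),(0,149),(0,148),(1,146),(0,145),(0,155),(0,154),(1,156),(0,155),(1,153),(0,152),(0,151),(0,150),(0,149),(0,148),(1,146),(1,144),(1,142),(1,140),(2,139),(2,138),(0,138),(2,137),(0,145),(0,144),(0,146),(0,149),(0,148),(0,153),(0,152),(0,151),(0,150),(0,149),(1,147),(1,145),(1,143),(0,142),(0,141),(0,149),(0,148),(0,151),(0,154),(0,153),(0,152),(1,150),(0,149),(1,147),(0,146),(0,145),(1,143),(0,142),(1,140),(0,139),(0,138),(0,137),(2,136),(0,154),(1,155),(1,153),(0,152),(0,151),(0,150),(0,149),(0,148),(0,147),(0,146),(0,145),(0,153),(0,152),(0,155),(0,158),(0,157),(0,156),(1,154),(0,153),(1,151),(0,150),(0,149),(0,148),(0,158),(0,157),(1,159),(0,158),(1,156),(0,155),(0,154),(0,153),(1,151),(0,150),(0,161),(0,160),(0,159),(0,158),(0,157),(1,155),(0,154),(1,162),(0,161),(0,160),(0,159),(1,157),(0,156),(0,167),(0,166),(0,165),(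0,164),(0,163),(1,161),(0,160),(1,168),(0,167),(0,166),(0,165),(1,163),(0,162),(0,172),(0,171),(0,170),(0,169),(1,167),(0,166),(1,173),(0,172),(0,171),(1,169),(0,168),(0,172),(0,184),(0,183),(0,182),(0,181),(0,180),(0,179),(0,178),(1,176),(0,175),(1,173),(1,171),(0,170),(0,169),(1,167),(1,165),(0,164),(0,163),(1,161),(1,159),(0,158),(0,157),(1,155),(1,153),(0,152),(0,151),(1,149),(1,147),(0,146),(1,144),(0,143),(0,142),(0,141),(0,169),(0,168),(1,170),(0,169),(1,167),(0,166),(0,165),(0,164),(0,163),(0,172),(1,170),(0,169),(1,167),(0,166),(0,165),(0,173),(1,174),(1,172),(0,171),(0,170),(0,169),(1,167),(0,166),(1,164),(1,162),(0,161),(0,160),(0,159),(0,158),(0,157),(0,156),(0,155),(0,154),(1,152),(0,162),(0,164),(0,176),(0,175),(1,177),(0,176),(1,174),(0,173),(0,172),(0,171),(0,170),(0,169),(1,167),(0,166),(0,165),(1,163),(1,161),(0,160),(0,159),(0,172),(0,171),(0,173),(0,176),(0,175),(0,182)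,(0,181),(0,180),(0,179),(0,178),(0,177),(0,176),(1,174),(1,172),(1,170),(0,169),(0,168),(0,167),(0,166),(0,176),(0,175),(0,178),(1,183),(0,182),(0,181),(0,180),(0,179),(1,177),(0,176),(1,174),(0,173),(0,172),(1,170),(0,169),(0,173),(0,187),(0,186),(0,185),(0,184),(1,182),(0,181),(0,180),(1,188),(0,187),(0,186),(1,184),(0,183),(0,187),(0,199),(0,198),(0,197),(0,196),(0,195),(0,194),(0,193),(1,191),(0,190),(1,188),(1,186),(0,185),(0,184),(1,182),(0,181),(1,179),(0,178),(0,177),(0,176),(1,174),(1,172),(0,171),(0,170),(1,168),(0,167),(1,165),(0,164),(0,163),(1,161),(0,160),(1,158),(0,157),(0,156),(1,154),(0,153),(1,151),(0,150),(0,149),(1,147),(0,146),(1,144),(0,143),(0,142),(1,140),(0,139),(0,138),(0,137),(0,136),(2,135),(0,134),(0,133),(1,131),(0,130),(0,135),(1,133),(0,132),(0,136),(1,137),(1,135),(0,134),(0,133),(1,131),(1,129),(0,128),(2,127),(0,138),(0,137),(0,136),(0,139),(0,140),(1,13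8),(0,137),(1,135),(0,134),(0,133),(0,132),(0,131),(1,141),(0,140),(1,138),(0,137),(1,135),(0,134),(0,133),(0,143),(0,142),(0,141),(1,144),(0,143),(1,146),(0,145),(0,144),(1,142),(1,140),(0,139),(0,138),(0,137),(1,135),(0,134),(1,132),(1,130),(0,129),(0,128),(0,127),(0,126),(1,124),(2,123),(0,128),(0,130),(1,147),(0,146),(0,145),(0,144),(0,143),(0,142),(0,141),(0,147),(0,149),(0,150),(1,148),(1,146),(0,145),(0,144),(0,151),(0,152),(1,150),(0,149),(0,148),(1,146),(0,145),(1,143),(0,142),(1,140),(0,139),(0,138),(0,137),(0,136),(0,135),(1,133),(0,132),(0,131),(1,129),(1,127),(0,126),(1,124),(0,123),(2,122),(1,124),(0,123),(0,122),(0,121),(2,120),(0,124),(1,122),(0,121),(0,125),(0,134),(0,133),(0,135),(0,138),(0,137),(0,150),(0,149),(0,148),(0,147),(0,151),(0,150),(0,149),(1,152),(0,151),(1,154),(0,153),(0,152),(1,150),(1,148),(1,146),(0,145),(0,144),(0,143),(0,142),(0,141),(0,140),(0,139),(0,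138),(1,136),(1,134),(1,132),(0,131),(0,130),(0,129),(0,128),(1,126),(1,124),(0,123),(0,122),(1,120),(2,119),(0,126),(0,125),(0,124),(0,123),(1,121),(0,136),(0,135),(0,138),(0,144),(0,146),(0,155),(0,154),(0,153),(1,151),(0,156),(0,155),(1,153),(0,152),(1,150),(0,149),(0,148),(0,147),(1,145),(1,143),(0,142),(0,141),(0,140),(0,139),(1,137),(0,136),(1,134),(0,133),(0,132),(1,130),(0,129),(1,127),(0,126),(0,125),(1,123),(0,122),(1,120),(0,119),(2,118),(0,127),(0,126),(0,125),(0,128),(0,131),(1,129),(1,127),(0,126),(1,124),(0,123),(0,122),(0,121),(0,120),(0,119),(1,131),(0,130),(0,129),(1,127),(0,126),(1,124),(0,123),(0,122),(0,121),(0,130),(0,133),(1,131),(1,129),(0,128),(0,127),(0,126),(1,124),(0,123),(0,134),(0,133),(0,132),(0,135),(0,156),(0,155),(1,157),(0,156),(1,154),(0,153),(0,152),(0,151),(0,150),(0,149),(0,160),(0,159),(1,157),(0,156),(1,154),(0,153),(0,152),(0,151),(0,160),(1,161),(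1,159),(0,158),(0,157),(0,156),(1,154),(0,153),(0,163),(0,162),(1,164),(0,163),(1,161),(0,160),(0,159),(0,158),(0,157),(0,156),(1,154),(1,152),(1,150),(1,148),(0,147),(0,146),(0,145),(0,144),(0,143),(0,142),(1,140),(0,139),(0,138),(1,136),(1,134),(0,133),(1,131),(0,130),(0,129),(0,128),(0,127),(0,126),(1,124),(1,122),(1,120),(1,118),(2,117),(2,116),(0,116),(2,115),(0,123),(0,122),(0,124),(0,127),(0,126),(0,132),(0,131),(0,130),(0,129),(0,128),(0,127),(1,125),(1,123),(1,121),(0,120),(0,119),(0,127),(0,126),(0,129),(0,142),(0,141),(0,144),(0,153),(0,152),(0,154),(0,157),(0,156),(0,161),(0,160),(0,159),(0,158),(0,157),(1,155),(1,153),(1,151),(0,150),(0,149),(0,157),(0,156),(0,159),(0,162),(0,161),(0,160),(1,158),(0,157),(1,155),(0,154),(0,153),(1,151),(0,150),(1,148),(0,147),(0,146),(0,145),(1,143),(0,142),(1,140),(0,139),(0,138),(1,136),(0,135),(1,133),(0,132),(0,131),(0,130),(1,128),(0,127)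,(1,125),(0,124),(0,123),(1,121),(0,120),(1,118),(0,117),(0,116),(0,115),(2,114),(0,113),(0,112),(0,111),(1,109),(0,108),(0,114),(0,113),(1,111),(0,110),(0,115),(0,114),(0,116),(0,133),(0,132),(0,134),(0,137),(1,135),(1,133),(1,131),(0,130),(0,129),(0,128),(0,127),(0,126),(0,125),(0,124),(0,123),(0,131),(0,130),(0,133),(1,137),(0,136),(0,135),(0,134),(1,132),(0,131),(1,129),(0,128),(0,127),(0,126),(0,136),(0,135),(0,139),(1,137),(0,136),(1,134),(0,133),(0,132),(0,131),(1,129),(0,128),(1,140),(0,139),(0,138),(0,137),(0,136),(0,135),(1,133),(0,132),(0,142),(1,140),(0,139),(0,138),(0,137),(1,135),(0,134),(0,143),(0,142),(0,141),(1,139),(0,138),(0,144),(0,143),(1,141),(0,140),(0,145),(0,144),(0,146),(0,162),(1,163),(1,161),(0,160),(0,159),(0,158),(0,157),(0,156),(0,155),(0,154),(0,153),(0,161),(0,160),(0,163),(0,166),(0,165),(0,164),(1,162),(0,161),(1,159),(0,158),(0,157),(0,156),(0,166),(0,16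5),(1,167),(0,166),(1,164),(0,163),(0,162),(0,161),(1,159),(0,158),(0,169),(0,168),(0,167),(0,166),(0,165),(1,163),(0,162),(1,170),(0,169),(0,168),(0,167),(1,165),(0,164),(0,175),(0,174),(0,173),(0,172),(0,171),(1,169),(0,168),(1,176),(0,175),(0,174),(0,173),(1,171),(0,170),(0,180),(0,179),(0,178),(0,177),(1,175),(0,174),(1,181),(0,180),(0,179),(1,177),(0,176),(0,180),(0,192),(0,191),(0,190),(0,189),(0,188),(0,187),(0,186),(1,184),(0,183),(1,181),(1,179),(0,178),(0,177),(1,175),(1,173),(0,172),(0,171),(1,169),(1,167),(0,166),(0,165),(1,163),(1,161),(0,160),(0,159),(1,157),(1,155),(0,154),(1,152),(0,151),(0,150),(0,149),(1,147),(1,145),(1,143),(0,142),(0,141),(1,139),(1,137),(0,136),(0,135),(1,133),(1,131),(0,130),(0,129),(1,127),(1,125),(0,124),(1,122),(0,121),(0,120),(0,119),(1,117),(1,115),(1,113),(0,112),(0,111),(1,109),(1,107),(0,106),(2,105),(0,117),(0,116),(0,115),(0,114),(0,118),(0,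117),(1,119),(0,118),(1,116),(0,115),(1,113),(0,112),(0,111),(0,110),(0,109),(0,121),(1,119),(0,118),(1,116),(0,115),(1,113),(0,112),(0,111),(1,122),(0,121),(0,120),(0,119),(0,124),(1,122),(0,121),(0,125),(0,147),(0,146),(0,145),(0,144),(0,148),(0,147),(1,149),(0,148),(1,146),(0,145),(1,143),(0,142),(0,141),(0,140),(0,139),(0,151),(1,149),(0,148),(1,146),(0,145),(1,143),(0,142),(0,141),(1,152),(0,151),(0,150),(0,149),(0,154),(1,152),(0,151),(0,155),(0,175),(0,174),(1,176),(0,175),(1,173),(0,172),(0,171),(0,170),(0,169),(0,178),(1,176),(0,175),(1,173),(0,172),(0,171),(0,179),(1,180),(1,178),(0,177),(0,176),(0,175),(1,173),(0,172),(1,170),(1,168),(0,167),(0,166),(0,165),(0,164),(0,163),(0,162),(0,161),(0,160),(1,158),(1,156),(1,154),(0,153),(0,152),(1,150),(1,148),(0,147),(0,146),(0,145),(1,143),(0,142),(1,140),(1,138),(0,137),(0,136),(0,135),(0,134),(0,133),(0,132),(0,131),(0,130),(1,128),(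1,126),(1,124),(0,123),(0,122),(1,120),(1,118),(0,117),(0,116),(0,115),(1,113),(0,112),(1,110),(1,108),(0,107),(0,106),(0,105),(0,104),(1,102),(2,101),(0,106),(0,108),(0,126),(1,127),(1,125),(0,124),(0,123),(0,122),(0,121),(0,120),(0,119),(0,125),(0,127),(0,129),(0,128),(1,126),(1,124),(0,123),(0,122),(0,130),(0,129),(0,136),(0,138),(0,156),(1,157),(1,155),(0,154),(0,153),(0,152),(0,151),(0,150),(0,149),(0,155),(0,157),(0,159),(0,158),(1,156),(1,154),(0,153),(0,152),(0,160),(0,159),(0,166),(0,168),(0,180),(0,179),(1,181),(0,180),(1,178),(0,177),(0,176),(0,175),(0,174),(0,173),(1,171),(0,170),(0,169),(1,167),(1,165),(0,164),(0,163),(1,161),(0,160),(1,158),(0,157),(0,156),(1,154),(0,153),(1,151),(0,150),(1,148),(0,147),(0,146),(0,145),(0,144),(0,143),(1,141),(0,140),(0,139),(1,137),(1,135),(0,134),(0,133),(1,131),(0,130),(1,128),(0,127),(0,126),(1,124),(0,123),(1,121),(0,120),(1,118),(0,117)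,(0,116),(0,115),(0,114),(0,113),(1,111),(0,110),(0,109),(1,107),(1,105),(0,104),(1,102),(0,101),(2,100),(1,102),(0,101),(0,100),(0,99),(2,98),(0,102),(1,100),(0,99),(0,103),(0,112),(0,111),(0,113),(0,116),(0,115),(0,129),(0,128),(0,127),(0,126),(0,125),(1,130),(0,129),(0,128),(0,127),(0,132),(1,130),(0,129),(0,133),(0,142),(0,141),(0,143),(0,146),(0,145),(0,159),(0,158),(0,157),(0,156),(0,155),(1,160),(0,159),(0,158),(0,157),(0,162),(1,160),(0,159),(0,163),(0,172),(0,171),(0,173),(0,176),(0,175),(0,182),(0,181),(0,180),(0,179),(0,178),(0,177),(0,176),(1,174),(1,172),(1,170),(0,169),(0,168),(0,167),(0,166),(1,164),(1,162),(0,161),(0,160),(1,158),(1,156),(1,154),(0,153),(0,152),(0,151),(0,150),(0,149),(0,148),(0,147),(0,146),(1,144),(1,142),(1,140),(0,139),(0,138),(0,137),(0,136),(1,134),(1,132),(0,131),(0,130),(1,128),(1,126),(1,124),(0,123),(0,122),(0,121),(0,120),(0,119),(0,118),(0,117),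(0,116),(1,114),(1,112),(1,110),(0,109),(0,108),(0,107),(0,106),(1,104),(1,102),(0,101),(0,100),(1,98),(2,97),(0,104),(0,103),(0,102),(0,101),(1,99),(0,114),(0,113),(0,116),(0,122),(0,124),(0,134),(0,133),(0,132),(0,131),(1,129),(0,144),(0,143),(0,146),(0,152),(0,154),(0,164),(0,163),(0,162),(0,161),(1,159),(0,174),(0,173),(0,176),(1,181),(0,180),(0,179),(0,178),(0,177),(1,175),(0,174),(1,172),(0,171),(0,170),(1,168),(0,167),(1,165),(0,164),(0,163),(1,161),(0,160),(1,158),(0,157),(0,156),(0,155),(1,153),(1,151),(0,150),(0,149),(0,148),(0,147),(1,145),(0,144),(1,142),(0,141),(0,140),(1,138),(0,137),(1,135),(0,134),(0,133),(1,131),(0,130),(1,128),(0,127),(0,126),(0,125),(1,123),(1,121),(0,120),(0,119),(0,118),(0,117),(1,115),(0,114),(1,112),(0,111),(0,110),(1,108),(0,107),(1,105),(0,104),(0,103),(1,101),(0,100),(1,98),(0,97),(2,96),(0,105),(0,104),(0,103),(0,106),(0,109),(1,107),(1,105),(0,1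04),(1,102),(0,101),(0,100),(0,99),(0,98),(0,97),(1,109),(0,108),(0,107),(1,105),(0,104),(1,102),(0,101),(0,100),(0,99),(0,108),(0,111),(1,109),(1,107),(0,106),(0,105),(0,104),(1,102),(0,101),(0,112),(0,111),(0,110),(0,113),(0,135),(0,134),(0,133),(0,136),(0,139),(1,137),(1,135),(0,134),(1,132),(0,131),(0,130),(0,129),(0,128),(0,127),(1,139),(0,138),(0,137),(1,135),(0,134),(1,132),(0,131),(0,130),(0,129),(0,138),(0,141),(1,139),(1,137),(0,136),(0,135),(0,134),(1,132),(0,131),(0,142),(0,141),(0,140),(0,143),(0,165),(0,164),(0,163),(0,166),(0,169),(1,167),(1,165),(0,164),(1,162),(0,161),(0,160),(0,159),(0,158),(0,157),(1,169),(0,168),(0,167),(1,165),(0,164),(1,162),(0,161),(0,160),(0,159),(0,168),(0,171),(1,169),(1,167),(0,166),(0,165),(0,164),(1,162),(0,161),(0,172),(0,171),(0,170),(0,173),(0,183),(0,182),(0,181),(0,180),(1,178),(0,177),(0,176),(1,174),(1,172),(0,171),(1,169),(0,168),(0,167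),(0,166),(0,165),(0,164),(1,162),(1,160),(1,158),(1,156),(0,155),(0,154),(0,153),(0,152),(0,151),(0,150),(1,148),(0,147),(0,146),(1,144),(1,142),(0,141),(1,139),(0,138),(0,137),(0,136),(0,135),(0,134),(1,132),(1,130),(1,128),(1,126),(0,125),(0,124),(0,123),(0,122),(0,121),(0,120),(1,118),(0,117),(0,116),(1,114),(1,112),(0,111),(1,109),(0,108),(0,107),(0,106),(0,105),(0,104),(1,102),(1,100),(1,98),(1,96),(2,95),(2,94),(0,94),(2,93),(0,101),(0,100),(0,102),(0,105),(0,104),(0,110),(0,109),(0,108),(0,107),(0,106),(0,105),(1,103),(1,101),(1,99),(0,98),(0,97),(0,105),(0,104),(0,107),(0,120),(0,119),(0,122),(0,131),(0,130),(0,132),(0,135),(0,134),(0,140),(0,139),(0,138),(0,137),(0,136),(0,135),(1,133),(1,131),(1,129),(0,128),(0,127),(0,135),(0,134),(0,137),(0,150),(0,149),(0,152),(0,161),(0,160),(0,162),(0,165),(0,164),(0,170),(0,169),(0,168),(0,167),(0,166),(0,165),(1,163),(1,161),(1,159),(0,15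8),(0,157),(0,165),(0,164),(0,167),(1,178),(0,177),(0,176),(1,174),(0,173),(1,171),(0,170),(0,169),(0,168),(1,166),(0,165),(1,163),(0,162),(0,161),(1,159),(0,158),(1,156),(0,155),(0,154),(0,153),(1,151),(0,150),(1,148),(0,147),(0,146),(1,144),(0,143),(1,141),(0,140),(0,139),(0,138),(1,136),(0,135),(1,133),(0,132),(0,131),(1,129),(0,128),(1,126),(0,125),(0,124),(0,123),(1,121),(0,120),(1,118),(0,117),(0,116),(1,114),(0,113),(1,111),(0,110),(0,109),(0,108),(1,106),(0,105),(1,103),(0,102),(0,101),(1,99),(0,98),(1,96),(0,95),(0,94),(0,93),(2,92),(0,96),(0,95),(0,97),(1,98),(1,96),(1,94),(0,93),(0,92),(0,91),(2,90),(0,92),(0,91),(0,90),(2,89),(0,92),(1,96),(0,95),(0,94),(0,93),(1,91),(0,90),(0,89),(2,88),(0,88),(2,87),(0,87),(2,86),(0,86),(2,85),(2,84),(0,85),(0,84),(2,83),(0,86),(1,84),(0,83),(2,82),(2,81),(2,80),(2,79),(1,79),(2,78),(2,77),(0,77),(2,76),(0,81),(0,80),(0,82),(0,85),(1,83),(1,8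1),(1,79),(0,78),(0,77),(0,76),(2,75),(0,77),(0,76),(0,75),(2,74),(0,77),(1,81),(0,80),(0,79),(0,78),(1,76),(0,75),(0,74),(2,73),(0,73),(2,72),(0,72),(2,71),(0,71),(2,70),(2,69),(0,70),(0,69),(2,68),(0,71),(1,69),(0,68),(2,67),(2,66),(2,65),(2,64),(1,64),(2,63),(2,62),(0,62),(2,61),(0,66),(0,65),(0,67),(1,68),(1,66),(1,64),(0,63),(0,62),(0,61),(2,60),(0,62),(0,61),(0,60),(2,59),(0,62),(1,66),(0,65),(0,64),(0,63),(1,61),(0,60),(0,59),(2,58),(0,58),(2,57),(0,57),(2,56),(0,56),(2,55),(2,54),(0,55),(0,54),(2,53),(0,56),(1,54),(0,53),(2,52),(2,51),(2,50),(2,49),(1,49),(2,48),(2,47),(0,47),(2,46),(0,51),(0,50),(0,52),(0,55),(1,53),(1,51),(1,49),(0,48),(0,47),(0,46),(2,45),(0,47),(0,46),(0,45),(2,44),(0,47),(1,51),(0,50),(0,49),(0,48),(1,46),(0,45),(0,44),(2,43),(0,43),(2,42),(0,42),(2,41),(0,41),(2,40),(2,39),(0,40),(0,39),(2,38),(0,41),(1,39),(0,38),(2,37),(2,36),(2,35),(2,34),(1,34),(2,33),(2,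32),(0,32),(2,31),(0,36),(0,35),(0,37),(1,38),(1,36),(1,34),(0,33),(0,32),(0,31),(2,30),(0,32),(0,31),(0,30),(2,29),(0,32),(1,36),(0,35),(0,34),(0,33),(1,31),(0,30),(0,29),(2,28),(0,28),(2,27),(0,27),(2,26),(0,26),(2,25),(2,24),(0,25),(0,24),(2,23),(0,26),(1,24),(0,23),(2,22),(2,21),(2,20),(2,19),(1,19),(2,18),(2,17),(0,17),(2,16),(0,21),(0,20),(0,22),(0,25),(1,23),(1,21),(1,19),(0,18),(0,17),(0,16),(2,15),(0,17),(0,16),(0,15),(2,14),(0,17),(1,21),(0,20),(0,19),(0,18),(1,16),(0,15),(0,14),(2,13),(0,13),(2,12),(0,12),(2,11),(0,11),(2,10),(2,9),(0,10),(0,9),(2,8),(0,11),(1,9),(0,8),(2,7),(2,6),(2,5),(2,4),(1,4),(2,3),(2,2),(0,2),(2,1),(2,0)]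

/-- A list of moves. -/
def cert_xc : List (ℕ × ℕ) := [(0,160),(0,159),(0,158),(0,157),(0,156),(1,154),(0,166),(0,165),(0,164),(0,163),(0,162),(0,161),(1,159),(1,157),(1,162),(0,161),(0,160),(1,167),(0,166),(0,165),(0,164),(1,162),(0,161),(1,159),(0,158),(1,156),(0,155),(1,153),(2,152),(0,163),(0,162),(0,161),(0,160),(0,159),(0,158),(0,157),(0,156),(0,155),(0,154),(0,153),(0,152),(2,151),(0,158),(0,157),(0,159),(1,160),(1,158),(1,156),(0,155),(0,154),(0,153),(0,152),(0,151),(0,150),(0,149),(0,158),(1,156),(0,155),(0,154),(0,153),(0,160),(0,159),(0,158),(1,156),(0,155),(0,165),(0,164),(0,163),(0,162),(0,161),(0,160),(0,159),(0,158),(1,156),(1,154),(1,152),(0,151),(1,163),(0,162),(0,161),(0,160),(0,165),(1,163),(0,162),(0,171),(0,170),(0,169),(0,168),(0,167),(0,166),(0,165),(1,163),(1,161),(1,159),(0,158),(0,157),(0,167),(0,177),(0,176),(0,175),(0,174),(0,173),(0,172),(1,170),(1,168),(1,16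6),(0,165),(0,164),(1,173),(0,172),(0,171),(1,178),(0,177),(0,176),(0,175),(1,173),(0,172),(1,170),(0,169),(0,168),(1,166),(0,165),(1,163),(0,162),(0,161),(1,159),(0,158),(1,156),(0,155),(0,154),(1,152),(1,150),(1,148),(2,147),(2,146),(0,146),(2,145),(0,146),(0,145),(0,144),(2,143),(1,145),(0,144),(1,147),(0,146),(0,145),(1,143),(2,142),(0,155),(0,154),(0,156),(1,157),(1,155),(1,153),(0,152),(0,151),(0,150),(0,149),(0,148),(0,147),(0,146),(1,144),(0,153),(0,155),(1,159),(0,158),(0,157),(0,156),(1,154),(1,152),(0,151),(0,150),(0,149),(0,148),(1,146),(0,145),(1,143),(0,142),(2,141),(0,148),(0,149),(1,147),(0,146),(0,145),(0,144),(0,143),(0,142),(0,152),(1,150),(0,149),(1,147),(0,146),(0,145),(0,144),(1,152),(0,151),(0,150),(0,149),(1,147),(0,146),(1,154),(0,153),(0,152),(0,151),(0,150),(0,149),(1,147),(1,145),(1,143),(1,141),(2,140),(2,139),(0,139),(2,138),(0,146),(0,145),(0,147),(0,150),(0,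149),(0,158),(0,157),(0,156),(0,155),(0,154),(0,153),(0,152),(0,151),(0,150),(1,148),(1,146),(1,144),(0,143),(0,142),(0,150),(0,149),(0,152),(0,159),(0,171),(0,170),(0,169),(0,168),(0,167),(0,166),(0,165),(1,163),(0,162),(1,160),(1,158),(0,157),(0,156),(0,155),(0,154),(0,153),(1,151),(0,150),(1,148),(0,147),(0,146),(1,144),(0,143),(1,141),(0,140),(0,139),(0,138),(0,156),(0,157),(1,155),(0,154),(0,153),(0,152),(0,151),(0,150),(0,149),(0,148),(0,155),(0,160),(1,158),(0,157),(0,156),(1,154),(0,153),(0,152),(0,151),(1,160),(0,159),(0,158),(0,157),(0,156),(1,154),(0,153),(0,159),(0,163),(0,162),(0,161),(0,160),(1,158),(0,157),(0,161),(0,164),(0,163),(0,162),(1,160),(0,159),(0,164),(0,169),(0,168),(0,167),(0,166),(0,165),(1,163),(0,174),(0,173),(0,172),(0,171),(0,170),(1,168),(1,166),(1,171),(0,170),(0,169),(1,175),(0,174),(0,173),(1,171),(0,170),(1,168),(0,167),(1,165),(0,164),(1,162),(0,161),(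0,160),(1,158),(1,156),(0,155),(0,154),(1,152),(1,150),(0,149),(1,147),(0,146),(0,145),(0,144),(0,170),(0,169),(0,171),(1,172),(1,170),(1,168),(0,167),(0,166),(0,165),(0,164),(0,163),(0,162),(0,161),(0,160),(0,159),(0,158),(0,157),(1,155),(0,170),(1,168),(0,167),(0,166),(0,165),(0,172),(0,171),(0,170),(1,168),(0,167),(0,177),(0,176),(0,175),(0,174),(0,173),(0,172),(0,171),(0,170),(1,168),(1,166),(1,164),(0,163),(0,162),(1,175),(0,174),(0,173),(0,172),(0,177),(1,175),(0,174),(0,183),(0,182),(0,181),(0,180),(0,179),(0,178),(0,177),(1,175),(1,173),(1,171),(0,170),(0,169),(0,179),(0,189),(0,188),(0,187),(0,186),(0,185),(0,184),(1,182),(1,180),(1,178),(0,177),(0,176),(1,185),(0,184),(0,183),(1,190),(0,189),(0,188),(0,187),(1,185),(0,184),(1,182),(0,181),(0,180),(1,178),(0,177),(1,175),(0,174),(0,173),(1,171),(0,170),(1,168),(0,167),(0,166),(1,164),(0,163),(1,161),(0,160),(0,159),(1,157),(0,156)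,(1,154),(0,153),(0,152),(1,150),(0,149),(1,147),(0,146),(0,145),(1,143),(0,142),(0,141),(0,140),(0,139),(1,137),(2,136),(0,137),(0,136),(0,135),(0,134),(1,132),(0,139),(0,138),(0,137),(1,135),(0,139),(0,138),(1,140),(0,139),(1,137),(0,136),(1,134),(0,133),(1,131),(2,130),(0,137),(0,136),(0,135),(0,134),(0,133),(0,132),(0,131),(0,130),(2,129),(0,139),(0,138),(0,137),(0,136),(0,135),(0,140),(0,141),(1,139),(0,138),(0,137),(1,142),(0,141),(1,139),(0,144),(0,143),(0,142),(1,145),(0,144),(1,147),(0,146),(0,145),(1,143),(1,141),(0,140),(1,138),(1,136),(1,134),(0,133),(0,132),(0,131),(0,130),(0,129),(0,128),(0,127),(0,136),(1,134),(0,133),(0,132),(0,131),(0,138),(0,137),(0,136),(1,134),(0,133),(1,150),(0,149),(0,148),(0,147),(0,146),(0,145),(0,144),(0,150),(0,152),(0,153),(1,151),(1,149),(0,148),(0,147),(0,154),(0,155),(1,153),(0,152),(0,151),(1,149),(0,148),(1,146),(0,145),(1,143),(0,142),(0,14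1),(0,140),(0,139),(0,138),(0,137),(0,136),(1,134),(1,132),(1,130),(0,129),(1,141),(0,140),(0,139),(0,138),(0,145),(0,144),(0,143),(1,141),(0,140),(0,157),(0,156),(0,155),(0,154),(0,158),(0,157),(0,156),(1,159),(0,158),(1,161),(0,160),(0,159),(1,157),(1,155),(1,153),(0,152),(0,151),(0,150),(0,149),(0,148),(0,147),(0,146),(0,145),(0,144),(0,143),(1,141),(1,139),(1,137),(0,136),(0,135),(0,145),(0,147),(0,164),(0,165),(1,163),(0,162),(0,161),(0,160),(0,159),(1,166),(0,165),(1,163),(0,162),(0,161),(1,168),(0,167),(0,166),(0,165),(1,163),(0,162),(1,160),(1,158),(0,157),(0,156),(0,155),(0,154),(0,153),(0,152),(1,150),(0,149),(0,148),(1,146),(1,144),(0,143),(0,142),(0,154),(0,156),(0,171),(0,172),(1,170),(0,169),(0,168),(0,167),(0,166),(0,165),(1,163),(0,162),(1,173),(0,172),(1,170),(0,169),(0,168),(0,167),(1,165),(0,164),(1,175),(0,174),(0,173),(0,172),(1,170),(0,169),(1,167),(0,166),(0,165),(1,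163),(1,161),(0,160),(0,159),(0,158),(0,157),(1,155),(1,153),(0,152),(0,151),(0,150),(0,149),(0,159),(0,158),(0,161),(0,170),(0,169),(0,171),(0,174),(0,173),(0,182),(0,181),(0,180),(0,179),(0,178),(0,177),(0,176),(0,175),(0,174),(1,172),(1,170),(1,168),(0,167),(0,166),(0,174),(0,173),(0,176),(0,183),(0,195),(0,194),(0,193),(0,192),(0,191),(0,190),(0,189),(1,187),(0,186),(1,184),(1,182),(0,181),(0,180),(0,179),(0,178),(0,177),(1,175),(0,174),(1,172),(0,171),(0,170),(1,168),(0,167),(1,165),(0,164),(0,163),(0,162),(1,160),(0,159),(1,157),(0,156),(0,155),(1,153),(0,152),(0,156),(0,180),(0,181),(1,179),(0,178),(0,177),(0,176),(0,175),(0,174),(0,173),(0,172),(0,179),(0,184),(1,182),(0,181),(0,180),(1,178),(0,177),(0,176),(0,175),(1,184),(0,183),(0,182),(0,181),(0,180),(1,178),(0,177),(0,183),(0,187),(0,186),(0,185),(0,184),(1,182),(0,181),(0,185),(0,188),(0,187),(0,186),(1,184),(0,183),(0,188),(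0,193),(0,192),(0,191),(0,190),(0,189),(1,187),(0,198),(0,197),(0,196),(0,195),(0,194),(1,192),(1,190),(1,195),(0,194),(0,193),(1,199),(0,198),(0,197),(1,195),(0,194),(1,192),(0,191),(1,189),(0,188),(1,186),(0,185),(0,184),(1,182),(1,180),(0,179),(0,178),(1,176),(1,174),(0,173),(1,171),(0,170),(0,169),(0,168),(0,194),(0,193),(0,195),(1,196),(1,194),(1,192),(0,191),(0,190),(0,189),(0,188),(0,187),(0,186),(0,185),(0,184),(0,183),(0,182),(0,181),(1,179),(0,194),(1,192),(0,191),(0,190),(0,189),(0,196),(0,195),(0,194),(1,192),(0,191),(0,201),(0,200),(0,199),(0,198),(0,197),(0,196),(0,195),(0,194),(1,192),(1,190),(1,188),(0,187),(0,186),(1,199),(0,198),(0,197),(0,196),(0,201),(1,199),(0,198),(0,207),(0,206),(0,205),(0,204),(0,203),(0,202),(0,201),(1,199),(1,197),(1,195),(0,194),(0,193),(0,203),(0,213),(0,212),(0,211),(0,210),(0,209),(0,208),(1,206),(1,204),(1,202),(0,201),(0,200),(1,209),(0,208)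,(0,207),(1,214),(0,213),(0,212),(0,211),(1,209),(0,208),(1,206),(0,205),(0,204),(1,202),(0,201),(1,199),(0,198),(0,197),(1,195),(0,194),(1,192),(0,191),(0,190),(1,188),(0,187),(1,185),(0,184),(0,183),(1,181),(0,180),(1,178),(0,177),(0,176),(1,174),(0,173),(1,171),(0,170),(0,169),(1,167),(0,166),(0,165),(0,164),(0,163),(0,162),(1,160),(0,159),(1,157),(1,155),(0,154),(0,153),(1,151),(0,150),(1,148),(0,147),(0,146),(1,144),(0,143),(1,141),(0,140),(0,139),(1,137),(0,136),(1,134),(0,133),(0,132),(1,130),(1,128),(1,126),(2,125),(2,124),(0,124),(2,123),(0,124),(0,123),(0,122),(2,121),(1,123),(0,122),(1,125),(0,124),(0,123),(1,121),(2,120),(0,133),(0,132),(0,134),(1,135),(1,133),(1,131),(0,130),(0,129),(0,128),(0,127),(0,126),(0,125),(0,124),(1,122),(0,131),(0,133),(1,137),(0,136),(0,135),(0,134),(1,132),(1,130),(0,129),(0,128),(0,127),(0,126),(1,124),(0,123),(1,121),(0,120),(2,119),(0,126),(0,12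7),(1,125),(0,124),(0,123),(0,122),(0,121),(0,120),(0,130),(1,128),(0,127),(1,125),(0,124),(0,123),(0,122),(1,130),(0,129),(0,128),(0,127),(1,125),(0,124),(1,132),(0,131),(0,130),(0,129),(0,128),(0,127),(1,125),(1,123),(1,121),(1,119),(2,118),(2,117),(0,117),(2,116),(0,115),(0,114),(0,113),(0,112),(1,110),(0,117),(0,116),(0,115),(1,113),(0,117),(0,116),(0,118),(0,124),(0,123),(0,125),(0,128),(0,127),(0,132),(0,131),(0,130),(0,129),(0,128),(1,126),(1,124),(1,122),(0,121),(0,120),(0,135),(0,134),(0,133),(1,136),(0,135),(0,134),(1,132),(0,131),(0,130),(0,129),(0,128),(0,127),(0,126),(0,125),(0,138),(1,136),(0,139),(1,140),(1,138),(0,137),(1,135),(0,134),(1,132),(0,131),(0,130),(0,129),(0,128),(0,132),(0,135),(0,134),(0,142),(0,141),(1,143),(0,142),(1,140),(0,139),(0,138),(0,137),(0,136),(0,135),(1,133),(1,131),(1,138),(0,137),(0,136),(0,135),(0,134),(0,138),(0,142),(0,141),(0,140),(0,145),(0,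144),(0,143),(0,142),(0,141),(1,139),(1,137),(0,142),(0,141),(0,140),(0,144),(0,146),(0,145),(1,143),(0,147),(0,146),(1,148),(0,147),(1,145),(0,144),(1,142),(0,141),(1,139),(0,138),(1,136),(0,135),(1,133),(0,132),(1,130),(0,129),(1,127),(0,126),(1,124),(0,123),(0,122),(0,121),(1,119),(1,117),(1,115),(0,114),(1,112),(0,111),(1,109),(2,108),(0,117),(1,130),(0,129),(0,128),(0,127),(0,132),(1,130),(0,129),(1,136),(0,135),(0,134),(0,133),(0,138),(1,136),(0,135),(0,145),(0,144),(0,143),(0,142),(0,141),(0,140),(0,139),(0,138),(1,136),(1,134),(1,132),(0,131),(0,130),(1,128),(1,126),(0,125),(0,124),(0,123),(1,121),(0,120),(1,118),(1,116),(0,115),(0,114),(0,113),(0,112),(0,111),(0,110),(0,109),(0,108),(2,107),(0,118),(0,117),(0,116),(0,115),(0,114),(0,113),(0,119),(1,120),(1,118),(0,117),(0,116),(0,115),(0,118),(0,120),(0,122),(0,121),(1,119),(1,117),(1,123),(0,122),(0,121),(0,120),(0,125),(1,123),(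0,126),(0,147),(0,146),(0,145),(0,144),(0,143),(0,148),(0,149),(1,147),(0,146),(0,145),(1,150),(0,149),(1,147),(0,152),(0,151),(0,150),(1,153),(0,152),(1,155),(0,154),(0,153),(1,151),(1,149),(0,148),(1,146),(1,144),(1,142),(0,141),(0,140),(0,139),(0,138),(0,137),(0,136),(0,135),(0,134),(0,133),(0,132),(0,131),(1,129),(1,127),(1,125),(0,124),(1,122),(0,121),(1,119),(0,118),(1,116),(1,114),(1,112),(0,111),(0,110),(0,109),(0,108),(0,107),(0,106),(0,105),(1,103),(2,102),(0,112),(1,110),(0,109),(0,108),(0,107),(0,114),(0,113),(0,112),(1,110),(0,109),(0,127),(1,128),(1,126),(0,125),(0,124),(0,123),(0,122),(0,121),(0,120),(0,126),(0,128),(0,130),(0,129),(1,127),(1,125),(0,124),(0,131),(0,130),(0,142),(1,140),(0,139),(0,138),(0,137),(0,144),(0,143),(0,142),(1,140),(0,139),(1,156),(0,155),(0,154),(0,153),(0,152),(0,151),(0,150),(0,156),(0,158),(0,159),(1,157),(1,155),(0,154),(0,153),(0,160),(0,161)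,(1,159),(0,158),(0,157),(1,155),(0,154),(1,152),(0,151),(1,149),(0,148),(0,147),(0,146),(0,145),(0,144),(0,143),(0,142),(1,140),(1,138),(1,136),(0,135),(0,134),(1,132),(0,131),(1,129),(0,128),(0,127),(1,125),(1,123),(0,122),(0,121),(1,119),(0,118),(0,117),(0,116),(0,115),(0,114),(0,113),(0,112),(1,110),(1,108),(1,106),(0,105),(1,103),(0,102),(2,101),(1,103),(0,102),(0,101),(0,100),(2,99),(0,103),(1,101),(0,100),(0,104),(1,113),(0,112),(0,111),(0,110),(0,121),(1,122),(1,120),(0,119),(0,118),(0,117),(0,116),(0,115),(1,113),(0,112),(0,130),(0,129),(0,128),(1,131),(0,130),(0,129),(1,127),(0,126),(0,125),(0,124),(0,123),(0,133),(1,131),(0,130),(0,129),(1,127),(0,126),(0,134),(1,143),(0,142),(0,141),(0,140),(0,147),(0,146),(0,145),(1,143),(0,142),(0,159),(0,158),(0,157),(0,156),(0,160),(0,159),(0,158),(1,161),(0,160),(1,163),(0,162),(0,161),(1,159),(1,157),(1,155),(0,154),(0,153),(0,152),(0,151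),(0,150),(0,149),(0,148),(0,147),(0,146),(0,145),(1,143),(1,141),(1,139),(0,138),(0,137),(1,135),(1,133),(0,132),(0,131),(0,130),(0,129),(1,127),(1,125),(0,124),(1,122),(0,121),(0,120),(0,119),(0,118),(0,117),(0,116),(0,115),(1,113),(1,111),(1,109),(0,108),(0,107),(1,105),(1,103),(0,102),(0,101),(1,99),(2,98),(0,111),(1,112),(1,110),(0,109),(0,108),(0,107),(0,106),(0,105),(0,104),(0,103),(0,102),(1,100),(0,110),(0,112),(0,114),(0,113),(1,111),(1,109),(0,108),(0,107),(0,115),(0,114),(0,125),(1,126),(1,124),(0,123),(0,122),(0,121),(1,119),(0,118),(0,117),(0,141),(1,142),(1,140),(0,139),(0,138),(0,137),(0,136),(0,135),(0,134),(0,133),(0,132),(1,130),(0,129),(0,140),(0,142),(0,144),(0,143),(1,141),(1,139),(0,138),(0,137),(0,145),(0,144),(0,147),(0,153),(0,155),(0,171),(0,170),(0,172),(1,173),(1,171),(1,169),(0,168),(0,167),(0,166),(0,165),(0,164),(0,163),(0,162),(1,160),(0,169),(0,171),(1,175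),(0,174),(0,173),(0,172),(1,170),(1,168),(0,167),(0,166),(0,165),(0,164),(1,162),(0,161),(1,159),(0,158),(0,157),(0,156),(1,154),(1,152),(0,151),(0,150),(0,149),(0,148),(1,146),(0,145),(1,143),(0,142),(0,141),(1,139),(0,138),(1,136),(0,135),(0,134),(1,132),(0,131),(0,130),(1,128),(0,127),(0,126),(1,124),(0,123),(1,121),(0,120),(0,119),(0,118),(1,116),(0,115),(1,113),(0,112),(0,111),(1,109),(0,108),(1,106),(0,105),(0,104),(1,102),(0,101),(1,99),(0,98),(2,97),(0,106),(0,105),(0,104),(0,107),(1,108),(1,106),(0,105),(1,103),(0,102),(0,101),(0,100),(0,99),(0,98),(1,110),(0,109),(0,108),(1,106),(0,105),(1,103),(0,102),(0,101),(0,100),(0,109),(0,112),(1,110),(1,108),(0,107),(0,106),(0,105),(1,103),(0,102),(0,113),(0,112),(0,111),(0,114),(0,136),(0,135),(0,134),(0,137),(1,138),(1,136),(0,135),(1,133),(0,132),(0,131),(0,130),(0,129),(0,128),(0,127),(0,126),(1,140),(0,139),(0,138),(1,136),(0,135),(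1,133),(0,132),(0,131),(0,130),(0,129),(0,139),(0,142),(1,140),(1,138),(0,137),(0,136),(0,135),(1,133),(0,132),(0,131),(0,143),(0,142),(0,141),(0,144),(0,164),(0,165),(1,163),(0,162),(0,161),(0,160),(0,159),(0,158),(0,168),(1,166),(0,165),(1,163),(0,162),(0,161),(0,160),(1,168),(0,167),(0,166),(0,165),(1,163),(0,162),(1,170),(0,169),(0,168),(0,167),(0,166),(0,165),(1,163),(1,161),(1,159),(1,157),(0,156),(0,155),(0,154),(0,153),(0,152),(0,151),(1,149),(0,148),(0,147),(1,145),(1,143),(0,142),(1,140),(0,139),(0,138),(0,137),(0,136),(0,135),(1,133),(0,132),(1,130),(1,128),(0,127),(1,125),(0,124),(0,123),(0,122),(0,121),(0,120),(1,118),(0,117),(1,115),(1,113),(0,112),(1,110),(0,109),(0,108),(0,107),(0,106),(0,105),(1,103),(1,101),(1,99),(1,97),(2,96),(2,95),(0,95),(2,94),(2,91),(0,95),(1,96),(1,94),(0,93),(0,92),(0,91),(2,90),(0,92),(0,91),(0,90),(2,89),(0,92),(0,94),(0,93),(1,91),(0,90),(0,89)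,(2,88),(0,88),(2,87),(0,87),(2,86),(0,86),(2,85),(2,84),(0,86),(0,85),(0,84),(2,83),(0,85),(0,86),(1,84),(0,83),(2,82),(2,81),(2,80),(2,79),(2,78),(0,78),(2,77),(0,77),(2,76),(0,80),(0,79),(0,81),(0,82),(1,80),(1,78),(0,77),(0,76),(2,75),(0,76),(0,75),(2,74),(0,76),(0,79),(0,78),(0,77),(1,75),(0,74),(2,73),(2,72),(2,71),(2,70),(0,71),(0,70),(2,69),(0,71),(0,70),(0,69),(2,68),(0,70),(0,71),(1,69),(0,68),(2,67),(2,66),(2,65),(2,64),(2,63),(0,63),(2,62),(0,62),(2,61),(0,65),(0,64),(0,66),(0,67),(1,65),(1,63),(0,62),(0,61),(2,60),(0,61),(0,60),(2,59),(0,61),(0,64),(0,63),(0,62),(1,60),(0,59),(2,58),(2,57),(2,56),(2,55),(0,56),(0,55),(2,54),(0,56),(0,55),(0,54),(2,53),(0,55),(0,56),(1,54),(0,53),(2,52),(2,51),(2,50),(2,49),(2,48),(0,48),(2,47),(0,47),(2,46),(0,51),(0,50),(0,49),(0,52),(0,51),(0,55),(1,53),(0,52),(1,50),(1,48),(0,47),(0,46),(2,45),(0,46),(0,45),(2,44),(0,46),(1,51),(0,50),(0,49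),(0,48),(0,47),(1,45),(0,44),(2,43),(2,42),(2,41),(2,40),(0,41),(0,40),(2,39),(0,40),(0,39),(2,38),(0,43),(0,42),(0,41),(1,39),(0,38),(2,37),(2,36),(2,35),(2,34),(1,34),(2,33),(2,32),(0,33),(0,32),(2,31),(0,35),(1,36),(1,34),(0,33),(0,32),(0,31),(2,30),(0,32),(0,31),(0,30),(2,29),(0,32),(0,34),(0,33),(1,31),(0,30),(0,29),(2,28),(0,28),(2,27),(0,27),(2,26),(0,26),(2,25),(2,24),(0,26),(0,25),(0,24),(2,23),(0,25),(0,26),(1,24),(0,23),(2,22),(2,21),(2,20),(2,19),(2,18),(0,18),(2,17),(0,17),(2,16),(0,18),(0,19),(1,17),(0,16),(2,15),(0,15),(2,14),(1,16),(0,15),(0,14),(2,13),(2,12),(0,12),(2,11),(0,11),(2,10),(0,10),(2,9),(0,9),(2,8),(0,8),(2,7),(2,6),(2,5),(0,4),(2,3),(1,3),(2,2),(2,1),(2,0)]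

/-- A list of moves. -/
def cert_xd : List (ℕ × ℕ) := [(0,166),(0,165),(0,164),(0,163),(0,162),(0,161),(0,160),(1,158),(2,157),(0,159),(0,158),(0,157),(1,160),(0,159),(0,158),(1,156),(2,155),(0,154),(1,152),(0,151),(1,163),(0,162),(0,161),(0,160),(1,158),(0,157),(0,156),(1,154),(0,153),(0,161),(0,160),(0,159),(0,158),(0,157),(0,162),(0,174),(0,173),(0,172),(0,171),(0,170),(0,169),(0,168),(1,166),(0,165),(1,163),(1,161),(0,160),(0,159),(0,158),(1,156),(0,155),(0,154),(1,152),(1,150),(2,149),(0,157),(0,156),(0,155),(0,154),(0,153),(0,152),(0,151),(0,150),(0,149),(0,158),(0,157),(0,156),(0,159),(0,158),(0,160),(0,167),(0,166),(0,165),(0,164),(0,163),(0,162),(0,161),(1,159),(1,157),(1,155),(0,154),(0,153),(0,152),(0,165),(0,164),(1,162),(0,161),(0,160),(0,166),(1,164),(0,163),(1,168),(0,167),(0,178),(0,177),(0,176),(0,175),(0,174),(0,173),(1,171),(0,170),(1,168),(1,166),(0,165),(0,164),(1,16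2),(0,161),(1,159),(0,158),(0,157),(1,155),(0,158),(0,168),(1,169),(1,167),(0,166),(0,165),(1,174),(0,173),(0,172),(1,179),(0,178),(0,177),(0,176),(1,174),(0,173),(1,171),(0,170),(0,169),(1,167),(0,166),(1,164),(0,163),(0,162),(0,161),(1,159),(1,157),(0,156),(1,154),(0,153),(1,151),(0,150),(1,148),(2,147),(2,146),(1,152),(0,151),(0,150),(0,149),(0,154),(1,152),(0,151),(0,155),(1,156),(1,154),(0,153),(0,152),(1,150),(1,148),(0,147),(0,146),(0,158),(0,157),(0,156),(0,155),(1,153),(1,159),(0,158),(0,157),(1,155),(0,154),(1,152),(0,151),(0,150),(1,148),(0,147),(1,145),(2,144),(0,146),(0,145),(0,147),(0,148),(1,146),(1,144),(2,143),(2,142),(0,142),(0,141),(0,156),(0,155),(0,154),(0,157),(0,156),(1,158),(1,160),(0,159),(1,157),(1,155),(1,153),(0,152),(0,151),(0,150),(0,149),(0,148),(0,147),(0,146),(0,145),(0,144),(0,143),(0,142),(1,140),(2,139),(1,147),(0,146),(0,145),(0,144),(0,143),(0,149),(1,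147),(0,146),(0,145),(0,150),(0,149),(1,147),(0,146),(1,144),(1,142),(0,141),(0,140),(0,139),(2,138),(0,140),(0,139),(0,138),(2,137),(0,140),(0,157),(0,156),(0,155),(0,158),(0,157),(1,159),(0,168),(0,167),(0,166),(0,165),(0,164),(1,162),(1,169),(0,168),(0,167),(0,166),(1,164),(0,163),(1,161),(0,160),(1,158),(1,156),(1,154),(0,153),(0,152),(0,151),(0,150),(0,149),(0,148),(0,147),(0,146),(0,145),(1,143),(0,142),(0,141),(1,139),(0,148),(0,147),(0,150),(0,149),(0,152),(0,151),(1,163),(0,162),(0,161),(0,160),(0,165),(1,163),(0,162),(0,174),(0,173),(0,172),(0,171),(0,170),(1,168),(0,167),(0,166),(0,165),(1,163),(1,161),(1,159),(0,158),(0,157),(0,156),(0,155),(0,154),(0,153),(0,152),(1,150),(1,148),(1,146),(0,145),(0,144),(0,143),(0,142),(0,157),(1,155),(0,154),(0,153),(0,152),(0,151),(0,163),(1,164),(1,162),(0,161),(0,160),(0,159),(0,158),(0,157),(1,155),(0,154),(0,160),(0,159),(0,158),(0,162),(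0,167),(1,175),(0,174),(0,173),(0,172),(1,170),(0,169),(0,168),(1,166),(0,165),(0,164),(0,163),(1,161),(0,160),(0,173),(0,172),(0,171),(0,170),(0,169),(0,174),(0,186),(0,185),(0,184),(0,183),(0,182),(0,181),(0,180),(1,178),(0,177),(1,175),(1,173),(0,172),(0,171),(0,170),(1,168),(0,167),(0,166),(0,165),(0,164),(0,163),(1,161),(1,159),(1,157),(0,156),(0,155),(1,153),(0,152),(1,150),(0,149),(0,148),(1,146),(0,145),(0,149),(0,171),(0,170),(0,169),(0,168),(0,167),(0,172),(0,171),(0,170),(0,173),(0,172),(0,174),(0,181),(0,180),(0,179),(0,178),(0,177),(0,176),(0,175),(1,173),(1,171),(1,169),(0,168),(1,166),(0,165),(0,164),(0,163),(0,162),(0,161),(0,160),(0,159),(0,158),(1,156),(0,166),(0,179),(0,178),(1,176),(0,175),(0,174),(0,180),(1,178),(0,177),(1,182),(0,181),(0,192),(0,191),(0,190),(0,189),(0,188),(0,187),(1,185),(0,184),(1,182),(1,180),(0,179),(0,178),(1,176),(0,175),(1,173),(0,172),(0,171)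,(1,169),(0,168),(0,167),(1,165),(0,164),(0,163),(0,172),(0,182),(1,183),(1,181),(0,180),(0,179),(1,188),(0,187),(0,186),(1,193),(0,192),(0,191),(0,190),(1,188),(0,187),(1,185),(0,184),(0,183),(1,181),(0,180),(1,178),(0,177),(0,176),(0,175),(1,173),(1,171),(0,170),(0,169),(0,168),(0,167),(1,165),(0,164),(1,162),(0,161),(0,160),(1,158),(0,157),(1,155),(0,154),(0,153),(0,152),(1,150),(1,148),(0,147),(0,146),(1,144),(0,143),(1,141),(0,140),(1,138),(0,137),(2,136),(1,138),(0,137),(0,136),(2,135),(1,134),(2,133),(0,132),(1,130),(0,129),(0,134),(1,132),(0,131),(0,137),(0,136),(0,135),(0,138),(0,137),(0,136),(1,134),(0,133),(0,132),(1,130),(1,128),(2,127),(0,138),(0,137),(1,139),(0,138),(1,136),(0,135),(0,134),(0,133),(0,132),(0,131),(0,130),(0,129),(0,128),(0,127),(0,136),(0,135),(0,134),(0,142),(0,141),(1,139),(0,138),(0,137),(0,136),(0,142),(1,143),(1,141),(0,140),(0,139),(0,138),(0,145),(0,14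4),(1,146),(0,145),(1,143),(0,142),(0,141),(0,140),(0,139),(1,137),(1,135),(1,133),(0,132),(0,131),(0,130),(0,141),(1,149),(0,148),(0,147),(0,146),(0,145),(0,144),(0,143),(0,142),(1,140),(0,139),(0,138),(0,143),(0,149),(0,151),(0,152),(1,150),(1,148),(0,147),(0,146),(0,145),(0,144),(1,142),(0,141),(0,145),(0,153),(0,154),(1,152),(0,151),(0,150),(1,148),(0,147),(0,146),(1,144),(0,143),(0,142),(1,140),(0,139),(1,137),(0,136),(0,135),(1,133),(0,136),(0,148),(0,156),(0,155),(0,157),(0,156),(1,154),(0,153),(0,152),(0,151),(0,150),(0,149),(1,147),(0,146),(0,150),(1,158),(0,157),(0,156),(1,154),(0,153),(0,152),(0,151),(1,149),(0,148),(0,153),(0,160),(0,159),(0,158),(0,157),(0,156),(0,155),(0,154),(1,152),(0,161),(1,159),(0,158),(0,157),(1,155),(1,162),(0,161),(0,160),(0,159),(0,158),(0,165),(0,164),(1,162),(0,161),(0,160),(0,165),(1,166),(1,164),(0,163),(0,162),(0,168),(0,167),(1,169),(0,168),(1,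166),(0,165),(0,164),(0,163),(1,161),(1,159),(1,157),(0,156),(1,154),(0,153),(1,151),(0,150),(0,149),(1,147),(1,145),(0,144),(0,143),(1,156),(0,155),(0,154),(0,153),(0,158),(1,156),(0,155),(0,172),(0,171),(0,170),(0,173),(0,172),(1,174),(1,176),(0,175),(1,173),(1,171),(1,169),(0,168),(0,167),(0,166),(0,165),(0,164),(0,163),(0,162),(0,161),(0,160),(0,159),(0,158),(1,156),(1,154),(1,152),(0,151),(0,150),(0,160),(0,179),(0,178),(0,177),(0,180),(0,179),(1,181),(0,190),(0,189),(0,188),(0,187),(0,186),(1,184),(1,191),(0,190),(0,189),(0,188),(1,186),(0,185),(1,183),(0,182),(1,180),(1,178),(1,176),(0,175),(0,174),(0,173),(0,172),(0,171),(0,170),(0,169),(0,168),(0,167),(1,165),(0,164),(0,163),(1,161),(1,159),(0,158),(0,157),(0,170),(0,169),(0,172),(0,171),(0,174),(0,173),(1,185),(0,184),(0,183),(0,182),(0,187),(1,185),(0,184),(0,196),(0,195),(0,194),(0,193),(0,192),(1,190),(0,189),(0,188),(0,187),(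1,185),(1,183),(1,181),(0,180),(0,179),(0,178),(0,177),(0,176),(0,175),(0,174),(1,172),(1,170),(1,168),(0,167),(0,166),(0,165),(0,164),(0,179),(1,177),(0,176),(0,175),(0,174),(0,173),(0,185),(1,186),(1,184),(0,183),(0,182),(0,181),(0,180),(0,179),(1,177),(0,176),(0,182),(0,181),(0,180),(0,184),(0,189),(1,197),(0,196),(0,195),(0,194),(1,192),(0,191),(0,190),(1,188),(0,187),(0,186),(0,185),(1,183),(0,182),(0,195),(0,194),(0,193),(0,192),(0,191),(0,196),(0,208),(0,207),(0,206),(0,205),(0,204),(0,203),(0,202),(1,200),(0,199),(1,197),(1,195),(0,194),(0,193),(0,192),(1,190),(0,189),(0,188),(0,187),(0,186),(0,185),(1,183),(1,181),(1,179),(0,178),(0,177),(1,175),(0,174),(1,172),(0,171),(0,170),(1,168),(0,167),(0,171),(0,193),(0,192),(0,191),(0,190),(0,189),(0,194),(0,193),(0,192),(0,195),(0,194),(0,196),(0,203),(0,202),(0,201),(0,200),(0,199),(0,198),(0,197),(1,195),(1,193),(1,191),(0,190),(1,188)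,(0,187),(0,186),(0,185),(0,184),(0,183),(0,182),(0,181),(0,180),(1,178),(0,188),(0,201),(0,200),(1,198),(0,197),(0,196),(0,202),(1,200),(0,199),(1,204),(0,203),(0,214),(0,213),(0,212),(0,211),(0,210),(0,209),(1,207),(0,206),(1,204),(1,202),(0,201),(0,200),(1,198),(0,197),(1,195),(0,194),(0,193),(1,191),(0,190),(0,189),(1,187),(0,186),(0,185),(0,194),(0,204),(1,205),(1,203),(0,202),(0,201),(1,210),(0,209),(0,208),(1,215),(0,214),(0,213),(0,212),(1,210),(0,209),(1,207),(0,206),(0,205),(1,203),(0,202),(1,200),(0,199),(0,198),(0,197),(1,195),(1,193),(0,192),(0,191),(0,190),(0,189),(1,187),(0,186),(1,184),(0,183),(0,182),(1,180),(0,179),(1,177),(0,176),(0,175),(0,174),(1,172),(1,170),(0,169),(0,168),(1,166),(0,165),(1,163),(0,162),(0,161),(1,159),(0,158),(1,156),(0,155),(0,154),(1,152),(0,151),(1,149),(0,148),(0,147),(1,145),(0,144),(1,142),(0,141),(0,140),(0,139),(1,137),(1,135),(0,134),(1,13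2),(0,131),(1,129),(0,128),(1,126),(2,125),(2,124),(1,130),(0,129),(0,128),(0,127),(0,132),(1,130),(0,129),(0,133),(1,134),(1,132),(0,131),(0,130),(1,128),(1,126),(0,125),(0,124),(0,136),(0,135),(0,134),(0,133),(1,131),(1,137),(0,136),(0,135),(1,133),(0,132),(1,130),(0,129),(0,128),(1,126),(0,125),(1,123),(2,122),(0,124),(0,123),(0,125),(0,126),(1,124),(1,122),(2,121),(2,120),(0,120),(0,119),(0,134),(0,133),(0,132),(0,135),(0,134),(1,136),(1,138),(0,137),(1,135),(1,133),(1,131),(0,130),(0,129),(0,128),(0,127),(0,126),(0,125),(0,124),(0,123),(0,122),(0,121),(0,120),(1,118),(2,117),(1,125),(0,124),(0,123),(0,122),(0,121),(0,127),(1,125),(0,124),(0,123),(0,128),(0,127),(1,125),(0,124),(1,122),(1,120),(0,119),(0,118),(0,117),(2,116),(0,118),(0,117),(0,116),(2,115),(0,116),(0,115),(0,118),(0,125),(0,124),(0,127),(0,126),(0,129),(0,128),(0,142),(0,141),(0,143),(1,144),(1,142),(1,140),(0,139),(0,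138),(0,137),(0,136),(0,135),(0,140),(0,142),(1,146),(0,145),(0,144),(0,143),(1,141),(1,139),(0,138),(0,137),(0,136),(1,134),(0,133),(0,132),(0,131),(0,130),(0,129),(1,127),(1,125),(1,123),(0,122),(0,121),(0,120),(0,119),(1,117),(0,116),(1,114),(2,113),(0,114),(0,113),(0,115),(0,135),(0,134),(0,133),(0,132),(0,136),(0,135),(0,134),(0,139),(1,137),(0,136),(1,139),(0,138),(1,141),(0,140),(0,139),(1,137),(1,135),(1,133),(1,131),(0,130),(0,129),(0,128),(0,127),(0,126),(0,125),(0,124),(0,123),(0,122),(1,120),(0,119),(0,118),(1,116),(1,114),(1,112),(2,111),(0,110),(1,108),(0,107),(0,112),(1,110),(0,109),(0,116),(0,115),(0,114),(0,113),(0,131),(1,129),(0,128),(0,127),(0,126),(0,125),(0,137),(0,136),(1,138),(0,137),(1,135),(0,134),(0,133),(0,132),(0,131),(1,129),(0,128),(0,134),(0,133),(0,132),(0,141),(0,142),(1,140),(0,139),(0,138),(0,137),(1,135),(0,134),(0,145),(0,144),(0,143),(0,146),(0,145),(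0,144),(1,142),(0,141),(0,140),(0,139),(0,138),(0,137),(1,135),(1,133),(1,131),(0,130),(0,129),(1,127),(0,126),(1,124),(0,123),(0,122),(1,120),(0,119),(1,117),(0,116),(0,115),(0,114),(1,112),(0,111),(0,110),(1,108),(1,106),(2,105),(0,117),(0,116),(0,118),(0,121),(1,119),(1,117),(1,115),(0,114),(0,113),(0,112),(0,111),(0,110),(0,109),(0,108),(0,107),(0,106),(0,105),(1,103),(2,102),(0,107),(0,106),(1,108),(0,107),(1,105),(0,104),(0,103),(0,102),(0,110),(1,108),(0,107),(1,105),(0,113),(0,112),(0,115),(1,119),(0,118),(0,117),(0,116),(1,114),(0,113),(1,111),(0,110),(0,109),(0,108),(0,118),(0,117),(0,121),(1,119),(0,118),(1,116),(0,115),(0,114),(0,113),(1,111),(0,110),(0,125),(0,124),(0,123),(1,126),(0,125),(0,124),(1,122),(0,121),(0,120),(0,119),(0,118),(0,117),(1,115),(0,114),(0,128),(1,126),(0,125),(0,124),(1,122),(0,121),(0,120),(0,119),(1,117),(0,116),(0,131),(1,132),(1,130),(0,129),(0,128)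,(0,127),(0,126),(0,125),(0,124),(0,123),(1,121),(0,120),(0,130),(0,132),(0,134),(0,133),(1,131),(1,129),(0,128),(0,127),(0,126),(0,125),(1,123),(0,122),(0,135),(0,134),(0,133),(0,132),(0,131),(0,130),(1,128),(0,127),(0,126),(0,136),(0,135),(1,137),(0,136),(1,134),(0,133),(0,132),(1,130),(0,129),(0,128),(0,133),(0,139),(1,137),(0,136),(1,134),(1,132),(0,131),(0,130),(0,144),(0,143),(1,145),(0,144),(1,142),(0,141),(0,140),(0,139),(0,138),(0,137),(0,136),(0,135),(0,142),(0,148),(0,147),(1,145),(0,144),(0,143),(1,141),(0,140),(0,139),(0,138),(0,148),(1,149),(1,147),(0,146),(0,145),(0,144),(0,143),(1,141),(0,140),(0,146),(1,155),(0,154),(0,153),(0,152),(0,151),(0,150),(0,149),(0,148),(0,147),(1,145),(0,144),(0,148),(0,157),(1,155),(0,154),(0,153),(0,158),(0,157),(1,155),(0,154),(1,152),(0,151),(0,150),(0,149),(1,147),(0,146),(0,151),(0,162),(0,161),(0,163),(1,164),(1,162),(1,160),(0,159),(0,15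8),(0,157),(0,156),(0,155),(0,154),(0,153),(0,152),(1,150),(0,166),(0,165),(0,164),(0,163),(0,162),(0,161),(0,160),(0,159),(0,158),(1,156),(0,155),(1,153),(0,161),(0,160),(0,163),(0,162),(0,165),(0,164),(0,167),(0,166),(0,165),(1,163),(1,161),(1,159),(0,158),(0,157),(0,156),(1,168),(0,167),(0,166),(0,165),(0,164),(0,170),(1,168),(0,167),(0,171),(1,172),(1,170),(0,169),(0,168),(1,166),(0,165),(1,163),(0,162),(0,161),(1,159),(0,158),(0,162),(0,174),(0,173),(0,172),(0,171),(1,169),(1,175),(0,174),(0,173),(1,171),(0,170),(1,168),(0,167),(0,166),(0,165),(1,163),(1,161),(0,160),(0,159),(1,157),(1,155),(0,154),(1,152),(0,151),(1,149),(0,148),(0,147),(1,145),(1,143),(0,142),(0,141),(1,139),(1,137),(0,136),(1,134),(0,133),(0,132),(0,131),(1,129),(1,127),(1,125),(0,124),(0,123),(1,121),(1,119),(0,118),(0,117),(1,115),(1,113),(0,112),(0,111),(1,109),(1,107),(0,106),(1,104),(0,103),(1,101),(2,100),(1,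104),(0,103),(0,102),(0,101),(0,106),(1,104),(0,103),(0,107),(0,129),(0,128),(0,127),(0,126),(0,130),(0,129),(1,131),(0,130),(1,128),(0,127),(1,125),(0,124),(0,123),(0,122),(0,121),(0,133),(1,131),(0,130),(1,128),(0,127),(1,125),(0,124),(0,123),(1,134),(0,133),(0,132),(0,131),(0,136),(1,134),(0,133),(0,137),(0,157),(0,156),(0,155),(0,154),(1,158),(0,157),(0,156),(0,160),(1,158),(0,161),(1,162),(1,160),(0,159),(1,157),(1,155),(1,153),(0,152),(0,151),(0,150),(0,149),(0,148),(0,147),(0,146),(0,145),(0,144),(0,143),(0,142),(1,140),(1,138),(1,136),(0,135),(0,134),(1,132),(1,130),(0,129),(0,128),(0,127),(1,125),(0,124),(1,122),(1,120),(0,119),(0,118),(0,117),(0,116),(0,115),(0,114),(0,113),(0,112),(1,110),(1,108),(1,106),(0,105),(0,104),(1,102),(1,100),(2,99),(2,98),(0,98),(0,97),(0,112),(0,111),(1,113),(0,112),(1,110),(0,109),(0,108),(0,107),(0,106),(0,105),(0,115),(1,113),(0,112),(1,110),(0,10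9),(0,108),(0,116),(0,118),(0,125),(0,124),(0,126),(0,128),(0,142),(0,141),(1,143),(0,142),(1,140),(0,139),(0,138),(0,137),(0,136),(0,135),(0,145),(1,143),(0,142),(1,140),(0,139),(0,138),(0,151),(1,149),(0,148),(0,147),(0,146),(0,153),(0,152),(0,151),(1,149),(0,148),(1,155),(0,154),(0,153),(0,152),(0,158),(0,157),(1,155),(0,154),(0,172),(0,171),(0,170),(0,173),(0,172),(1,174),(1,176),(0,175),(1,173),(1,171),(1,169),(0,168),(0,167),(0,166),(0,165),(0,164),(0,163),(0,162),(0,161),(0,160),(0,159),(0,158),(0,157),(1,155),(1,153),(1,151),(0,150),(0,149),(1,147),(1,145),(0,144),(0,143),(0,142),(1,140),(0,139),(1,137),(0,136),(1,134),(0,133),(0,132),(0,131),(0,130),(0,129),(1,127),(1,125),(1,123),(0,122),(0,121),(0,120),(0,119),(1,117),(1,115),(0,114),(0,113),(0,112),(1,110),(0,109),(1,107),(0,106),(1,104),(0,103),(0,102),(0,101),(0,100),(0,99),(0,98),(1,96),(2,95),(0,107),(0,106),(0,108),(1,109)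,(1,107),(1,105),(0,104),(0,103),(0,102),(0,101),(0,100),(0,99),(0,105),(0,104),(0,107),(0,106),(0,109),(0,108),(0,111),(0,110),(0,109),(1,107),(1,105),(1,103),(0,102),(0,101),(1,112),(0,111),(0,110),(0,109),(0,108),(0,114),(1,112),(0,111),(0,115),(0,137),(0,136),(0,138),(1,139),(1,137),(1,135),(0,134),(0,133),(0,132),(0,131),(0,130),(0,129),(0,135),(0,134),(0,137),(0,136),(0,139),(0,138),(0,141),(0,140),(0,139),(1,137),(1,135),(1,133),(0,132),(0,131),(1,142),(0,141),(0,140),(0,139),(0,138),(0,144),(1,142),(0,141),(0,145),(1,163),(0,162),(0,161),(0,160),(0,159),(0,165),(1,163),(0,162),(0,161),(0,166),(0,165),(1,163),(0,162),(1,160),(1,158),(0,157),(0,156),(0,155),(0,154),(0,153),(0,152),(0,151),(0,150),(1,148),(1,146),(1,144),(0,143),(0,142),(1,140),(0,139),(1,137),(0,136),(0,135),(1,133),(0,132),(1,130),(1,128),(0,127),(0,126),(0,125),(0,124),(0,123),(0,122),(1,120),(0,119),(0,118),(1,116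),(1,114),(0,113),(0,112),(1,110),(0,109),(1,107),(0,106),(0,105),(1,103),(0,102),(1,100),(1,98),(0,97),(0,96),(0,95),(2,94),(0,96),(0,95),(0,94),(2,93),(2,91),(0,96),(0,95),(0,94),(0,97),(1,98),(1,96),(0,95),(1,93),(0,92),(0,91),(2,90),(0,91),(0,90),(2,89),(0,92),(0,91),(1,96),(0,95),(0,94),(0,93),(0,92),(1,90),(0,89),(2,88),(2,87),(2,86),(2,85),(0,85),(2,84),(0,85),(0,84),(2,83),(0,86),(1,84),(0,83),(2,82),(2,81),(2,80),(2,79),(1,79),(2,78),(2,77),(0,77),(2,76),(0,76),(2,75),(0,75),(2,74),(0,74),(2,73),(0,78),(0,77),(0,76),(0,79),(0,78),(0,82),(1,80),(0,79),(1,77),(1,75),(0,74),(0,73),(2,72),(0,73),(0,72),(2,71),(0,73),(1,78),(0,77),(0,76),(0,75),(0,74),(1,72),(0,71),(2,70),(2,69),(2,68),(2,67),(0,68),(0,67),(2,66),(0,67),(0,66),(2,65),(0,70),(0,69),(0,68),(1,66),(0,65),(2,64),(2,63),(2,62),(2,61),(0,66),(0,65),(0,64),(0,63),(0,62),(0,67),(1,68),(1,66),(0,65),(0,64),(0,63),(1,61),(2,60),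(2,59),(0,62),(1,66),(0,65),(0,64),(0,63),(1,61),(0,60),(0,59),(2,58),(0,58),(2,57),(0,57),(2,56),(0,56),(2,55),(0,55),(2,54),(0,55),(0,54),(2,53),(0,56),(1,54),(0,53),(2,52),(2,51),(2,50),(2,49),(1,49),(2,48),(2,47),(0,47),(2,46),(0,46),(2,45),(0,45),(2,44),(0,44),(2,43),(0,46),(1,47),(1,45),(0,44),(0,43),(2,42),(0,43),(0,42),(2,41),(0,43),(0,45),(0,44),(1,42),(0,41),(2,40),(2,39),(2,38),(2,37),(0,40),(1,41),(1,39),(0,38),(0,37),(2,36),(0,37),(0,36),(2,35),(0,37),(0,40),(0,39),(0,38),(1,36),(0,35),(2,34),(2,33),(2,32),(2,31),(0,36),(0,35),(0,34),(0,37),(1,38),(1,36),(0,35),(1,33),(0,32),(0,31),(2,30),(0,31),(0,30),(2,29),(0,32),(0,31),(0,37),(0,39),(0,38),(1,36),(0,35),(0,34),(0,33),(0,32),(1,30),(0,29),(2,28),(2,27),(2,26),(2,25),(0,25),(2,24),(0,25),(0,24),(2,23),(1,31),(0,30),(0,29),(0,28),(0,27),(0,26),(1,24),(0,23),(2,22),(2,21),(2,20),(2,19),(0,20),(0,21),(1,19),(2,18),(2,17),(0,21),(1,19),(0,18),(0,17),(2,16),(0,16),(2,15),(0,15),(2,14),(0,14),(2,13),(0,15),(0,16),(1,14),(0,13),(2,12),(0,12),(2,11),(1,13),(0,12),(0,11),(2,10),(2,9),(0,9),(2,8),(0,8),(2,7),(0,7),(2,6),(0,6),(2,5),(0,5),(2,4),(2,3),(2,2),(2,0)]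

/-- A list of moves. -/
def cert_xe : List (ℕ × ℕ) := [(0,91),(2,90),(0,90),(2,89),(0,99),(0,98),(0,97),(0,96),(0,95),(0,94),(0,93),(1,91),(1,89),(2,88),(0,89),(1,90),(1,88),(2,87),(2,86),(0,86),(2,85),(0,86),(0,85),(2,84),(0,85),(0,84),(2,83),(1,88),(0,87),(0,86),(1,84),(0,83),(2,82),(0,84),(0,83),(0,82),(2,81),(1,83),(0,82),(0,81),(2,80),(0,83),(1,81),(0,80),(2,79),(2,78),(2,77),(2,76),(0,76),(2,75),(0,75),(2,74),(0,84),(0,83),(0,82),(0,81),(0,80),(0,79),(0,78),(1,76),(1,74),(2,73),(0,74),(1,75),(1,73),(2,72),(2,71),(0,71),(2,70),(0,71),(0,70),(2,69),(0,70),(0,69),(2,68),(1,73),(0,72),(0,71),(1,69),(0,68),(2,67),(0,69),(0,68),(0,67),(2,66),(1,68),(0,67),(0,66),(2,65),(0,68),(1,66),(0,65),(2,64),(2,63),(2,62),(2,61),(0,61),(2,60),(0,60),(2,59),(0,69),(0,68),(0,67),(0,66),(0,65),(0,64),(0,63),(1,61),(1,59),(2,58),(0,59),(1,60),(1,58),(2,57),(2,56),(0,56),(2,55),(0,56),(0,55),(2,54),(0,55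),(0,54),(2,53),(1,58),(0,57),(0,56),(1,54),(0,53),(2,52),(0,54),(0,53),(0,52),(2,51),(1,53),(0,52),(0,51),(2,50),(0,53),(1,51),(0,50),(2,49),(2,48),(2,47),(2,46),(0,46),(2,45),(0,45),(2,44),(0,54),(0,53),(0,52),(0,51),(0,50),(0,49),(0,48),(1,46),(1,44),(2,43),(0,44),(1,45),(1,43),(2,42),(2,41),(0,41),(2,40),(0,41),(0,40),(2,39),(0,40),(0,39),(2,38),(1,43),(0,42),(0,41),(1,39),(0,38),(2,37),(0,39),(0,38),(0,37),(2,36),(1,38),(0,37),(0,36),(2,35),(0,38),(1,36),(0,35),(2,34),(2,33),(2,32),(2,31),(0,31),(2,30),(0,30),(2,29),(0,39),(0,38),(0,37),(0,36),(0,35),(0,34),(0,33),(1,31),(1,29),(2,28),(0,29),(1,30),(1,28),(2,27),(2,26),(0,26),(2,25),(0,26),(0,25),(2,24),(0,25),(0,24),(2,23),(1,28),(0,27),(0,26),(1,24),(0,23),(2,22),(0,24),(0,23),(0,22),(2,21),(1,23),(0,22),(0,21),(2,20),(0,23),(1,21),(0,20),(2,19),(2,18),(2,17),(2,16),(0,16),(2,15),(0,15),(2,14),(0,24),(0,23),(0,22),(0,21),(0,20),(0,19),(0,18),(1,16),(1,14),(2,13),(0,14),(1,15),(1,13),(2,12),(2,11),(0,11),(2,10),(0,11),(0,10),(2,9),(0,10),(0,9),(2,8),(1,13),(0,12),(0,11),(1,9),(0,8),(2,7),(0,9),(0,8),(0,7),(2,6),(1,8),(0,7),(0,6),(2,5),(0,8),(1,6),(0,5),(2,4),(2,3),(2,2),(2,1),(2,0)]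

/-- A list of moves. -/
def cert_xf : List (ℕ × ℕ) := [(0,160),(0,159),(0,158),(2,157),(1,159),(0,158),(0,157),(2,156),(0,162),(0,161),(0,160),(0,159),(0,158),(1,156),(1,163),(0,162),(0,161),(0,160),(1,158),(0,157),(1,155),(0,154),(0,153),(2,152),(0,159),(0,158),(0,157),(0,156),(0,155),(0,154),(1,152),(0,160),(0,172),(0,171),(0,170),(0,169),(0,168),(0,167),(0,166),(1,164),(0,163),(1,161),(1,159),(0,158),(0,157),(0,156),(1,154),(0,153),(1,151),(2,150),(1,155),(0,154),(0,153),(0,152),(0,151),(0,150),(0,149),(0,148),(0,157),(1,155),(0,154),(0,153),(0,152),(0,158),(0,157),(1,155),(0,154),(0,165),(0,164),(0,163),(0,162),(0,161),(0,160),(0,159),(0,158),(0,157),(1,155),(1,153),(1,151),(0,150),(0,160),(0,159),(0,161),(0,168),(0,167),(0,166),(0,165),(0,164),(1,162),(1,160),(1,158),(0,157),(0,156),(1,167),(0,166),(0,165),(0,164),(0,163),(1,171),(0,170),(0,169),(1,167),(0,166),(0,170),(0,182),(0,18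1),(0,180),(0,179),(0,178),(0,177),(0,176),(1,174),(0,173),(1,171),(1,169),(0,168),(0,167),(1,165),(0,164),(1,162),(0,161),(0,160),(1,158),(0,157),(1,155),(0,154),(0,153),(1,151),(1,149),(1,147),(2,146),(2,145),(0,145),(2,144),(0,151),(0,150),(0,152),(1,153),(1,151),(1,149),(0,148),(0,147),(0,146),(0,145),(0,144),(0,149),(0,151),(1,155),(0,154),(0,153),(0,152),(1,150),(1,148),(0,147),(0,146),(0,145),(1,143),(2,142),(0,145),(0,144),(0,143),(0,142),(2,141),(0,146),(1,144),(0,143),(0,142),(1,146),(0,145),(0,144),(1,148),(0,147),(0,146),(0,145),(1,143),(1,141),(2,140),(2,139),(0,150),(0,151),(1,149),(0,148),(0,147),(0,146),(0,145),(0,144),(1,142),(0,141),(0,140),(1,138),(2,137),(0,151),(0,150),(0,149),(0,148),(0,147),(1,152),(0,151),(0,150),(0,149),(0,155),(0,154),(1,152),(0,151),(0,155),(1,156),(1,154),(0,153),(0,161),(0,160),(0,159),(0,158),(0,157),(1,162),(0,161),(0,160),(1,167),(0,166),(0,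165),(0,164),(1,162),(0,161),(1,159),(0,158),(1,156),(0,155),(0,154),(1,152),(1,150),(1,148),(1,146),(0,145),(0,144),(0,143),(0,142),(0,141),(0,140),(0,139),(0,138),(0,137),(0,146),(0,145),(0,148),(0,147),(0,154),(0,153),(1,155),(0,154),(1,152),(0,151),(0,150),(0,149),(0,161),(0,160),(0,159),(0,158),(0,157),(0,156),(0,155),(0,162),(1,163),(1,161),(0,160),(0,159),(0,172),(0,171),(0,170),(0,169),(0,168),(1,166),(1,173),(0,172),(0,171),(0,170),(1,168),(0,167),(1,165),(0,164),(0,163),(1,161),(0,160),(1,158),(0,157),(0,156),(1,154),(0,153),(0,152),(0,151),(0,150),(1,148),(1,146),(1,144),(0,143),(0,142),(0,141),(0,140),(0,152),(0,151),(0,150),(0,149),(0,161),(0,160),(0,162),(0,163),(1,161),(1,159),(0,158),(0,157),(0,156),(0,155),(1,153),(0,152),(0,171),(0,170),(0,169),(0,168),(0,167),(0,166),(1,164),(0,172),(0,184),(0,183),(0,182),(0,181),(0,180),(0,179),(0,178),(1,176),(0,175),(1,173),(1,171),(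0,170),(0,169),(0,168),(1,166),(0,165),(1,163),(0,162),(0,161),(1,159),(0,158),(0,157),(1,155),(0,154),(0,153),(1,151),(0,150),(1,148),(0,147),(0,146),(1,144),(0,143),(0,147),(1,169),(0,168),(0,167),(0,166),(0,165),(0,164),(0,163),(0,171),(1,169),(0,168),(0,167),(0,166),(0,172),(0,171),(1,169),(0,168),(0,179),(0,178),(0,177),(0,176),(0,175),(0,174),(0,173),(0,172),(0,171),(1,169),(1,167),(1,165),(0,164),(1,162),(0,161),(0,160),(0,159),(0,158),(0,157),(0,156),(1,154),(0,174),(0,173),(0,175),(0,182),(0,181),(0,180),(0,179),(0,178),(1,176),(1,174),(1,172),(0,171),(0,170),(1,181),(0,180),(0,179),(0,178),(0,177),(1,185),(0,184),(0,183),(1,181),(0,180),(0,184),(0,196),(0,195),(0,194),(0,193),(0,192),(0,191),(0,190),(1,188),(0,187),(1,185),(1,183),(0,182),(0,181),(1,179),(0,178),(1,176),(0,175),(0,174),(1,172),(0,171),(1,169),(0,168),(0,167),(1,165),(0,164),(1,162),(0,161),(0,160),(0,159),(0,158)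,(1,156),(0,155),(1,153),(0,152),(0,151),(0,150),(1,148),(1,146),(0,145),(0,144),(1,142),(0,141),(1,139),(0,138),(1,136),(2,135),(2,134),(0,134),(0,135),(1,133),(0,132),(0,131),(2,130),(0,135),(0,134),(0,133),(0,132),(1,130),(0,136),(0,135),(0,134),(1,132),(0,131),(1,129),(2,128),(0,136),(0,135),(0,134),(1,137),(0,136),(0,135),(1,133),(0,132),(0,131),(0,130),(0,129),(0,128),(0,127),(0,126),(1,124),(2,123),(0,138),(0,137),(1,135),(0,134),(0,133),(1,131),(0,130),(0,129),(0,128),(0,138),(1,139),(1,137),(0,136),(0,135),(0,134),(0,133),(1,131),(0,130),(0,141),(0,140),(1,142),(0,141),(1,139),(0,138),(0,137),(0,136),(0,135),(0,134),(0,133),(1,131),(1,129),(1,127),(0,126),(1,124),(0,123),(2,122),(0,129),(1,130),(1,128),(0,127),(0,126),(0,125),(0,124),(0,123),(0,122),(0,128),(0,130),(0,132),(0,131),(1,129),(1,127),(0,126),(1,143),(0,142),(0,141),(0,140),(0,139),(0,138),(0,137),(1,135),(0,134),(0,13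3),(0,132),(0,143),(0,145),(0,146),(1,144),(1,142),(0,141),(0,140),(0,139),(1,137),(0,136),(0,135),(0,159),(0,158),(0,160),(1,161),(1,159),(1,157),(0,156),(0,155),(0,154),(0,153),(0,152),(0,151),(1,149),(0,148),(0,147),(0,157),(0,159),(1,163),(0,162),(0,161),(0,160),(1,158),(1,156),(0,155),(0,154),(0,153),(1,151),(0,150),(0,149),(0,148),(1,146),(0,145),(0,144),(1,142),(0,141),(1,139),(0,138),(0,137),(0,136),(1,134),(0,133),(1,131),(0,130),(0,129),(1,127),(1,125),(0,124),(0,123),(1,121),(2,120),(0,125),(1,126),(1,124),(0,123),(0,122),(0,121),(0,120),(2,119),(1,126),(0,125),(0,124),(1,122),(0,121),(0,120),(0,125),(0,128),(1,126),(1,124),(0,123),(0,122),(0,129),(0,128),(0,127),(0,130),(0,138),(0,137),(0,139),(0,141),(0,145),(0,144),(0,143),(0,142),(1,140),(1,138),(1,136),(0,135),(0,134),(0,146),(0,147),(1,145),(0,144),(0,143),(0,142),(0,141),(0,140),(0,139),(0,148),(0,147),(1,145),(0,144),(0,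143),(0,142),(1,149),(0,148),(0,147),(1,145),(0,151),(0,150),(0,149),(0,148),(0,154),(1,152),(0,151),(0,150),(1,154),(0,153),(0,152),(1,156),(0,155),(0,154),(0,153),(1,151),(1,149),(1,147),(0,146),(1,144),(0,143),(1,141),(0,140),(1,138),(0,137),(0,136),(0,135),(1,133),(1,131),(1,129),(0,128),(1,126),(0,125),(0,124),(0,123),(1,121),(1,119),(2,118),(2,117),(0,129),(1,142),(0,141),(0,140),(0,139),(0,144),(1,142),(0,141),(0,145),(0,158),(0,159),(1,157),(0,156),(0,155),(0,154),(0,153),(0,152),(1,150),(0,149),(0,148),(1,146),(1,144),(0,143),(0,142),(1,140),(1,138),(0,137),(0,136),(0,135),(1,133),(0,132),(1,130),(1,128),(0,127),(0,126),(0,125),(0,124),(0,123),(0,122),(1,120),(0,119),(0,118),(1,116),(2,115),(0,130),(0,129),(0,128),(0,127),(0,126),(0,125),(0,131),(1,132),(1,130),(0,129),(0,128),(0,127),(0,130),(0,132),(0,134),(0,133),(1,131),(1,129),(1,135),(0,134),(0,133),(0,132),(0,137),(1,135),(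0,138),(0,159),(0,158),(0,157),(0,156),(0,155),(1,160),(0,159),(0,158),(0,157),(0,163),(0,162),(1,160),(0,159),(0,163),(1,164),(1,162),(0,161),(0,169),(0,168),(0,167),(0,166),(0,165),(1,170),(0,169),(0,168),(1,175),(0,174),(0,173),(0,172),(1,170),(0,169),(1,167),(0,166),(1,164),(0,163),(0,162),(1,160),(1,158),(1,156),(1,154),(0,153),(0,152),(0,151),(0,150),(0,149),(0,148),(0,147),(0,146),(0,145),(0,144),(0,143),(1,141),(1,139),(1,137),(0,136),(1,134),(0,133),(1,131),(0,130),(1,128),(1,126),(1,124),(0,123),(0,122),(0,121),(0,120),(0,119),(0,118),(0,117),(0,116),(0,115),(1,113),(2,112),(0,113),(0,112),(0,122),(0,121),(0,124),(0,123),(0,126),(0,125),(0,139),(1,140),(1,138),(0,137),(0,136),(0,135),(0,134),(0,133),(0,132),(0,138),(0,140),(0,142),(0,141),(1,139),(1,137),(0,136),(0,143),(0,142),(0,152),(0,151),(0,154),(0,153),(0,160),(0,159),(1,161),(0,160),(1,158),(0,157),(0,156),(0,155),(0,167)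,(0,166),(0,165),(0,164),(0,163),(0,162),(0,161),(0,168),(1,169),(1,167),(0,166),(0,165),(0,178),(0,177),(0,176),(0,175),(0,174),(1,172),(1,179),(0,178),(0,177),(0,176),(1,174),(0,173),(1,171),(0,170),(0,169),(1,167),(0,166),(1,164),(0,163),(0,162),(1,160),(0,159),(0,158),(0,157),(0,156),(1,154),(1,152),(1,150),(0,149),(0,148),(0,147),(0,146),(1,144),(0,143),(1,141),(0,140),(0,139),(1,137),(1,135),(0,134),(0,133),(1,131),(0,130),(0,129),(0,128),(0,127),(0,126),(1,124),(1,122),(1,120),(0,119),(0,118),(0,117),(0,116),(1,114),(0,113),(1,111),(0,110),(0,109),(2,108),(0,114),(0,113),(0,112),(0,111),(0,110),(1,108),(1,127),(0,126),(0,125),(0,124),(0,123),(0,135),(1,136),(1,134),(0,133),(0,132),(0,131),(0,130),(0,129),(1,127),(0,126),(0,130),(1,138),(0,137),(0,136),(1,134),(0,133),(0,132),(0,144),(0,143),(0,142),(0,141),(0,156),(0,155),(0,154),(0,153),(0,165),(0,164),(0,166),(0,167),(1,165),(1,16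3),(0,162),(0,161),(0,160),(0,159),(1,157),(0,156),(0,175),(0,174),(0,173),(0,172),(0,171),(0,170),(1,168),(0,176),(0,188),(0,187),(0,186),(0,185),(0,184),(0,183),(0,182),(1,180),(0,179),(1,177),(1,175),(0,174),(0,173),(0,172),(1,170),(0,169),(1,167),(0,166),(0,165),(1,163),(0,162),(0,161),(1,159),(0,158),(0,157),(1,155),(0,154),(1,152),(0,151),(0,150),(1,148),(0,147),(1,145),(0,144),(0,143),(0,142),(1,140),(0,139),(0,138),(0,137),(0,136),(1,134),(0,133),(1,131),(1,129),(0,128),(0,127),(1,125),(0,124),(1,122),(0,121),(0,120),(1,118),(0,117),(1,115),(0,114),(0,113),(0,112),(1,110),(0,109),(1,107),(2,106),(0,115),(0,114),(0,113),(0,112),(0,116),(0,119),(1,117),(1,115),(0,114),(0,113),(1,111),(0,110),(0,109),(0,108),(0,107),(0,106),(0,105),(0,104),(1,102),(2,101),(1,117),(0,116),(0,115),(1,113),(0,112),(0,111),(1,109),(0,108),(0,107),(0,106),(0,116),(0,119),(1,117),(1,115),(0,114),(0,113),(0,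112),(0,111),(1,109),(0,108),(0,120),(0,119),(0,118),(0,121),(0,143),(0,142),(0,141),(0,140),(0,144),(0,147),(1,145),(1,143),(0,142),(0,141),(1,139),(0,138),(0,137),(0,136),(0,135),(0,139),(0,138),(1,147),(0,146),(0,145),(1,143),(0,142),(0,141),(0,140),(0,146),(0,149),(1,147),(1,145),(0,144),(0,143),(0,142),(0,150),(0,149),(0,148),(0,151),(1,169),(0,168),(0,167),(0,166),(0,165),(0,164),(0,163),(0,171),(1,169),(0,168),(0,167),(0,166),(0,172),(0,171),(1,169),(0,168),(0,179),(0,178),(0,177),(0,176),(0,175),(0,174),(0,173),(0,172),(0,171),(1,169),(1,167),(1,165),(0,164),(1,162),(0,161),(0,160),(0,159),(0,158),(0,157),(0,156),(1,154),(1,152),(1,150),(0,149),(1,147),(0,146),(0,145),(0,144),(0,143),(1,141),(1,139),(1,137),(0,136),(1,134),(0,133),(0,132),(0,131),(0,130),(0,129),(0,128),(0,127),(0,126),(1,124),(1,122),(1,120),(0,119),(1,117),(0,116),(0,115),(0,114),(0,113),(0,112),(0,111),(1,109),(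1,107),(1,105),(0,104),(1,102),(0,101),(2,100),(0,107),(1,108),(1,106),(0,105),(0,104),(0,103),(0,102),(0,101),(0,100),(0,106),(0,108),(0,110),(0,109),(1,107),(1,105),(0,104),(0,122),(1,123),(1,121),(0,120),(0,119),(0,118),(0,117),(0,116),(0,115),(1,113),(0,112),(0,111),(0,110),(0,121),(0,123),(0,125),(0,124),(1,122),(1,120),(0,119),(0,118),(0,117),(1,115),(0,114),(0,113),(0,126),(0,125),(0,152),(1,153),(1,151),(0,150),(0,149),(0,148),(0,147),(0,146),(0,145),(1,143),(0,142),(0,141),(0,140),(0,151),(0,153),(0,155),(0,154),(1,152),(1,150),(0,149),(0,148),(0,147),(1,145),(0,144),(0,143),(0,167),(1,168),(1,166),(0,165),(0,164),(0,163),(0,162),(0,161),(0,160),(1,158),(0,157),(0,156),(0,155),(0,166),(0,168),(0,170),(0,169),(1,167),(1,165),(0,164),(0,163),(0,162),(1,160),(0,159),(0,158),(0,172),(0,171),(0,170),(0,173),(1,178),(0,177),(0,176),(0,175),(0,174),(1,172),(0,171),(1,169),(0,168),(0,167)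,(1,165),(0,164),(1,162),(0,161),(0,160),(0,159),(1,157),(0,156),(1,154),(0,153),(0,152),(1,150),(0,149),(1,147),(0,146),(0,145),(0,144),(1,142),(0,141),(1,139),(0,138),(0,137),(1,135),(0,134),(1,132),(0,131),(0,130),(0,129),(1,127),(0,126),(1,124),(0,123),(0,122),(1,120),(0,119),(1,117),(0,116),(0,115),(0,114),(1,112),(0,111),(1,109),(0,108),(0,107),(1,105),(1,103),(0,102),(0,101),(1,99),(2,98),(0,103),(1,104),(1,102),(0,101),(0,100),(0,99),(0,98),(2,97),(1,104),(0,103),(0,102),(1,100),(0,99),(0,98),(0,103),(0,106),(1,104),(1,102),(0,101),(0,100),(0,107),(0,106),(0,105),(0,108),(0,116),(0,115),(0,117),(0,119),(0,125),(0,124),(0,123),(0,122),(0,121),(0,120),(1,118),(1,116),(1,114),(0,113),(0,112),(0,126),(0,125),(0,124),(1,127),(0,126),(0,125),(1,123),(0,122),(0,121),(0,120),(0,119),(0,118),(0,117),(0,129),(1,127),(0,126),(0,125),(1,123),(0,122),(0,121),(0,120),(0,130),(0,129),(1,127),(0,1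26),(0,125),(1,123),(0,131),(0,134),(1,132),(1,130),(0,129),(0,128),(0,127),(0,126),(1,134),(0,133),(0,132),(1,130),(0,129),(0,128),(0,133),(0,136),(1,134),(1,132),(0,131),(0,130),(0,137),(0,136),(0,135),(0,138),(0,146),(0,145),(0,147),(0,149),(0,155),(0,154),(0,153),(0,152),(0,151),(0,150),(1,148),(1,146),(1,144),(0,143),(0,142),(0,156),(0,155),(0,154),(1,157),(0,156),(0,155),(1,153),(0,152),(0,151),(0,150),(0,149),(0,148),(0,147),(0,159),(1,157),(0,156),(0,155),(1,153),(0,152),(0,151),(0,150),(0,160),(0,159),(1,157),(0,156),(0,155),(1,153),(0,161),(1,162),(1,160),(0,159),(0,158),(0,157),(0,156),(1,164),(0,163),(0,162),(1,160),(0,159),(0,158),(0,163),(0,166),(1,164),(1,162),(0,161),(0,160),(0,167),(0,166),(0,165),(0,168),(0,176),(0,175),(0,174),(0,173),(1,171),(1,169),(1,167),(0,166),(1,164),(0,163),(0,162),(0,161),(1,159),(1,157),(1,155),(0,154),(1,152),(0,151),(1,149),(0,148),(1,146),(0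,145),(0,144),(0,143),(1,141),(1,139),(1,137),(0,136),(1,134),(0,133),(0,132),(0,131),(1,129),(1,127),(1,125),(0,124),(1,122),(0,121),(1,119),(0,118),(1,116),(0,115),(0,114),(0,113),(1,111),(1,109),(1,107),(0,106),(1,104),(0,103),(0,102),(0,101),(1,99),(1,97),(2,96),(2,95),(0,107),(1,120),(0,119),(0,118),(0,117),(0,122),(1,120),(0,119),(0,123),(0,137),(1,150),(0,149),(0,148),(0,147),(0,152),(1,150),(0,149),(0,153),(0,167),(1,175),(0,174),(0,173),(1,171),(0,170),(1,168),(1,166),(0,165),(0,164),(0,163),(0,162),(0,161),(0,160),(1,158),(0,157),(0,156),(1,154),(1,152),(0,151),(0,150),(1,148),(1,146),(0,145),(0,144),(0,143),(1,141),(0,140),(1,138),(1,136),(0,135),(0,134),(0,133),(0,132),(0,131),(0,130),(1,128),(0,127),(0,126),(1,124),(1,122),(0,121),(0,120),(1,118),(1,116),(0,115),(0,114),(0,113),(1,111),(0,110),(1,108),(1,106),(0,105),(0,104),(0,103),(0,102),(0,101),(0,100),(1,98),(0,97),(0,96)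,(1,94),(2,93),(0,96),(0,95),(0,94),(0,97),(0,96),(1,98),(0,97),(1,95),(1,93),(0,92),(0,91),(2,90),(0,91),(0,90),(2,89),(0,91),(0,97),(0,98),(1,96),(0,95),(0,94),(0,93),(0,92),(1,90),(0,89),(2,88),(2,87),(2,86),(2,85),(0,86),(0,85),(2,84),(0,85),(0,84),(2,83),(0,88),(0,87),(0,86),(1,84),(0,83),(2,82),(2,81),(2,80),(2,79),(0,84),(0,83),(0,82),(0,81),(0,80),(0,85),(1,86),(1,84),(0,83),(0,82),(0,81),(1,79),(2,78),(2,77),(0,80),(0,85),(0,86),(1,84),(0,83),(0,82),(0,81),(1,79),(0,78),(0,77),(2,76),(0,76),(2,75),(0,75),(2,74),(0,74),(2,73),(0,73),(2,72),(0,73),(0,72),(2,71),(0,75),(0,74),(1,72),(0,71),(2,70),(2,69),(2,68),(2,67),(0,70),(0,69),(0,68),(1,71),(0,70),(0,69),(1,67),(2,66),(2,65),(0,69),(1,67),(0,66),(0,65),(2,64),(0,64),(2,63),(0,63),(2,62),(0,62),(2,61),(0,66),(0,65),(0,64),(0,67),(0,66),(1,68),(0,67),(1,65),(1,63),(0,62),(0,61),(2,60),(0,61),(0,60),(2,59),(0,61),(0,67),(0,68),(1,66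),(0,65),(0,64),(0,63),(0,62),(1,60),(0,59),(2,58),(2,57),(2,56),(2,55),(0,56),(0,55),(2,54),(0,55),(0,54),(2,53),(0,58),(0,57),(0,56),(1,54),(0,53),(2,52),(2,51),(2,50),(2,49),(0,54),(0,53),(0,52),(0,51),(0,50),(0,55),(1,56),(1,54),(0,53),(0,52),(0,51),(1,49),(2,48),(2,47),(0,50),(0,55),(0,56),(1,54),(0,53),(0,52),(0,51),(1,49),(0,48),(0,47),(2,46),(0,46),(2,45),(0,45),(2,44),(0,44),(2,43),(0,43),(2,42),(0,43),(0,42),(2,41),(0,45),(0,44),(1,42),(0,41),(2,40),(2,39),(2,38),(2,37),(0,40),(0,39),(0,38),(1,41),(0,40),(0,39),(1,37),(2,36),(2,35),(0,39),(1,37),(0,36),(0,35),(2,34),(0,34),(2,33),(0,33),(2,32),(0,32),(2,31),(0,36),(0,35),(0,34),(0,37),(0,36),(1,38),(0,37),(1,35),(1,33),(0,32),(0,31),(2,30),(0,31),(0,30),(2,29),(0,31),(0,37),(0,38),(1,36),(0,35),(0,34),(0,33),(0,32),(1,30),(0,29),(2,28),(2,27),(2,26),(2,25),(0,26),(0,25),(2,24),(0,25),(0,24),(2,23),(0,28),(0,27),(0,26),(1,24),(0,23),(2,22),(2,21),(2,20),(2,19),(0,24),(0,23),(0,22),(0,21),(0,20),(0,25),(0,28),(1,26),(1,24),(0,23),(0,22),(0,21),(1,19),(2,18),(2,17),(0,20),(1,24),(0,23),(0,22),(0,21),(1,19),(0,18),(0,17),(2,16),(0,16),(2,15),(0,15),(2,14),(0,14),(2,13),(0,13),(2,12),(0,13),(0,12),(2,11),(0,14),(1,12),(0,11),(2,10),(2,9),(2,8),(2,7),(1,7),(2,6),(2,5),(0,5),(2,4),(0,4),(2,3),(0,3),(2,2),(0,2),(2,1),(2,0)]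

/-- A list of moves. -/
def cert_xh : List (ℕ × ℕ) := [(0,166),(0,165),(0,164),(0,163),(0,162),(0,161),(0,160),(1,158),(2,157),(0,159),(0,158),(0,157),(0,156),(0,155),(0,154),(1,160),(0,159),(0,158),(1,165),(0,164),(0,163),(0,162),(1,160),(0,159),(1,157),(0,156),(0,155),(1,153),(0,152),(0,151),(2,150),(0,161),(0,160),(0,159),(0,158),(0,157),(0,156),(1,154),(0,153),(0,152),(1,150),(0,162),(0,174),(0,173),(0,172),(0,171),(0,170),(0,169),(0,168),(1,166),(0,165),(1,163),(1,161),(0,160),(0,159),(0,158),(1,156),(0,155),(0,154),(1,152),(0,151),(1,149),(2,148),(0,157),(0,156),(0,155),(0,154),(0,153),(0,152),(0,151),(0,150),(0,149),(0,148),(0,158),(0,161),(1,159),(1,157),(0,156),(0,155),(0,154),(0,153),(1,161),(0,160),(0,159),(1,157),(0,156),(0,155),(0,160),(0,163),(1,161),(1,159),(0,158),(0,157),(0,164),(0,163),(0,162),(0,165),(0,175),(0,174),(0,173),(0,172),(0,171),(0,170),(1,168),(1,166),(1,16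4),(0,163),(1,161),(0,160),(0,159),(0,158),(1,156),(1,154),(1,152),(0,151),(0,168),(1,169),(1,167),(0,166),(0,165),(0,164),(0,163),(0,162),(0,161),(1,159),(0,158),(0,157),(0,167),(0,169),(1,174),(0,173),(0,172),(0,171),(0,170),(1,168),(1,166),(0,165),(0,164),(0,163),(1,161),(0,160),(0,178),(0,177),(0,176),(0,175),(1,173),(0,172),(0,171),(1,179),(0,178),(0,177),(1,175),(0,174),(0,178),(0,190),(0,189),(0,188),(0,187),(0,186),(0,185),(0,184),(1,182),(0,181),(1,179),(1,177),(0,176),(0,175),(1,173),(0,172),(1,170),(0,169),(0,168),(1,166),(0,165),(1,163),(0,162),(0,161),(1,159),(0,158),(1,156),(0,155),(0,154),(1,152),(1,150),(0,149),(1,147),(2,146),(2,145),(0,148),(1,149),(1,147),(0,146),(0,145),(1,151),(0,150),(0,149),(1,147),(0,146),(1,144),(2,143),(0,155),(0,154),(0,153),(1,156),(0,155),(0,154),(1,152),(0,151),(0,150),(0,149),(0,152),(0,158),(1,156),(0,155),(0,154),(0,159),(0,158),(1,156),(0,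155),(1,153),(1,151),(0,150),(1,148),(0,147),(0,146),(0,145),(0,160),(1,161),(1,159),(0,158),(0,157),(0,156),(1,163),(0,162),(0,161),(1,159),(0,158),(0,157),(1,155),(0,154),(0,153),(1,151),(0,150),(1,148),(0,147),(0,146),(1,144),(0,143),(2,142),(0,145),(0,144),(0,143),(0,146),(0,145),(0,147),(0,148),(1,146),(1,144),(1,142),(2,141),(2,140),(0,140),(2,139),(0,150),(0,149),(0,148),(0,151),(0,150),(0,152),(0,153),(1,151),(1,149),(1,147),(0,146),(0,145),(0,144),(0,143),(0,142),(0,141),(0,140),(1,138),(2,137),(0,145),(0,147),(0,156),(0,155),(0,154),(1,152),(0,157),(0,156),(1,154),(0,153),(1,151),(0,150),(0,149),(0,148),(1,146),(1,144),(0,143),(0,142),(0,141),(0,140),(1,138),(0,137),(2,136),(0,157),(1,158),(1,156),(0,155),(0,154),(0,153),(0,152),(0,151),(0,150),(0,156),(0,158),(0,161),(0,160),(0,159),(1,157),(1,155),(0,154),(0,153),(0,152),(0,161),(0,160),(1,162),(0,161),(1,159),(0,158),(0,157),(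1,155),(0,154),(0,167),(0,166),(0,165),(0,164),(0,163),(0,162),(1,168),(0,167),(0,166),(1,173),(0,172),(0,171),(0,170),(1,168),(0,167),(1,165),(0,164),(0,163),(1,161),(0,160),(0,159),(0,158),(0,157),(1,155),(1,153),(1,151),(1,149),(0,148),(0,147),(0,146),(0,145),(0,144),(0,143),(1,141),(0,140),(0,139),(0,149),(0,148),(0,151),(0,159),(0,171),(0,170),(0,169),(0,168),(0,167),(0,166),(1,164),(0,163),(0,162),(1,160),(1,158),(0,157),(0,156),(0,172),(0,184),(0,183),(0,182),(0,181),(0,180),(0,179),(0,178),(1,176),(0,175),(1,173),(1,171),(0,170),(0,169),(0,168),(1,166),(0,165),(0,164),(1,162),(0,161),(0,160),(1,158),(0,157),(1,155),(0,154),(0,153),(0,152),(1,150),(0,149),(1,147),(0,146),(0,145),(1,143),(0,142),(0,146),(0,169),(0,168),(0,167),(0,166),(0,165),(0,164),(0,163),(0,162),(0,170),(0,173),(1,171),(1,169),(0,168),(0,167),(0,166),(0,165),(1,173),(0,172),(0,171),(1,169),(0,168),(0,167),(0,172)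,(0,175),(1,173),(1,171),(0,170),(0,169),(0,176),(0,175),(0,174),(0,177),(0,187),(0,186),(0,185),(0,184),(0,183),(0,182),(1,180),(1,178),(1,176),(0,175),(1,173),(0,172),(0,171),(0,170),(1,168),(1,166),(1,164),(0,163),(1,161),(0,160),(0,159),(0,158),(0,180),(1,181),(1,179),(0,178),(0,177),(0,176),(0,175),(0,174),(0,173),(1,171),(0,170),(0,169),(0,179),(0,181),(1,186),(0,185),(0,184),(0,183),(0,182),(1,180),(1,178),(0,177),(0,176),(0,175),(1,173),(0,172),(0,190),(0,189),(0,188),(0,187),(1,185),(0,184),(0,183),(1,191),(0,190),(0,189),(1,187),(0,186),(0,190),(0,202),(0,201),(0,200),(0,199),(0,198),(0,197),(0,196),(1,194),(0,193),(1,191),(1,189),(0,188),(0,187),(1,185),(0,184),(1,182),(0,181),(0,180),(1,178),(0,177),(1,175),(0,174),(0,173),(1,171),(0,170),(1,168),(0,167),(0,166),(1,164),(0,163),(1,161),(0,160),(0,159),(1,157),(0,156),(0,155),(0,154),(0,153),(0,152),(1,150),(0,149),(1,147),(1,14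5),(0,144),(0,143),(1,141),(0,140),(1,138),(0,137),(0,136),(2,135),(0,134),(0,133),(0,132),(1,135),(0,134),(0,133),(1,131),(0,130),(0,129),(2,128),(0,136),(0,135),(0,134),(1,132),(0,131),(0,130),(1,128),(0,137),(0,136),(1,134),(0,133),(0,132),(1,130),(0,129),(1,127),(2,126),(0,137),(1,138),(1,136),(0,135),(0,134),(0,133),(0,132),(0,131),(0,130),(0,129),(0,128),(0,127),(0,126),(1,124),(2,123),(1,126),(0,125),(0,124),(0,123),(0,128),(1,126),(0,134),(0,136),(0,139),(0,138),(0,137),(1,135),(1,133),(0,132),(0,131),(0,130),(0,129),(0,139),(0,138),(1,140),(0,139),(1,137),(0,136),(0,135),(1,133),(0,132),(0,131),(0,151),(0,150),(0,149),(0,152),(0,151),(0,153),(1,154),(1,152),(1,150),(1,148),(0,147),(0,146),(0,145),(0,144),(0,143),(0,142),(0,141),(0,140),(0,148),(0,147),(0,150),(0,156),(0,155),(1,157),(0,156),(1,154),(0,153),(0,152),(0,151),(1,149),(0,148),(1,146),(0,145),(0,144),(0,153),(0,152),(1,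159),(0,158),(0,157),(0,156),(1,154),(0,153),(1,151),(0,150),(0,149),(0,148),(1,146),(0,145),(1,143),(0,142),(0,141),(1,139),(0,138),(0,137),(0,136),(0,135),(1,133),(0,132),(1,130),(1,128),(0,127),(1,125),(0,124),(1,122),(2,121),(0,131),(0,130),(0,132),(0,133),(1,131),(1,129),(0,128),(0,127),(0,126),(0,125),(0,124),(0,123),(0,129),(0,131),(0,134),(0,133),(0,132),(1,130),(1,128),(0,127),(0,143),(0,142),(0,141),(0,140),(0,139),(0,138),(0,137),(1,135),(0,134),(0,133),(0,144),(1,145),(1,143),(0,142),(0,141),(0,140),(0,139),(1,137),(0,136),(0,163),(0,162),(0,161),(1,164),(0,163),(0,162),(1,160),(0,159),(0,158),(0,157),(0,156),(0,160),(0,166),(1,164),(0,163),(0,162),(0,167),(0,166),(1,164),(0,163),(1,161),(1,159),(0,158),(0,157),(1,155),(0,154),(0,153),(0,152),(0,151),(0,150),(1,148),(0,168),(1,169),(1,167),(0,166),(0,165),(0,164),(1,171),(0,170),(0,169),(1,167),(0,166),(0,165),(1,163),(0,162),(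0,161),(1,159),(0,158),(0,157),(1,155),(0,154),(0,153),(0,152),(1,150),(0,149),(1,147),(0,146),(0,145),(1,143),(0,142),(0,141),(1,139),(0,138),(0,137),(1,135),(0,134),(1,132),(0,131),(0,130),(1,128),(1,126),(0,125),(0,124),(1,122),(0,121),(2,120),(0,126),(1,127),(1,125),(0,124),(0,123),(0,122),(0,121),(1,129),(0,128),(0,127),(1,125),(0,124),(0,123),(0,128),(0,131),(1,129),(1,127),(0,126),(0,125),(0,132),(0,131),(0,130),(0,133),(1,147),(0,146),(0,145),(0,144),(0,143),(1,141),(0,140),(0,139),(0,149),(1,147),(0,146),(0,145),(1,143),(0,142),(0,141),(0,146),(0,150),(0,149),(1,147),(1,145),(0,144),(0,143),(0,151),(0,150),(0,149),(0,148),(0,152),(0,151),(0,153),(1,154),(1,152),(1,150),(0,149),(1,147),(0,146),(0,145),(0,144),(1,142),(1,140),(1,138),(0,137),(0,136),(1,134),(1,132),(0,131),(1,129),(0,128),(0,127),(0,126),(1,124),(1,122),(1,120),(2,119),(2,118),(0,118),(2,117),(0,130),(0,129),(0,128)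,(0,127),(1,131),(0,130),(0,129),(0,133),(1,131),(0,134),(0,143),(0,142),(0,144),(0,158),(0,157),(0,156),(0,159),(0,158),(0,160),(0,161),(1,159),(1,157),(1,155),(0,154),(0,153),(0,152),(0,151),(0,150),(0,149),(0,148),(0,147),(1,145),(1,143),(1,141),(0,140),(0,139),(0,138),(0,137),(1,135),(1,133),(0,132),(1,130),(1,128),(1,126),(0,125),(0,124),(0,123),(0,122),(0,121),(0,120),(0,119),(0,118),(1,116),(2,115),(0,124),(0,123),(0,126),(0,125),(0,128),(0,127),(0,135),(0,134),(0,145),(0,144),(0,153),(0,155),(0,164),(0,163),(0,162),(1,160),(0,165),(0,164),(1,162),(0,161),(1,159),(0,158),(0,157),(0,156),(1,154),(1,152),(0,151),(0,150),(0,149),(0,148),(1,146),(0,145),(1,143),(0,142),(0,141),(1,139),(0,138),(1,136),(0,135),(1,133),(0,132),(0,131),(0,130),(0,129),(0,128),(1,126),(1,124),(1,122),(0,121),(0,120),(0,119),(0,118),(1,116),(0,115),(2,114),(0,113),(0,112),(0,111),(0,110),(0,114),(0,136),(0,13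5),(0,134),(0,133),(0,132),(0,131),(0,137),(0,140),(1,138),(1,136),(0,135),(0,134),(0,133),(1,140),(0,139),(0,138),(1,136),(0,135),(0,139),(0,142),(1,140),(1,138),(0,137),(0,143),(0,142),(0,141),(0,144),(0,165),(1,166),(1,164),(0,163),(0,162),(0,161),(0,160),(0,159),(0,158),(0,164),(0,166),(0,169),(0,168),(0,167),(1,165),(1,163),(0,162),(0,161),(0,160),(0,169),(0,168),(1,170),(0,169),(1,167),(0,166),(0,165),(1,163),(0,162),(0,175),(0,174),(0,173),(0,172),(0,171),(0,170),(1,176),(0,175),(0,174),(1,181),(0,180),(0,179),(0,178),(1,176),(0,175),(1,173),(0,172),(0,171),(1,169),(0,168),(0,167),(0,166),(0,165),(1,163),(1,161),(1,159),(1,157),(0,156),(0,155),(0,154),(0,153),(0,152),(0,151),(1,149),(0,148),(0,147),(1,145),(1,143),(0,142),(1,140),(0,139),(0,138),(1,136),(1,134),(1,132),(1,130),(0,129),(0,128),(0,127),(0,126),(0,125),(0,124),(0,123),(0,122),(0,121),(1,119),(0,118),(0,117),(1,115),(1,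113),(0,112),(0,111),(1,109),(0,108),(0,107),(2,106),(0,115),(0,114),(0,113),(0,112),(1,110),(0,109),(0,108),(1,106),(0,130),(1,128),(0,127),(0,126),(0,125),(0,124),(0,136),(0,135),(1,137),(0,136),(1,134),(0,133),(0,132),(0,131),(0,130),(1,128),(0,127),(0,133),(0,132),(0,131),(0,140),(0,141),(1,139),(0,138),(0,137),(0,136),(1,134),(0,133),(0,145),(0,144),(0,143),(0,142),(0,155),(0,154),(0,157),(0,165),(0,177),(0,176),(0,175),(0,174),(0,173),(0,172),(1,170),(0,169),(0,168),(1,166),(1,164),(0,163),(0,162),(0,178),(0,190),(0,189),(0,188),(0,187),(0,186),(0,185),(0,184),(1,182),(0,181),(1,179),(1,177),(0,176),(0,175),(0,174),(1,172),(0,171),(0,170),(1,168),(0,167),(0,166),(1,164),(0,163),(1,161),(0,160),(0,159),(0,158),(1,156),(0,155),(1,153),(0,152),(0,151),(1,149),(0,148),(1,146),(0,145),(0,144),(0,143),(1,141),(0,140),(0,139),(0,138),(0,137),(0,136),(1,134),(1,132),(1,130),(0,129),(0,128),(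1,126),(0,125),(1,123),(0,122),(0,121),(1,119),(0,118),(1,116),(0,115),(0,114),(1,112),(0,111),(0,110),(1,108),(0,107),(1,105),(2,104),(0,116),(0,115),(0,117),(0,120),(1,118),(1,116),(1,114),(0,113),(0,112),(0,111),(0,110),(0,109),(0,108),(0,107),(0,106),(0,105),(0,104),(1,102),(2,101),(1,104),(0,103),(0,102),(0,101),(0,106),(1,104),(0,112),(0,114),(1,118),(0,117),(0,116),(0,115),(1,113),(1,111),(0,110),(0,109),(0,108),(0,107),(0,117),(0,116),(0,120),(1,118),(0,117),(1,115),(0,114),(0,113),(1,111),(0,110),(0,109),(0,121),(0,120),(0,119),(0,118),(0,122),(0,144),(0,143),(0,145),(0,148),(1,146),(1,144),(1,142),(0,141),(0,140),(0,139),(0,138),(0,137),(0,136),(0,135),(0,142),(0,141),(0,140),(0,139),(0,144),(1,148),(0,147),(0,146),(0,145),(1,143),(0,142),(0,141),(0,147),(0,146),(0,150),(1,148),(0,147),(1,145),(0,144),(0,143),(0,159),(0,158),(0,160),(1,161),(1,159),(1,157),(0,156),(0,155),(0,154)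,(0,153),(0,152),(0,151),(0,150),(0,149),(0,148),(0,157),(0,156),(0,159),(1,163),(0,162),(0,161),(0,160),(1,158),(0,157),(1,155),(0,154),(0,153),(0,152),(0,162),(0,161),(0,165),(1,163),(0,162),(1,160),(0,159),(0,158),(0,157),(1,155),(0,154),(0,171),(0,170),(0,169),(0,168),(0,167),(0,166),(0,165),(0,164),(0,163),(0,172),(0,175),(1,173),(1,171),(0,170),(0,169),(0,168),(0,167),(1,175),(0,174),(0,173),(1,171),(0,170),(0,169),(0,181),(0,180),(0,179),(0,178),(1,182),(0,181),(0,180),(0,179),(1,177),(0,176),(0,175),(0,174),(0,173),(1,171),(0,170),(1,168),(1,166),(0,165),(0,164),(1,162),(0,161),(0,160),(0,159),(0,158),(0,157),(1,155),(1,153),(1,151),(0,150),(0,149),(1,147),(0,146),(0,145),(0,144),(1,142),(1,140),(1,138),(0,137),(0,136),(1,134),(0,133),(0,132),(0,131),(0,130),(0,129),(0,128),(0,127),(1,125),(1,123),(1,121),(0,120),(0,119),(1,117),(0,116),(0,115),(0,114),(0,113),(1,111),(0,110),(1,10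8),(1,106),(0,105),(1,103),(0,102),(1,100),(2,99),(0,109),(0,108),(0,110),(0,111),(1,109),(1,107),(0,106),(0,105),(0,104),(0,103),(0,102),(0,101),(0,107),(0,109),(0,112),(0,111),(0,110),(1,108),(1,106),(0,105),(0,123),(1,124),(1,122),(0,121),(0,120),(0,119),(0,118),(0,117),(0,116),(0,115),(1,113),(0,112),(0,111),(0,122),(0,124),(0,126),(0,125),(1,123),(1,121),(0,120),(0,119),(0,118),(0,117),(1,115),(0,114),(0,127),(0,126),(0,153),(1,154),(1,152),(0,151),(0,150),(0,149),(0,148),(0,147),(0,146),(0,145),(1,143),(0,142),(0,141),(0,152),(0,154),(0,156),(0,155),(1,153),(1,151),(0,150),(0,149),(0,148),(0,147),(1,145),(0,144),(0,169),(0,168),(0,170),(0,171),(1,169),(1,167),(0,166),(0,165),(0,164),(0,163),(0,162),(0,161),(0,160),(1,158),(0,157),(0,156),(0,167),(0,169),(0,172),(0,171),(0,170),(1,168),(1,166),(0,165),(0,164),(0,163),(0,162),(1,160),(0,159),(0,178),(0,177),(0,176),(0,175),(1,173),(0,1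72),(0,171),(0,179),(0,178),(0,177),(1,175),(0,174),(0,190),(0,189),(0,188),(0,187),(0,186),(0,185),(1,183),(0,182),(1,180),(0,179),(1,177),(0,176),(0,175),(1,173),(0,172),(1,170),(0,169),(0,168),(1,166),(0,165),(0,164),(1,162),(0,161),(0,160),(1,158),(0,157),(1,155),(0,154),(0,153),(1,151),(0,150),(0,149),(1,147),(0,146),(0,145),(1,143),(0,142),(1,140),(0,139),(0,138),(1,136),(0,135),(0,134),(1,132),(0,131),(0,130),(1,128),(0,127),(1,125),(0,124),(0,123),(1,121),(0,120),(0,119),(1,117),(0,116),(0,115),(1,113),(0,112),(1,110),(0,109),(0,108),(1,106),(1,104),(0,103),(0,102),(1,100),(0,99),(2,98),(0,104),(1,105),(1,103),(0,102),(0,101),(0,100),(0,99),(1,107),(0,106),(0,105),(1,103),(0,102),(0,101),(0,106),(0,109),(1,107),(1,105),(0,104),(0,103),(0,110),(0,109),(0,108),(0,111),(0,128),(0,127),(0,126),(1,129),(0,128),(0,127),(1,125),(0,124),(0,123),(0,122),(0,121),(1,119),(0,118),(0,117),(0,13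1),(1,129),(0,128),(0,127),(1,125),(0,124),(0,123),(1,121),(0,120),(0,119),(0,124),(0,132),(0,131),(1,129),(0,128),(0,127),(1,125),(1,123),(0,122),(0,121),(0,133),(0,132),(0,131),(0,130),(0,129),(0,128),(0,127),(0,126),(0,134),(0,137),(1,135),(1,133),(0,132),(0,131),(0,130),(0,129),(1,137),(0,136),(0,135),(1,133),(0,132),(0,131),(0,136),(0,139),(1,137),(1,135),(0,134),(0,133),(0,140),(0,139),(0,138),(0,141),(0,158),(0,157),(0,156),(1,159),(0,158),(0,157),(1,155),(0,154),(0,153),(0,152),(0,151),(1,149),(0,148),(0,147),(0,161),(1,159),(0,158),(0,157),(1,155),(0,154),(0,153),(1,151),(0,150),(0,149),(0,154),(0,162),(0,161),(1,159),(0,158),(0,157),(1,155),(1,153),(0,152),(0,151),(0,163),(0,162),(0,161),(0,160),(0,159),(0,158),(0,157),(0,156),(0,164),(1,165),(1,163),(0,162),(0,161),(0,160),(0,159),(1,167),(0,166),(0,165),(1,163),(0,162),(0,161),(0,166),(0,169),(1,167),(1,165),(0,164),(0,163),(0,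170),(0,169),(0,168),(0,171),(0,178),(0,177),(0,179),(0,186),(0,185),(0,184),(0,183),(0,182),(1,180),(1,178),(1,176),(0,175),(0,174),(1,172),(1,170),(0,169),(1,167),(0,166),(0,165),(0,164),(1,162),(1,160),(1,158),(0,157),(1,155),(0,154),(0,153),(0,152),(1,150),(1,148),(1,146),(0,145),(0,144),(1,142),(1,140),(0,139),(1,137),(0,136),(0,135),(0,134),(1,132),(1,130),(1,128),(0,127),(1,125),(0,124),(0,123),(0,122),(1,120),(1,118),(1,116),(0,115),(0,114),(1,112),(1,110),(0,109),(1,107),(0,106),(0,105),(0,104),(1,102),(1,100),(1,98),(2,97),(2,96),(0,96),(2,95),(0,108),(0,107),(0,106),(0,105),(1,109),(0,108),(0,107),(0,111),(1,109),(0,112),(0,121),(0,120),(0,122),(0,138),(0,137),(0,136),(0,135),(1,139),(0,138),(0,137),(0,141),(1,139),(0,142),(0,151),(0,150),(0,152),(0,168),(0,167),(0,166),(0,165),(1,169),(0,168),(0,167),(0,171),(1,169),(0,172),(1,179),(0,178),(0,177),(0,176),(0,175),(1,173),(1,171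),(0,170),(1,168),(1,166),(1,164),(0,163),(0,162),(0,161),(0,160),(0,159),(0,158),(0,157),(0,156),(0,155),(1,153),(1,151),(1,149),(0,148),(0,147),(0,146),(0,145),(1,143),(1,141),(0,140),(1,138),(1,136),(1,134),(0,133),(0,132),(0,131),(0,130),(0,129),(0,128),(0,127),(0,126),(0,125),(1,123),(1,121),(1,119),(0,118),(0,117),(0,116),(0,115),(1,113),(1,111),(0,110),(1,108),(1,106),(1,104),(0,103),(0,102),(0,101),(0,100),(0,99),(0,98),(0,97),(0,96),(1,94),(2,93),(0,102),(0,101),(0,104),(0,103),(0,106),(0,105),(0,113),(0,112),(0,123),(0,122),(0,132),(0,131),(0,134),(0,133),(0,136),(0,135),(0,143),(0,142),(0,153),(0,152),(0,162),(0,161),(0,164),(0,163),(0,166),(0,165),(0,173),(0,172),(1,181),(0,180),(0,179),(1,177),(0,176),(1,174),(0,173),(1,171),(0,170),(0,169),(0,168),(0,167),(0,166),(1,164),(1,162),(1,160),(0,159),(0,158),(0,157),(0,156),(1,154),(0,153),(1,151),(0,150),(0,149),(1,147),(0,146),(1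,144),(0,143),(1,141),(0,140),(0,139),(0,138),(0,137),(0,136),(1,134),(1,132),(1,130),(0,129),(0,128),(0,127),(0,126),(1,124),(0,123),(1,121),(0,120),(0,119),(1,117),(0,116),(1,114),(0,113),(1,111),(0,110),(0,109),(0,108),(0,107),(0,106),(1,104),(1,102),(1,100),(0,99),(0,98),(0,97),(0,96),(1,94),(0,93),(2,92),(0,96),(0,95),(0,94),(0,93),(0,92),(0,97),(0,96),(0,100),(1,98),(0,97),(1,95),(0,94),(0,93),(1,91),(2,90),(2,89),(1,96),(0,95),(0,94),(0,93),(1,91),(0,90),(0,89),(2,88),(0,88),(2,87),(0,87),(2,86),(0,86),(2,85),(0,86),(0,85),(2,84),(0,85),(0,84),(2,83),(1,91),(0,90),(0,89),(0,88),(0,87),(0,86),(1,84),(0,83),(2,82),(2,81),(2,80),(2,79),(0,81),(0,80),(0,82),(0,81),(1,79),(2,78),(2,77),(0,81),(1,79),(0,78),(0,77),(2,76),(0,76),(2,75),(0,75),(2,74),(0,74),(2,73),(0,78),(0,77),(0,76),(0,75),(0,79),(0,82),(1,80),(1,78),(0,77),(0,76),(1,74),(0,73),(2,72),(0,72),(2,71),(1,78),(0,77),(0,76),(1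,74),(0,73),(0,72),(0,71),(2,70),(2,69),(0,70),(0,69),(2,68),(0,69),(0,68),(2,67),(0,67),(2,66),(0,67),(0,66),(2,65),(0,68),(1,66),(0,65),(2,64),(2,63),(2,62),(2,61),(0,66),(0,65),(0,64),(0,63),(0,62),(0,67),(0,66),(0,70),(1,68),(0,67),(1,65),(0,64),(0,63),(1,61),(2,60),(2,59),(1,66),(0,65),(0,64),(0,63),(1,61),(0,60),(0,59),(2,58),(0,58),(2,57),(0,57),(2,56),(0,56),(2,55),(0,56),(0,55),(2,54),(0,55),(0,54),(2,53),(1,61),(0,60),(0,59),(0,58),(0,57),(0,56),(1,54),(0,53),(2,52),(2,51),(2,50),(2,49),(0,51),(0,50),(0,52),(0,51),(1,49),(2,48),(2,47),(0,51),(1,49),(0,48),(0,47),(2,46),(0,46),(2,45),(0,45),(2,44),(0,44),(2,43),(0,48),(0,47),(0,46),(0,45),(0,49),(0,52),(1,50),(1,48),(0,47),(0,46),(1,44),(0,43),(2,42),(0,42),(2,41),(1,48),(0,47),(0,46),(1,44),(0,43),(0,42),(0,41),(2,40),(2,39),(0,40),(0,39),(2,38),(0,39),(0,38),(2,37),(0,37),(2,36),(0,37),(0,36),(2,35),(0,38),(1,36),(0,35),(2,34),(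2,33),(2,32),(2,31),(0,36),(0,35),(0,34),(0,33),(0,32),(0,37),(0,36),(0,40),(1,38),(0,37),(1,35),(0,34),(0,33),(1,31),(2,30),(2,29),(1,36),(0,35),(0,34),(0,33),(1,31),(0,30),(0,29),(2,28),(0,28),(2,27),(0,27),(2,26),(0,26),(2,25),(0,26),(0,25),(2,24),(0,25),(0,24),(2,23),(1,31),(0,30),(0,29),(0,28),(0,27),(0,26),(1,24),(0,23),(2,22),(2,21),(2,20),(2,19),(0,21),(0,20),(0,22),(0,21),(1,19),(2,18),(2,17),(0,21),(1,19),(0,18),(0,17),(2,16),(0,16),(2,15),(0,15),(2,14),(0,14),(2,13),(0,18),(0,17),(0,16),(0,15),(0,19),(0,22),(1,20),(1,18),(0,17),(0,16),(1,14),(0,13),(2,12),(0,12),(2,11),(1,18),(0,17),(0,16),(1,14),(0,13),(0,12),(0,11),(2,10),(2,9),(0,10),(0,9),(2,8),(0,9),(0,8),(2,7),(0,7),(2,6),(0,7),(0,6),(2,5),(0,8),(1,6),(0,5),(2,4),(2,3),(2,2),(2,1),(2,0)]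

/-- A list of moves. -/
def cert_xi : List (ℕ × ℕ) := [(2,157),(2,156),(2,155),(0,157),(0,156),(0,155),(1,158),(0,157),(0,156),(1,154),(2,153),(0,161),(0,160),(0,159),(0,158),(0,157),(1,155),(0,154),(0,153),(2,152),(1,160),(0,159),(0,158),(0,157),(1,155),(0,154),(0,153),(1,151),(2,150),(0,152),(0,151),(0,150),(2,149),(0,151),(0,150),(0,152),(0,158),(0,157),(0,156),(0,155),(1,153),(1,151),(1,149),(2,148),(2,147),(0,157),(0,156),(0,155),(0,154),(1,152),(0,151),(0,150),(1,158),(0,157),(0,156),(1,154),(0,153),(0,157),(0,169),(0,168),(0,167),(0,166),(0,165),(0,164),(0,163),(1,161),(0,160),(1,158),(1,156),(0,155),(0,154),(1,152),(0,151),(1,149),(0,148),(0,147),(2,146),(0,146),(1,144),(0,143),(1,146),(0,145),(0,144),(1,142),(2,141),(0,147),(0,146),(0,145),(1,143),(0,148),(0,147),(1,145),(0,144),(1,142),(0,141),(2,140),(0,148),(1,149),(1,147),(0,146),(0,145),(0,144),(0,143),(0,142),(0,141),(0,14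0),(0,139),(0,138),(0,137),(0,147),(0,149),(0,152),(0,151),(0,150),(1,148),(1,146),(0,145),(0,144),(0,143),(0,152),(0,151),(1,153),(0,152),(1,150),(0,149),(0,148),(1,146),(0,145),(0,158),(0,157),(0,156),(0,155),(0,154),(0,153),(1,159),(0,158),(0,157),(1,164),(0,163),(0,162),(0,161),(1,159),(0,158),(1,156),(0,155),(0,154),(1,152),(0,151),(0,150),(0,149),(0,148),(1,146),(1,144),(1,142),(0,141),(0,140),(0,139),(0,150),(0,162),(0,161),(0,160),(0,159),(0,158),(0,157),(1,155),(0,154),(0,153),(1,151),(1,149),(0,148),(0,147),(0,163),(0,175),(0,174),(0,173),(0,172),(0,171),(0,170),(0,169),(1,167),(0,166),(1,164),(1,162),(0,161),(0,160),(0,159),(1,157),(0,156),(0,155),(1,153),(0,152),(0,151),(1,149),(0,148),(1,146),(0,145),(0,144),(1,142),(0,141),(0,160),(0,159),(0,158),(0,157),(0,156),(0,155),(0,154),(0,153),(0,161),(0,164),(1,162),(1,160),(0,159),(0,158),(0,157),(0,156),(1,164),(0,163),(0,162),(1,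160),(0,159),(0,158),(0,163),(0,166),(1,164),(1,162),(0,161),(0,160),(0,167),(0,166),(0,165),(0,168),(0,178),(0,177),(0,176),(0,175),(0,174),(0,173),(1,171),(1,169),(1,167),(0,166),(1,164),(0,163),(0,162),(0,161),(1,159),(1,157),(1,155),(0,154),(1,152),(0,151),(0,150),(0,149),(0,171),(1,172),(1,170),(0,169),(0,168),(0,167),(0,166),(0,165),(0,164),(1,162),(0,161),(0,160),(0,170),(0,172),(1,177),(0,176),(0,175),(0,174),(0,173),(1,171),(1,169),(0,168),(0,167),(0,166),(1,164),(0,163),(0,181),(0,180),(0,179),(0,178),(1,176),(0,175),(0,174),(1,182),(0,181),(0,180),(1,178),(0,177),(0,181),(0,193),(0,192),(0,191),(0,190),(0,189),(0,188),(0,187),(1,185),(0,184),(1,182),(1,180),(0,179),(0,178),(1,176),(0,175),(1,173),(0,172),(0,171),(1,169),(0,168),(1,166),(0,165),(0,164),(1,162),(0,161),(1,159),(0,158),(0,157),(1,155),(0,154),(1,152),(0,151),(0,150),(1,148),(0,147),(0,146),(0,145),(0,144),(1,142),(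1,140),(1,138),(1,136),(2,135),(2,134),(0,134),(2,133),(0,144),(0,143),(0,142),(0,145),(0,144),(0,146),(1,147),(1,145),(1,143),(1,141),(0,140),(0,139),(0,138),(0,137),(0,136),(0,135),(0,134),(0,133),(0,141),(0,143),(0,149),(0,148),(1,150),(0,149),(1,147),(0,146),(0,145),(0,144),(1,142),(1,140),(0,139),(0,138),(0,146),(0,145),(1,152),(0,151),(0,150),(0,149),(1,147),(0,146),(1,144),(0,143),(0,142),(1,140),(0,139),(1,137),(0,136),(0,135),(0,134),(1,132),(2,131),(0,134),(0,133),(0,132),(0,131),(2,130),(0,139),(0,151),(0,152),(1,150),(0,149),(0,148),(0,147),(0,146),(0,145),(1,143),(0,142),(1,140),(1,138),(0,137),(0,136),(0,135),(1,133),(0,132),(0,131),(1,129),(2,128),(0,134),(0,133),(0,132),(0,131),(0,130),(0,129),(0,128),(2,127),(0,133),(0,136),(1,134),(1,132),(0,131),(0,130),(0,129),(0,128),(1,136),(0,135),(0,134),(1,132),(0,131),(0,130),(0,135),(0,138),(1,136),(1,134),(0,133),(0,132),(0,139)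,(0,138),(0,137),(0,140),(1,141),(1,139),(0,138),(1,136),(0,135),(0,134),(0,133),(1,131),(1,129),(1,127),(2,126),(2,125),(0,125),(0,124),(1,122),(0,121),(0,125),(0,146),(1,147),(1,145),(0,144),(0,143),(0,142),(0,141),(0,140),(0,139),(0,145),(0,144),(0,147),(0,146),(0,149),(0,148),(0,150),(0,149),(1,147),(1,145),(1,143),(0,142),(0,141),(0,151),(0,150),(0,149),(0,148),(1,152),(0,151),(1,154),(0,153),(0,152),(1,150),(0,149),(1,147),(0,146),(0,145),(1,143),(0,142),(1,140),(1,138),(0,137),(0,136),(0,135),(0,134),(0,133),(0,132),(1,130),(0,129),(0,128),(1,126),(1,124),(0,123),(0,122),(1,120),(2,119),(0,126),(0,125),(0,124),(0,123),(1,121),(0,136),(0,138),(0,144),(0,155),(0,154),(0,153),(1,151),(0,156),(0,155),(1,153),(0,152),(1,150),(0,149),(0,148),(0,147),(1,145),(1,143),(0,142),(0,141),(0,140),(0,139),(1,137),(1,135),(0,134),(0,133),(0,132),(1,130),(0,129),(1,127),(0,126),(0,125),(1,123),(0,12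2),(1,120),(0,119),(2,118),(0,127),(0,126),(0,128),(1,129),(1,127),(1,125),(0,124),(0,123),(0,122),(0,121),(0,120),(0,119),(0,118),(0,117),(0,116),(0,115),(1,113),(2,112),(0,123),(0,125),(0,130),(0,131),(1,129),(0,128),(0,127),(0,126),(1,124),(1,122),(0,121),(0,120),(0,119),(0,128),(0,127),(0,132),(0,131),(1,129),(0,128),(1,126),(0,125),(0,124),(1,122),(0,121),(0,132),(0,131),(0,130),(0,129),(0,133),(0,154),(1,155),(1,153),(0,152),(0,151),(0,150),(0,149),(0,148),(0,147),(0,146),(0,145),(0,153),(0,155),(0,158),(0,157),(0,156),(1,154),(1,152),(0,151),(0,150),(0,149),(0,158),(0,157),(1,159),(0,158),(1,156),(0,155),(0,154),(1,152),(0,151),(0,164),(0,163),(0,162),(0,161),(0,160),(0,159),(1,165),(0,164),(0,163),(1,170),(0,169),(0,168),(0,167),(1,165),(0,164),(1,162),(0,161),(0,160),(1,158),(0,157),(0,156),(0,155),(0,154),(1,152),(1,150),(1,148),(0,147),(0,146),(1,144),(0,143),(0,142),(0,141),(0,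140),(1,138),(0,137),(0,136),(1,134),(1,132),(0,131),(0,130),(1,128),(0,127),(0,126),(0,125),(0,124),(1,122),(1,120),(1,118),(0,117),(0,116),(0,115),(1,113),(0,112),(2,111),(0,120),(1,121),(1,119),(0,118),(0,117),(0,116),(0,115),(0,114),(0,113),(0,112),(0,111),(0,119),(0,121),(0,123),(0,122),(1,120),(1,118),(0,117),(0,116),(0,115),(0,124),(0,123),(1,125),(0,124),(1,122),(0,121),(0,120),(1,118),(0,117),(0,136),(0,135),(0,134),(0,137),(0,136),(0,140),(1,138),(0,137),(1,135),(1,133),(0,132),(0,131),(0,130),(0,129),(0,128),(0,127),(0,126),(0,125),(0,133),(0,135),(1,140),(0,139),(0,138),(0,137),(0,136),(1,134),(1,132),(0,131),(0,130),(0,129),(0,150),(1,151),(1,149),(0,148),(0,147),(0,146),(0,145),(0,144),(0,143),(0,142),(0,141),(1,139),(0,138),(0,137),(0,149),(0,151),(0,153),(0,152),(1,150),(1,148),(0,147),(0,146),(0,145),(0,144),(0,143),(1,141),(0,140),(0,144),(0,154),(0,153),(1,155),(0,154),(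1,152),(0,151),(0,150),(1,148),(0,147),(0,146),(0,162),(0,161),(0,160),(0,159),(0,158),(0,157),(0,156),(0,155),(0,163),(1,164),(1,162),(0,161),(0,160),(0,159),(0,173),(0,172),(0,171),(0,170),(0,169),(1,167),(1,174),(0,173),(0,172),(0,171),(1,169),(0,168),(1,166),(0,165),(0,164),(1,162),(0,161),(0,160),(1,158),(0,157),(0,156),(1,154),(0,153),(0,152),(0,151),(0,150),(1,148),(0,147),(1,145),(1,143),(0,142),(0,141),(1,139),(0,138),(1,136),(0,135),(0,134),(1,132),(0,131),(0,130),(1,128),(0,127),(0,126),(1,124),(0,123),(0,122),(0,121),(0,120),(1,118),(1,116),(1,114),(0,113),(0,112),(1,110),(2,109),(0,114),(0,139),(0,138),(0,137),(1,140),(0,139),(0,138),(1,136),(0,135),(0,134),(0,133),(0,132),(1,130),(0,129),(0,128),(0,142),(1,140),(0,139),(0,138),(1,136),(0,135),(0,134),(1,132),(0,131),(0,130),(0,143),(1,166),(0,165),(0,164),(0,163),(0,162),(1,160),(0,159),(0,158),(0,168),(1,166),(0,165),(0,164)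,(1,162),(0,161),(0,160),(0,177),(0,176),(0,175),(0,174),(0,173),(1,171),(0,170),(0,169),(0,168),(1,166),(1,164),(0,163),(0,162),(0,161),(1,159),(1,157),(0,156),(0,155),(0,154),(0,153),(1,151),(1,149),(0,148),(0,147),(0,146),(1,144),(1,142),(0,141),(0,140),(0,139),(0,138),(1,136),(1,134),(0,133),(0,132),(0,131),(1,129),(1,127),(0,126),(0,125),(0,124),(0,123),(1,121),(1,119),(0,118),(0,117),(1,115),(1,113),(0,112),(0,111),(0,110),(0,109),(2,108),(0,119),(0,129),(0,128),(0,127),(0,126),(1,124),(0,123),(0,122),(1,120),(1,118),(0,117),(0,116),(0,134),(0,144),(0,143),(0,142),(0,141),(1,139),(0,138),(0,137),(1,135),(1,133),(0,132),(0,131),(0,149),(0,159),(0,158),(0,157),(0,156),(1,154),(0,153),(0,152),(1,150),(1,148),(0,147),(0,146),(0,164),(0,168),(0,167),(1,165),(1,163),(0,162),(0,161),(1,176),(0,175),(0,174),(0,173),(1,171),(0,170),(0,169),(1,167),(0,166),(0,165),(1,163),(0,162),(1,160),(0,15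9),(0,158),(1,156),(0,155),(0,154),(1,152),(0,151),(0,150),(1,148),(0,147),(1,145),(0,144),(0,143),(1,141),(0,140),(0,139),(1,137),(0,136),(0,135),(1,133),(0,132),(1,130),(0,129),(0,128),(1,126),(0,125),(0,124),(1,122),(0,121),(0,120),(1,118),(0,117),(1,115),(0,114),(0,113),(1,111),(0,110),(0,109),(1,107),(2,106),(0,115),(0,114),(0,113),(0,116),(1,117),(1,115),(0,114),(1,112),(0,111),(0,110),(0,109),(0,108),(0,107),(0,106),(2,105),(1,117),(0,116),(0,115),(1,113),(0,112),(1,110),(0,109),(0,108),(0,107),(0,106),(0,116),(0,119),(1,117),(1,115),(0,114),(0,113),(0,112),(1,110),(0,109),(0,108),(0,114),(0,113),(0,115),(0,117),(0,120),(0,119),(0,118),(1,116),(1,114),(1,112),(0,111),(0,110),(1,121),(0,120),(0,119),(0,118),(0,117),(0,116),(0,115),(0,123),(1,121),(0,120),(0,119),(0,118),(0,124),(0,123),(1,121),(0,125),(0,124),(0,126),(0,143),(0,142),(0,141),(0,144),(1,145),(1,143),(0,142),(1,140),(0,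139),(0,138),(0,137),(0,136),(0,135),(0,134),(0,133),(1,147),(0,146),(0,145),(1,143),(0,142),(1,140),(0,139),(0,138),(0,137),(0,136),(0,146),(0,149),(1,147),(1,145),(0,144),(0,143),(0,142),(1,140),(0,139),(0,138),(0,144),(0,143),(0,145),(0,147),(0,150),(0,149),(0,148),(1,146),(1,144),(1,142),(0,141),(0,140),(1,151),(0,150),(0,149),(0,148),(0,147),(0,146),(0,145),(0,153),(1,151),(0,150),(0,149),(0,148),(0,154),(0,153),(1,151),(0,155),(0,154),(0,156),(0,166),(0,165),(0,164),(0,163),(0,167),(0,166),(0,168),(0,174),(0,173),(0,172),(0,171),(1,169),(1,167),(1,165),(0,164),(1,162),(0,161),(0,160),(0,159),(1,157),(1,155),(1,153),(0,152),(1,150),(0,149),(1,147),(0,146),(1,144),(0,143),(0,142),(0,141),(1,139),(1,137),(1,135),(0,134),(1,132),(0,131),(0,130),(0,129),(1,127),(1,125),(1,123),(0,122),(1,120),(0,119),(1,117),(0,116),(1,114),(0,113),(0,112),(0,111),(1,109),(1,107),(1,105),(2,104),(2,103),(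0,103),(0,102),(1,100),(0,99),(0,103),(0,125),(0,124),(0,123),(0,122),(0,121),(0,120),(0,126),(0,125),(1,127),(0,126),(1,124),(0,123),(0,122),(0,129),(1,127),(0,126),(1,124),(1,130),(0,129),(0,128),(0,127),(0,132),(1,130),(0,129),(0,133),(0,155),(0,154),(0,153),(0,152),(0,151),(0,150),(0,156),(0,155),(1,157),(0,156),(1,154),(0,153),(0,152),(0,159),(1,157),(0,156),(1,154),(1,160),(0,159),(0,158),(0,157),(0,162),(1,160),(0,159),(0,163),(0,173),(0,172),(0,171),(0,170),(1,168),(0,167),(0,166),(1,164),(1,162),(0,161),(0,160),(1,158),(1,156),(0,155),(1,153),(1,151),(1,149),(0,148),(0,147),(0,146),(0,145),(0,144),(0,143),(0,142),(0,141),(0,140),(1,138),(0,137),(0,136),(1,134),(1,132),(0,131),(0,130),(1,128),(1,126),(0,125),(1,123),(1,121),(1,119),(0,118),(0,117),(0,116),(0,115),(0,114),(0,113),(0,112),(0,111),(0,110),(1,108),(0,107),(0,106),(1,104),(1,102),(0,101),(0,100),(1,98),(2,97),(0,104),(0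,103),(0,102),(0,101),(1,99),(0,119),(1,117),(0,116),(0,115),(0,114),(0,121),(0,120),(0,119),(1,117),(0,116),(1,123),(0,122),(0,121),(0,120),(0,126),(0,125),(1,123),(0,122),(0,134),(0,133),(0,149),(1,147),(0,146),(0,145),(0,144),(0,151),(0,150),(0,149),(1,147),(0,146),(1,153),(0,152),(0,151),(0,150),(0,156),(0,155),(1,153),(0,152),(0,164),(0,163),(1,172),(0,171),(0,170),(1,168),(0,167),(1,165),(0,164),(1,162),(0,161),(0,160),(0,159),(0,158),(0,157),(0,156),(0,155),(1,153),(1,151),(1,149),(0,148),(0,147),(1,145),(1,143),(0,142),(0,141),(0,140),(1,138),(0,137),(1,135),(0,134),(1,132),(0,131),(0,130),(0,129),(0,128),(0,127),(0,126),(0,125),(1,123),(1,121),(1,119),(0,118),(0,117),(1,115),(1,113),(0,112),(0,111),(0,110),(1,108),(0,107),(1,105),(0,104),(0,103),(1,101),(0,100),(1,98),(0,97),(2,96),(2,90),(2,89),(2,88),(1,88),(2,87),(2,86),(0,86),(2,85),(1,86),(0,85),(2,84),(0,84),(2,83),(0,84),(0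,83),(2,82),(0,87),(0,86),(0,88),(1,89),(1,87),(1,85),(0,84),(0,83),(0,82),(2,81),(0,83),(0,82),(0,81),(2,80),(0,83),(0,88),(0,89),(1,87),(0,86),(0,85),(0,84),(1,82),(0,81),(0,80),(2,79),(2,78),(0,78),(2,77),(0,77),(2,76),(2,75),(0,76),(0,75),(2,74),(0,78),(0,77),(1,75),(0,74),(2,73),(2,72),(2,71),(2,70),(0,73),(0,72),(0,71),(1,74),(0,73),(0,72),(1,70),(2,69),(2,68),(0,72),(1,70),(0,69),(0,68),(2,67),(0,67),(2,66),(0,66),(2,65),(0,65),(2,64),(0,67),(1,68),(1,66),(0,65),(0,64),(2,63),(0,64),(0,63),(2,62),(0,64),(0,67),(0,66),(0,65),(1,63),(0,62),(2,61),(2,60),(2,59),(2,58),(0,61),(1,62),(1,60),(0,59),(0,58),(2,57),(0,58),(0,57),(2,56),(0,58),(0,60),(0,59),(1,57),(0,56),(2,55),(2,54),(2,53),(2,52),(0,57),(0,56),(0,58),(1,59),(1,57),(1,55),(0,54),(0,53),(0,52),(2,51),(0,53),(0,52),(0,51),(2,50),(0,53),(0,52),(0,58),(0,59),(1,57),(0,56),(0,55),(0,54),(0,53),(1,51),(0,50),(2,49),(2,48),(2,47),(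2,46),(2,45),(0,46),(0,45),(2,44),(0,48),(0,47),(1,45),(0,44),(2,43),(2,42),(2,41),(2,40),(0,43),(0,42),(0,41),(1,44),(0,43),(0,42),(1,40),(2,39),(2,38),(0,42),(1,40),(0,39),(0,38),(2,37),(0,37),(2,36),(0,36),(2,35),(0,35),(2,34),(0,37),(1,38),(1,36),(0,35),(0,34),(2,33),(0,34),(0,33),(2,32),(0,34),(0,37),(0,36),(0,35),(1,33),(0,32),(2,31),(2,30),(2,29),(2,28),(0,31),(1,32),(1,30),(0,29),(0,28),(2,27),(0,28),(0,27),(2,26),(0,28),(0,30),(0,29),(1,27),(0,26),(2,25),(2,24),(2,23),(2,22),(0,27),(0,26),(0,28),(0,31),(1,29),(1,27),(1,25),(0,24),(0,23),(0,22),(2,21),(0,23),(0,22),(0,21),(2,20),(0,23),(0,22),(1,27),(0,26),(0,25),(0,24),(0,23),(1,21),(0,20),(2,19),(2,18),(2,17),(2,16),(2,15),(0,16),(0,15),(2,14),(0,17),(1,15),(0,14),(2,13),(2,12),(2,11),(2,10),(1,10),(2,9),(2,8),(0,8),(2,7),(0,7),(2,6),(0,6),(2,5),(0,5),(2,4),(0,4),(2,3),(0,3),(2,2),(0,2),(2,1),(2,0)]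

/-- A list of moves. -/
def cert_tc : List (ℕ × ℕ) := [(2,31),(2,30),(2,29),(2,28),(2,27),(2,26),(0,26),(2,25),(1,27),(0,26),(0,25),(2,24),(0,27),(1,25),(0,24),(2,23),(0,27),(0,26),(0,25),(1,23),(2,22),(2,21),(1,30),(0,29),(0,28),(0,27),(0,26),(0,25),(0,24),(0,23),(0,22),(0,21),(2,20),(2,19),(0,20),(0,19),(2,18),(0,21),(0,20),(0,19),(0,18),(2,17),(2,16),(0,16),(2,15),(0,20),(1,18),(0,17),(0,16),(0,15),(2,14),(0,15),(0,14),(2,13),(0,19),(0,18),(0,17),(0,16),(1,14),(0,13),(2,12),(0,20),(0,19),(0,18),(0,17),(0,16),(0,15),(0,14),(1,12),(2,11),(2,10),(2,9),(2,8),(2,7),(2,6),(2,5),(0,5),(2,4),(2,3),(2,2),(2,1),(2,0)]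

/-- A list of moves. -/
def cert_td : List (ℕ × ℕ) := [(2,31),(2,30),(2,29),(2,28),(2,27),(2,26),(2,25),(2,24),(1,25),(0,24),(2,23),(0,25),(1,23),(2,22),(2,21),(0,23),(0,22),(0,21),(2,20),(1,28),(0,27),(0,26),(0,25),(0,24),(0,23),(0,22),(0,21),(0,20),(2,19),(0,20),(0,19),(2,18),(0,21),(0,20),(0,19),(0,18),(2,17),(2,16),(0,16),(2,15),(0,20),(1,18),(0,17),(0,16),(0,15),(2,14),(0,15),(0,14),(2,13),(0,19),(0,18),(0,17),(0,16),(1,14),(0,13),(2,12),(0,21),(0,20),(0,19),(0,18),(0,17),(0,16),(0,15),(0,14),(1,12),(2,11),(2,10),(2,9),(2,8),(2,7),(2,6),(2,5),(0,5),(2,4),(0,4),(2,3),(2,2),(2,1),(2,0)]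

/-- A list of moves. -/
def cert_te : List (ℕ × ℕ) := [(2,31),(2,30),(2,29),(2,28),(2,27),(2,26),(2,25),(1,27),(0,26),(0,25),(2,24),(0,27),(1,25),(0,24),(2,23),(0,26),(0,25),(1,23),(2,22),(2,21),(2,20),(0,21),(0,20),(2,19),(1,26),(0,25),(0,24),(0,23),(0,22),(0,21),(0,20),(0,19),(2,18),(0,21),(0,20),(0,19),(0,18),(2,17),(2,16),(0,16),(2,15),(0,20),(1,18),(0,17),(0,16),(0,15),(2,14),(0,15),(0,14),(2,13),(0,19),(0,18),(0,17),(0,16),(1,14),(0,13),(2,12),(0,20),(0,19),(0,18),(0,17),(0,16),(0,15),(0,14),(1,12),(2,11),(2,10),(2,9),(2,8),(2,7),(2,6),(2,5),(0,5),(2,4),(0,4),(2,3),(2,2),(2,1),(2,0)]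

/-- A list of moves. -/
def cert_tf : List (ℕ × ℕ) := [(2,31),(2,30),(2,29),(0,29),(2,28),(0,28),(2,27),(0,27),(2,26),(1,29),(0,28),(0,27),(0,26),(2,25),(0,29),(1,27),(0,26),(0,25),(2,24),(0,28),(0,27),(1,25),(0,24),(2,23),(0,30),(0,29),(0,28),(0,27),(0,26),(0,25),(1,23),(2,22),(2,21),(2,20),(2,19),(0,20),(0,19),(2,18),(1,24),(0,23),(0,22),(0,21),(0,20),(0,19),(0,18),(2,17),(2,16),(0,16),(2,15),(0,20),(1,18),(0,17),(0,16),(0,15),(2,14),(0,15),(0,14),(2,13),(0,18),(0,17),(0,16),(1,14),(0,13),(2,12),(0,19),(0,18),(0,17),(0,16),(0,15),(0,14),(1,12),(2,11),(2,10),(2,9),(2,8),(2,7),(2,6),(2,5),(2,4),(2,3),(2,2),(2,1),(2,0)]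

/-- A list of moves. -/
def cert_th : List (ℕ × ℕ) := [(2,31),(2,30),(2,29),(2,28),(2,27),(2,26),(2,25),(2,24),(2,23),(1,23),(2,22),(2,21),(0,21),(2,20),(0,21),(0,20),(2,19),(1,26),(0,25),(0,24),(0,23),(0,22),(0,21),(0,20),(0,19),(2,18),(0,18),(2,17),(0,17),(2,16),(0,22),(1,20),(0,19),(0,18),(0,17),(0,16),(2,15),(0,16),(0,15),(2,14),(0,15),(0,14),(2,13),(0,19),(0,18),(0,17),(0,16),(1,14),(0,13),(2,12),(0,22),(0,21),(0,20),(0,19),(0,18),(0,17),(0,16),(0,15),(0,14),(1,12),(2,11),(2,10),(2,9),(2,8),(2,7),(2,6),(2,5),(0,5),(2,4),(0,4),(2,3),(2,2),(2,1),(2,0)]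

/-- A list of moves. -/
def cert_ti : List (ℕ × ℕ) := [(2,31),(2,30),(2,29),(2,28),(2,27),(2,26),(2,25),(2,24),(2,23),(2,22),(2,21),(2,20),(2,19),(0,19),(2,18),(1,24),(0,23),(0,22),(0,21),(0,20),(0,19),(0,18),(2,17),(2,16),(2,15),(0,20),(1,18),(0,17),(0,16),(0,15),(2,14),(0,14),(2,13),(0,13),(2,12),(0,17),(0,16),(0,15),(0,14),(1,12),(2,11),(2,10),(2,9),(2,8),(2,7),(2,6),(0,6),(2,5),(0,5),(2,4),(2,3),(2,2),(2,1),(2,0)]

/-- A list of moves. -/
def cert_tcd : List (ℕ × ℕ) := [(2,30),(2,29),(2,28),(2,27),(2,26),(2,25),(0,25),(2,24),(1,26),(0,25),(0,24),(2,23),(0,26),(1,24),(0,23),(2,22),(2,21),(2,20),(0,22),(0,21),(0,20),(2,19),(1,27),(0,26),(0,25),(0,24),(0,23),(0,22),(0,21),(0,20),(0,19),(2,18),(0,19),(0,18),(2,17),(0,20),(0,19),(0,18),(0,17),(2,16),(2,15),(0,15),(2,14),(0,19),(1,17),(0,16),(0,15),(0,14),(2,13),(0,14),(0,13),(2,12),(0,18),(0,17),(0,16),(0,15),(1,13),(0,12),(2,11),(0,19),(0,18),(0,17),(0,16),(0,15),(0,14),(0,13),(1,11),(2,10),(2,9),(2,8),(2,7),(2,6),(2,5),(2,4),(0,4),(2,3),(2,2),(2,1),(2,0)]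

/-- A list of moves. -/
def cert_pef : List (ℕ × ℕ) := [(0,65),(0,64),(2,63),(1,64),(0,63),(0,62),(0,68),(0,67),(0,66),(1,64),(0,67),(0,69),(0,71),(0,70),(1,68),(1,66),(0,65),(1,63),(1,61),(2,60),(0,59),(0,61),(0,68),(0,67),(1,69),(0,68),(1,66),(0,65),(0,64),(0,63),(0,62),(1,60),(1,58),(2,57),(1,62),(0,61),(0,60),(0,59),(0,66),(0,65),(0,64),(1,62),(0,65),(0,67),(0,69),(0,68),(1,66),(1,64),(0,63),(1,61),(0,60),(1,58),(0,57),(2,56),(0,68),(0,67),(0,66),(0,69),(0,68),(1,70),(0,69),(1,67),(1,65),(0,64),(0,63),(0,62),(0,61),(0,60),(0,59),(0,65),(0,67),(0,72),(1,70),(0,69),(0,68),(1,66),(1,64),(0,63),(1,73),(0,72),(0,71),(0,70),(0,69),(0,75),(1,73),(0,72),(0,76),(1,77),(1,75),(0,74),(0,73),(1,71),(0,70),(1,68),(0,67),(0,66),(1,64),(1,62),(0,61),(0,60),(1,58),(0,57),(0,56),(2,55),(0,54),(1,55),(1,53),(0,52),(2,51),(0,60),(1,61),(1,59),(0,58),(0,57),(0,56),(1,63),(0,62),(0,61),(1,59),(0,58),(0,5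7),(1,55),(0,54),(0,53),(1,51),(2,50),(0,52),(0,67),(0,66),(0,65),(0,64),(1,68),(0,67),(0,66),(0,65),(1,63),(0,62),(0,61),(0,60),(0,59),(1,57),(0,56),(0,55),(1,53),(1,51),(0,50),(2,49),(0,55),(0,54),(0,53),(0,56),(0,55),(0,57),(0,58),(1,56),(1,54),(1,52),(0,51),(0,50),(0,49),(0,48),(2,47),(0,50),(0,52),(0,62),(0,61),(0,60),(0,59),(1,57),(0,63),(0,62),(0,61),(1,59),(0,58),(1,56),(0,55),(0,54),(0,53),(1,51),(1,49),(0,48),(0,47),(2,46),(0,53),(0,52),(0,65),(0,64),(1,62),(0,61),(1,59),(0,58),(0,57),(0,56),(1,54),(0,53),(1,51),(0,50),(0,49),(1,47),(0,46),(2,45),(1,44),(2,43),(2,42),(0,42),(2,41),(0,41),(2,40),(0,43),(0,42),(0,41),(0,40),(2,39),(0,39),(2,38),(0,38),(2,37),(0,38),(0,37),(2,36),(1,39),(0,38),(0,37),(0,36),(0,35),(0,34),(1,32),(2,31),(0,39),(1,37),(0,36),(0,35),(0,34),(1,32),(0,31),(2,30),(0,40),(0,39),(0,38),(0,37),(1,35),(0,34),(1,32),(0,31),(0,30),(0,29),(0,28),(2,27),(2,21),(2,20),(0,20),(2,19),(0,20),(0,19),(2,18),(1,24),(0,23),(0,22),(0,21),(0,20),(0,19),(0,18),(2,17),(2,16),(2,15),(2,14),(0,18),(1,16),(0,15),(0,14),(2,13),(0,17),(0,16),(1,14),(0,13),(2,12),(0,16),(0,15),(0,14),(1,12),(2,11),(2,10),(2,9),(2,8),(0,9),(0,8),(2,7),(0,8),(0,7),(2,6),(2,5),(0,5),(2,4),(0,4),(2,3),(2,2),(2,1),(2,0)]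

/-- A list of moves. -/
def cert_peh : List (ℕ × ℕ) := [(1,65),(2,64),(0,63),(0,65),(0,64),(1,62),(2,61),(0,60),(0,64),(0,63),(0,62),(0,61),(1,59),(2,58),(0,57),(0,56),(0,55),(0,54),(0,53),(0,52),(0,63),(0,66),(0,65),(0,64),(1,62),(1,60),(1,58),(0,57),(0,56),(0,55),(0,64),(0,63),(0,67),(1,65),(0,64),(1,62),(0,61),(0,60),(1,58),(0,57),(1,70),(0,69),(0,68),(0,67),(0,66),(0,65),(0,72),(1,70),(0,69),(0,73),(0,72),(1,70),(1,68),(0,67),(0,66),(1,64),(0,63),(0,62),(0,61),(0,60),(1,58),(1,56),(1,54),(0,53),(1,51),(0,50),(0,49),(0,48),(2,47),(0,60),(0,68),(1,69),(1,67),(0,66),(0,65),(0,64),(0,63),(1,61),(1,59),(0,58),(0,57),(0,73),(0,72),(0,74),(0,73),(1,71),(0,70),(0,69),(1,67),(0,66),(0,65),(1,63),(0,62),(0,61),(1,59),(0,58),(1,56),(0,55),(0,54),(1,52),(0,51),(1,49),(0,48),(0,47),(2,46),(0,53),(0,60),(0,74),(0,73),(0,72),(0,75),(0,74),(0,73),(1,71),(0,70),(0,69),(0,68),(0,67),(1,65),(0,64),(0,6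3),(1,61),(1,59),(0,58),(0,57),(0,56),(1,54),(1,52),(0,51),(0,50),(0,49),(1,47),(0,46),(2,45),(0,45),(0,44),(2,43),(0,44),(1,42),(0,41),(0,40),(2,39),(0,43),(0,42),(1,40),(0,39),(2,38),(0,42),(0,41),(0,40),(1,38),(2,37),(1,40),(0,39),(0,38),(0,37),(2,36),(0,40),(1,38),(0,37),(0,36),(2,35),(0,40),(0,39),(0,38),(1,36),(0,35),(2,34),(0,38),(0,37),(0,39),(0,49),(0,48),(0,47),(0,50),(0,49),(0,51),(0,53),(0,57),(0,56),(0,55),(0,54),(1,52),(1,50),(1,48),(1,46),(0,45),(0,44),(0,43),(0,42),(1,40),(1,38),(1,36),(0,35),(0,34),(2,33),(0,40),(0,39),(0,38),(0,37),(0,41),(0,40),(0,44),(1,42),(0,41),(1,39),(0,38),(1,36),(0,35),(0,34),(0,33),(2,32),(0,43),(0,42),(1,40),(0,39),(1,37),(0,36),(1,34),(0,33),(0,32),(2,31),(1,41),(0,40),(0,39),(0,38),(0,43),(1,41),(0,40),(0,44),(0,48),(0,47),(1,45),(1,43),(0,42),(0,41),(1,39),(1,37),(0,36),(0,35),(0,34),(1,32),(0,31),(2,30),(1,29),(2,28),(0,32),(0,31),(0,33),(0,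35),(0,43),(0,42),(1,44),(0,43),(1,41),(0,40),(0,39),(0,38),(0,37),(0,36),(1,34),(1,32),(1,30),(0,29),(0,28),(2,27),(0,28),(1,26),(2,25),(0,34),(0,33),(0,32),(0,31),(0,30),(0,29),(1,35),(0,34),(0,33),(0,32),(0,39),(0,38),(0,37),(1,35),(0,38),(0,40),(0,42),(0,41),(1,39),(1,37),(0,36),(1,34),(0,33),(1,31),(0,30),(1,28),(0,27),(0,26),(0,25),(2,24),(0,26),(0,25),(1,23),(2,22),(2,21),(2,20),(2,19),(2,18),(2,17),(2,16),(2,15),(1,18),(0,17),(0,16),(0,15),(2,14),(2,13),(0,16),(1,14),(0,13),(2,12),(0,17),(0,16),(0,15),(0,14),(1,12),(2,11),(2,10),(2,9),(2,8),(2,7),(0,10),(0,9),(0,8),(0,7),(2,6),(2,5),(2,4),(0,5),(0,4),(2,3),(0,3),(2,2),(2,1),(2,0)]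

/-- A list of moves. -/
def cert_pei : List (ℕ × ℕ) := [(0,65),(1,66),(1,64),(0,63),(0,62),(0,61),(0,60),(0,59),(0,58),(0,57),(1,55),(2,54),(0,62),(0,61),(0,64),(0,63),(0,66),(0,65),(0,64),(1,62),(1,60),(0,59),(0,58),(0,57),(1,55),(0,54),(2,53),(0,57),(0,56),(0,58),(0,60),(0,65),(0,64),(0,63),(0,62),(0,61),(1,59),(1,57),(1,55),(0,54),(0,53),(2,52),(0,55),(0,64),(0,63),(0,67),(0,66),(0,65),(0,64),(1,62),(1,70),(0,69),(0,68),(1,66),(0,65),(0,69),(0,72),(1,70),(1,68),(0,67),(0,66),(1,64),(0,63),(1,61),(0,60),(0,59),(0,58),(1,56),(1,54),(0,53),(0,52),(2,51),(0,58),(0,57),(0,68),(0,72),(0,71),(1,69),(1,67),(0,66),(0,65),(0,73),(1,71),(0,70),(0,69),(1,67),(0,66),(1,64),(0,63),(0,62),(0,61),(1,59),(0,58),(1,56),(0,55),(0,54),(1,52),(0,51),(2,50),(0,64),(0,63),(0,62),(0,61),(0,60),(0,59),(0,58),(0,57),(0,65),(1,66),(1,64),(0,63),(0,62),(0,61),(1,68),(0,67),(0,66),(1,64),(0,63),(0,73),(0,72),(0,7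1),(0,74),(0,73),(0,72),(1,70),(0,69),(0,68),(0,67),(0,66),(1,64),(1,62),(1,60),(0,59),(0,58),(1,56),(0,55),(0,54),(0,53),(0,52),(1,50),(2,49),(0,48),(0,47),(0,46),(0,45),(0,44),(2,43),(0,47),(0,46),(0,45),(0,48),(0,47),(0,49),(0,54),(0,53),(0,52),(0,51),(0,50),(1,48),(1,46),(1,44),(0,43),(2,42),(1,41),(0,40),(0,39),(2,38),(0,42),(0,41),(1,39),(0,38),(2,37),(0,42),(0,41),(0,40),(0,39),(1,37),(2,36),(0,42),(0,41),(0,40),(0,43),(0,47),(0,46),(1,44),(1,42),(0,41),(1,39),(0,38),(0,37),(0,36),(2,35),(0,46),(1,44),(0,43),(0,42),(1,40),(0,39),(1,37),(0,36),(0,35),(2,34),(0,41),(0,46),(0,45),(0,44),(1,42),(1,40),(0,39),(0,38),(0,37),(1,35),(0,34),(2,33),(0,37),(0,36),(0,38),(0,40),(0,46),(0,45),(0,44),(0,43),(0,42),(0,41),(1,39),(1,37),(1,35),(0,34),(0,33),(2,32),(0,39),(0,38),(1,45),(0,44),(0,43),(0,42),(1,40),(0,39),(1,37),(0,36),(0,35),(1,33),(0,32),(2,31),(1,30),(2,29),(0,32),(0,43),(1,41),(0,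40),(1,38),(0,37),(0,36),(0,35),(1,33),(1,31),(0,30),(0,29),(2,28),(0,29),(1,27),(2,26),(0,32),(0,31),(0,30),(0,33),(0,40),(1,41),(1,39),(0,38),(0,37),(0,36),(1,34),(1,32),(0,31),(1,29),(0,28),(0,27),(0,26),(2,25),(0,27),(0,26),(1,24),(2,23),(0,27),(0,26),(0,25),(0,28),(0,27),(0,30),(0,29),(0,41),(0,40),(0,39),(0,38),(0,42),(0,41),(1,43),(0,42),(1,40),(0,39),(1,37),(0,36),(0,35),(0,34),(0,33),(0,32),(0,31),(0,30),(1,28),(1,26),(1,24),(0,23),(2,22),(2,21),(2,20),(0,20),(2,19),(0,20),(0,19),(2,18),(0,20),(0,19),(0,18),(2,17),(2,16),(2,15),(2,14),(2,13),(2,12),(2,11),(2,10),(2,9),(2,8),(2,7),(2,6),(2,5),(2,4),(2,3),(2,2),(2,1),(2,0)]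

/-- A list of moves. -/
def cert_pfh : List (ℕ × ℕ) := [(0,65),(0,69),(0,68),(1,66),(1,64),(2,63),(0,68),(1,66),(0,65),(0,64),(1,62),(2,61),(0,60),(1,66),(0,65),(0,64),(0,63),(0,62),(0,61),(1,59),(2,58),(0,57),(0,56),(0,55),(0,54),(0,53),(0,52),(0,62),(1,60),(1,58),(0,57),(0,56),(0,55),(1,62),(0,61),(0,60),(1,58),(0,57),(1,70),(0,69),(0,68),(0,67),(0,66),(0,65),(0,72),(1,70),(0,69),(0,68),(0,67),(0,66),(1,64),(0,63),(0,62),(0,61),(0,60),(1,58),(1,56),(1,54),(0,53),(1,51),(0,50),(0,49),(2,48),(0,60),(0,64),(0,63),(1,61),(1,59),(0,58),(0,57),(0,73),(0,72),(0,71),(0,70),(1,68),(0,67),(0,66),(0,65),(1,63),(0,62),(0,61),(1,59),(0,58),(1,56),(0,55),(0,54),(1,52),(0,51),(1,49),(0,48),(2,47),(0,53),(0,60),(0,74),(0,73),(0,72),(0,71),(0,70),(0,69),(0,68),(1,66),(0,65),(0,64),(0,63),(1,61),(1,59),(0,58),(0,57),(0,56),(1,54),(1,52),(0,51),(0,50),(0,49),(1,47),(2,46),(0,45),(0,44),(2,43),(0,47),(0,4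6),(1,44),(0,43),(2,42),(0,46),(1,44),(0,43),(0,42),(2,41),(0,46),(1,44),(0,43),(0,42),(0,41),(2,40),(1,39),(0,38),(0,37),(2,36),(0,39),(1,37),(0,36),(2,35),(0,38),(0,37),(1,35),(2,34),(0,38),(0,37),(0,36),(0,39),(0,38),(0,40),(0,50),(0,49),(0,48),(0,47),(0,51),(0,50),(0,49),(0,52),(0,51),(0,53),(0,54),(1,52),(1,50),(1,48),(1,46),(0,45),(0,44),(0,43),(0,42),(0,41),(1,39),(1,37),(1,35),(0,34),(2,33),(0,40),(0,39),(0,38),(0,37),(0,36),(0,41),(0,40),(0,39),(0,42),(0,44),(0,43),(1,41),(0,40),(1,38),(0,37),(1,35),(0,34),(0,33),(2,32),(0,43),(0,42),(0,41),(1,39),(0,38),(1,36),(0,35),(1,33),(0,32),(2,31),(1,30),(2,29),(0,38),(0,37),(0,36),(0,35),(0,34),(0,33),(0,32),(0,31),(1,39),(0,38),(0,37),(0,36),(0,41),(1,39),(0,38),(0,42),(1,47),(0,46),(0,45),(1,43),(1,41),(0,40),(0,39),(1,37),(1,35),(0,34),(0,33),(0,32),(1,30),(0,29),(2,28),(0,32),(0,31),(0,30),(0,29),(1,27),(2,26),(0,31),(0,33),(0,41),(0,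40),(1,45),(0,44),(1,42),(0,41),(1,39),(0,38),(0,37),(0,36),(0,35),(0,34),(1,32),(1,30),(0,29),(1,27),(0,26),(2,25),(0,34),(0,33),(0,32),(0,31),(0,30),(0,29),(0,28),(0,27),(0,26),(1,24),(2,23),(1,33),(0,32),(0,31),(0,30),(0,37),(0,36),(0,35),(1,33),(0,36),(0,38),(1,43),(0,42),(0,41),(0,40),(0,39),(1,37),(1,35),(0,34),(1,32),(0,31),(1,29),(0,28),(0,27),(0,26),(1,24),(0,23),(2,22),(2,21),(2,20),(2,19),(2,18),(2,17),(2,16),(2,15),(1,18),(0,17),(0,16),(0,15),(2,14),(2,13),(0,16),(1,14),(0,13),(2,12),(0,17),(0,16),(0,15),(0,14),(1,12),(2,11),(2,10),(2,9),(2,8),(2,7),(0,9),(0,8),(0,7),(2,6),(2,5),(2,4),(0,4),(2,3),(2,2),(2,1),(2,0)]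

/-- A list of moves. -/
def cert_pfi : List (ℕ × ℕ) := [(0,65),(0,64),(0,66),(0,70),(0,69),(1,67),(1,65),(1,63),(0,62),(0,61),(0,60),(0,59),(0,58),(0,57),(1,55),(2,54),(0,61),(0,63),(0,69),(1,67),(0,66),(0,65),(0,64),(1,62),(1,60),(0,59),(0,58),(0,57),(1,55),(0,54),(2,53),(0,57),(0,56),(0,58),(0,60),(1,67),(0,66),(0,65),(0,64),(0,63),(0,62),(0,61),(1,59),(1,57),(1,55),(0,54),(0,53),(2,52),(0,55),(0,63),(0,62),(1,70),(0,69),(0,68),(0,67),(0,66),(1,64),(0,63),(1,61),(0,60),(0,59),(0,58),(1,56),(1,54),(0,53),(0,52),(2,51),(0,58),(0,57),(0,72),(0,71),(0,70),(1,68),(0,67),(0,66),(1,64),(0,63),(0,62),(0,61),(1,59),(0,58),(1,56),(0,55),(0,54),(1,52),(0,51),(2,50),(0,60),(0,59),(0,58),(0,57),(0,61),(0,73),(0,72),(0,71),(0,70),(0,69),(0,68),(1,66),(0,65),(0,64),(1,62),(1,60),(0,59),(0,58),(1,56),(0,55),(0,54),(0,53),(0,52),(1,50),(2,49),(0,48),(0,47),(0,46),(0,45),(0,44),(2,43),(0,47),(0,46),(0,4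8),(0,54),(0,53),(0,52),(0,51),(1,49),(1,47),(1,45),(0,44),(0,43),(2,42),(0,49),(0,48),(0,53),(0,52),(1,50),(0,49),(1,47),(0,46),(0,45),(1,43),(0,42),(2,41),(0,44),(0,52),(1,50),(0,49),(0,48),(0,47),(1,45),(1,43),(0,42),(0,41),(2,40),(0,46),(0,45),(0,44),(0,47),(0,52),(0,51),(0,50),(1,48),(1,46),(0,45),(1,43),(0,42),(0,41),(0,40),(2,39),(1,38),(0,37),(0,36),(2,35),(0,38),(1,36),(0,35),(2,34),(0,37),(0,36),(1,34),(2,33),(0,37),(0,36),(0,35),(0,38),(0,37),(0,40),(0,39),(0,48),(0,47),(0,46),(0,45),(0,44),(0,43),(0,42),(0,41),(0,40),(1,38),(1,36),(1,34),(0,33),(2,32),(1,31),(2,30),(0,36),(0,35),(0,34),(0,33),(0,32),(0,37),(0,36),(0,45),(0,44),(0,46),(0,48),(0,49),(1,47),(1,45),(1,43),(0,42),(0,41),(0,40),(1,38),(0,37),(1,35),(0,34),(0,33),(1,31),(0,30),(2,29),(0,32),(0,31),(0,30),(1,28),(2,27),(0,45),(0,44),(1,46),(0,45),(1,43),(0,42),(0,41),(1,39),(0,38),(1,36),(0,35),(0,34),(0,33),(1,31),(0,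30),(1,28),(0,27),(2,26),(0,32),(0,31),(0,30),(0,29),(0,28),(0,27),(1,25),(2,24),(0,31),(0,38),(1,44),(0,43),(0,42),(0,41),(1,39),(1,37),(0,36),(0,35),(0,34),(1,32),(1,30),(0,29),(0,28),(0,27),(1,25),(0,24),(2,23),(0,27),(0,26),(0,28),(0,30),(0,40),(0,39),(0,38),(0,41),(0,44),(1,42),(1,40),(0,39),(1,37),(0,36),(0,35),(0,34),(0,33),(0,32),(0,31),(1,29),(1,27),(1,25),(0,24),(0,23),(2,22),(2,21),(2,20),(2,19),(0,19),(2,18),(0,19),(0,18),(2,17),(2,16),(2,15),(2,14),(2,13),(2,12),(2,11),(2,10),(2,9),(2,8),(2,7),(2,6),(2,5),(2,4),(2,3),(2,2),(2,1),(2,0)]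

/-- A list of moves. -/
def cert_phi : List (ℕ × ℕ) := [(0,65),(0,64),(0,63),(0,62),(0,61),(0,60),(0,59),(0,58),(0,57),(1,66),(0,65),(0,64),(0,63),(0,70),(0,69),(0,68),(1,66),(0,65),(0,69),(0,71),(1,76),(0,75),(0,74),(0,73),(0,72),(1,70),(1,68),(0,67),(0,66),(1,64),(1,62),(0,61),(0,60),(0,59),(0,74),(0,73),(0,72),(0,71),(0,70),(0,69),(1,67),(0,75),(0,74),(0,78),(1,76),(0,75),(1,73),(0,72),(0,71),(1,69),(0,68),(1,66),(0,65),(0,64),(1,62),(0,61),(0,65),(0,72),(0,79),(0,78),(1,76),(0,75),(1,73),(1,71),(0,70),(0,69),(0,68),(1,66),(1,64),(0,63),(0,76),(0,75),(0,77),(0,80),(1,78),(1,76),(1,74),(0,73),(0,72),(0,71),(0,70),(0,69),(0,68),(0,67),(0,74),(0,76),(1,80),(0,79),(0,78),(0,77),(1,75),(1,73),(0,72),(0,71),(0,70),(0,79),(0,78),(0,82),(1,80),(0,79),(1,77),(0,76),(0,75),(1,73),(0,72),(0,83),(0,82),(0,81),(0,80),(0,84),(1,85),(1,83),(0,82),(0,81),(1,79),(0,78),(0,77),(0,76),(0,75),(1,73),(1,7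1),(1,69),(0,68),(1,66),(0,65),(0,64),(1,62),(1,60),(1,58),(1,56),(2,55),(2,54),(0,54),(2,53),(0,58),(0,57),(1,59),(0,58),(1,56),(0,55),(0,54),(0,53),(2,52),(0,65),(1,66),(1,64),(0,63),(0,62),(0,61),(0,60),(0,59),(0,58),(0,57),(0,64),(0,66),(0,68),(0,67),(1,65),(1,63),(0,62),(0,61),(0,69),(0,68),(1,70),(0,69),(1,67),(0,66),(0,65),(1,63),(0,62),(1,60),(0,59),(0,58),(1,56),(0,55),(0,54),(0,53),(0,52),(2,51),(0,52),(0,51),(2,50),(0,59),(0,58),(0,60),(0,61),(1,59),(1,57),(0,56),(0,55),(0,54),(0,53),(1,51),(0,50),(2,49),(0,67),(0,66),(0,65),(0,64),(0,63),(0,62),(1,60),(0,68),(0,69),(1,67),(0,66),(0,65),(0,64),(1,62),(0,61),(1,59),(0,58),(0,57),(1,55),(0,54),(0,53),(1,51),(0,50),(0,49),(2,48),(0,52),(0,51),(0,50),(0,49),(0,48),(2,47),(0,51),(0,50),(0,52),(0,54),(0,61),(0,60),(0,59),(0,58),(0,57),(0,56),(0,55),(1,53),(1,51),(1,49),(0,48),(0,47),(2,46),(0,53),(0,52),(0,60),(0,65),(0,64),(0,63),(1,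61),(1,59),(0,58),(0,57),(0,56),(1,54),(0,53),(1,51),(0,50),(0,49),(1,47),(0,46),(2,45),(1,44),(2,43),(2,42),(0,42),(2,41),(0,41),(2,40),(1,47),(0,46),(0,45),(0,44),(0,43),(0,42),(0,41),(0,40),(2,39),(0,39),(2,38),(0,38),(2,37),(0,43),(1,41),(0,40),(0,39),(0,38),(0,37),(2,36),(0,37),(0,36),(2,35),(0,36),(0,35),(2,34),(0,39),(0,38),(0,37),(1,35),(0,34),(2,33),(2,21),(2,20),(0,21),(0,20),(2,19),(0,22),(0,21),(0,20),(0,19),(2,18),(2,17),(0,17),(2,16),(0,17),(0,16),(2,15),(2,14),(2,13),(2,12),(2,11),(2,10),(2,9),(2,8),(2,7),(2,6),(2,5),(2,4),(2,3),(2,2),(2,1),(2,0)]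

/-- A list of moves. -/
def cert_A1sq : List (ℕ × ℕ) := [(0,68),(0,67),(0,90),(0,89),(0,88),(0,87),(0,86),(1,84),(0,83),(0,82),(0,81),(0,80),(1,78),(0,77),(0,76),(0,75),(0,74),(1,72),(0,71),(0,70),(0,69),(0,91),(0,90),(0,89),(0,88),(1,86),(0,85),(0,84),(0,83),(0,82),(1,80),(0,79),(0,78),(0,84),(0,83),(0,92),(0,91),(0,90),(1,88),(0,87),(0,86),(0,85),(0,96),(0,95),(1,93),(0,92),(1,90),(0,89),(0,88),(0,87),(0,118),(0,117),(0,116),(0,115),(0,114),(1,112),(0,111),(0,110),(0,109),(0,108),(1,106),(0,105),(0,104),(0,103),(0,102),(1,100),(0,99),(0,98),(0,97),(1,95),(0,94),(1,92),(0,91),(0,90),(0,89),(0,88),(1,86),(1,84),(1,82),(0,81),(0,80),(0,79),(1,77),(0,76),(1,74),(0,73),(0,72),(0,71),(0,84),(0,94),(0,93),(0,95),(1,96),(1,94),(1,92),(0,91),(0,90),(0,89),(0,88),(0,87),(1,85),(1,83),(0,82),(0,81),(0,80),(0,105),(0,104),(0,103),(0,102),(0,101),(1,99),(0,98),(0,97),(0,96),(0,95),(0,94),(0,93),(1,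91),(0,90),(0,89),(0,88),(0,106),(0,105),(0,104),(0,103),(1,101),(0,100),(0,99),(0,98),(0,107),(0,106),(0,105),(1,103),(0,102),(0,101),(0,111),(0,110),(1,108),(0,107),(1,105),(0,104),(0,103),(0,102),(1,100),(0,99),(1,97),(0,96),(0,95),(1,93),(0,92),(0,91),(0,96),(0,108),(0,107),(0,109),(1,110),(1,108),(1,106),(0,105),(0,104),(0,103),(0,119),(0,118),(0,117),(0,116),(1,114),(0,113),(0,112),(0,111),(0,120),(0,119),(0,118),(1,116),(0,115),(0,114),(0,124),(0,123),(1,121),(0,120),(1,118),(0,117),(0,116),(0,115),(1,113),(0,112),(1,110),(0,109),(0,108),(1,106),(0,105),(0,104),(1,102),(0,101),(0,100),(0,99),(1,97),(1,95),(0,94),(0,93),(0,92),(1,90),(0,89),(1,87),(0,86),(0,85),(1,83),(0,82),(0,81),(1,79),(0,78),(1,76),(0,75),(0,74),(0,73),(0,72),(1,70),(1,68),(1,66),(0,65),(0,64),(0,63),(2,62),(0,68),(0,102),(0,101),(0,100),(0,99),(0,98),(0,97),(0,96),(0,95),(0,94),(0,93),(1,91),(0,90),(0,89),(0,88)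,(0,103),(0,102),(0,101),(0,100),(0,104),(1,105),(1,103),(0,102),(0,101),(1,99),(0,98),(0,97),(0,96),(0,95),(1,93),(0,92),(1,107),(0,106),(0,105),(1,103),(0,102),(0,101),(1,99),(0,98),(0,97),(1,95),(0,94),(0,93),(1,91),(0,90),(0,89),(1,87),(0,86),(0,85),(0,84),(0,83),(1,81),(0,80),(0,79),(0,106),(0,109),(1,107),(1,105),(0,104),(0,103),(0,102),(0,101),(1,99),(1,97),(0,96),(0,95),(0,94),(0,93),(1,91),(0,90),(0,89),(1,87),(0,86),(0,85),(1,83),(0,82),(0,81),(0,99),(1,110),(0,109),(0,108),(0,107),(0,106),(1,104),(0,103),(0,102),(1,100),(1,98),(0,97),(0,96),(0,95),(0,94),(0,112),(1,110),(0,109),(0,108),(1,106),(0,105),(0,104),(1,102),(0,101),(0,100),(1,98),(0,97),(0,96),(0,109),(0,119),(0,118),(0,120),(1,121),(1,119),(1,117),(0,116),(0,115),(0,114),(0,113),(0,112),(1,110),(1,108),(0,107),(0,106),(1,104),(0,103),(0,102),(0,101),(0,100),(1,98),(0,97),(1,95),(1,93),(0,92),(0,91),(0,90),(0,89),(1,87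),(1,85),(0,84),(0,83),(0,82),(1,80),(1,78),(0,77),(0,76),(0,75),(1,73),(0,72),(0,71),(1,69),(1,67),(0,66),(0,65),(0,64),(0,63),(0,62),(2,61),(0,65),(0,67),(0,75),(0,74),(0,76),(0,78),(0,89),(0,88),(0,87),(0,86),(0,90),(0,89),(0,91),(0,93),(0,112),(0,111),(0,110),(0,109),(0,108),(0,107),(0,106),(0,105),(0,113),(0,112),(0,111),(0,110),(0,114),(0,113),(0,115),(0,117),(0,119),(0,118),(1,116),(1,114),(1,112),(0,111),(1,109),(0,108),(0,107),(0,106),(1,104),(0,103),(0,102),(0,101),(0,100),(0,99),(0,98),(1,96),(0,95),(0,94),(1,92),(1,90),(1,88),(0,87),(1,85),(0,84),(0,83),(0,82),(0,81),(0,80),(0,79),(1,77),(1,75),(1,73),(0,72),(0,71),(0,70),(0,69),(0,68),(1,66),(1,64),(0,63),(0,62),(0,61),(2,60),(0,94),(0,93),(0,92),(0,95),(0,94),(1,96),(0,95),(1,93),(1,91),(0,90),(0,89),(0,88),(0,87),(0,86),(0,85),(0,84),(0,83),(0,82),(1,80),(0,79),(0,91),(0,93),(0,98),(1,96),(0,95),(0,94),(1,92),(1,90),(0,89),(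0,88),(0,87),(0,86),(0,85),(0,84),(1,82),(0,81),(0,90),(0,92),(0,99),(1,100),(1,98),(0,97),(0,96),(0,95),(0,94),(0,93),(1,91),(1,89),(0,88),(0,87),(0,86),(1,84),(0,83),(0,82),(1,80),(1,78),(0,77),(0,76),(0,75),(0,74),(0,73),(0,72),(1,70),(0,69),(0,68),(0,67),(0,78),(0,77),(0,80),(0,97),(0,96),(0,95),(0,94),(0,98),(0,97),(0,100),(0,102),(0,101),(1,99),(0,98),(1,96),(0,95),(1,93),(0,92),(0,91),(1,89),(0,88),(1,86),(0,85),(0,84),(0,83),(0,82),(0,81),(1,79),(0,78),(1,76),(0,75),(0,74),(1,72),(0,71),(0,70),(0,75),(0,89),(0,88),(0,90),(0,92),(0,104),(0,103),(0,105),(0,106),(1,104),(1,102),(0,101),(0,100),(0,99),(0,98),(0,97),(0,96),(0,95),(0,94),(0,93),(1,91),(1,89),(1,87),(0,86),(0,85),(0,84),(0,83),(0,82),(0,93),(0,92),(0,102),(0,101),(0,100),(0,104),(0,107),(0,106),(0,105),(1,103),(0,102),(0,101),(1,99),(0,98),(0,97),(0,96),(1,94),(0,93),(1,91),(0,90),(0,89),(1,87),(0,86),(0,85),(0,97),(0,96)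,(0,95),(0,94),(0,98),(0,109),(0,108),(0,107),(0,106),(0,110),(0,109),(0,112),(0,111),(0,110),(1,108),(0,107),(1,105),(0,104),(0,103),(0,102),(0,101),(1,99),(1,97),(0,96),(0,95),(1,93),(0,92),(0,91),(0,90),(0,89),(1,87),(0,86),(1,84),(0,83),(1,81),(0,80),(0,79),(0,78),(1,76),(1,74),(0,73),(0,72),(0,71),(1,69),(0,68),(1,66),(0,65),(0,64),(1,62),(0,61),(0,60),(2,59),(0,84),(0,83),(0,85),(1,86),(1,84),(1,82),(0,81),(0,80),(0,79),(0,78),(0,77),(0,76),(0,75),(0,74),(0,73),(0,72),(1,70),(0,69),(0,68),(0,67),(0,82),(0,81),(0,80),(0,79),(0,84),(0,83),(0,86),(0,85),(0,88),(0,87),(0,86),(1,84),(1,82),(0,81),(0,80),(1,78),(0,77),(0,76),(0,75),(0,74),(1,72),(0,71),(0,89),(0,88),(0,87),(1,90),(0,89),(0,88),(1,86),(0,85),(0,84),(1,82),(0,81),(0,80),(1,78),(0,77),(0,76),(1,74),(0,73),(0,72),(1,70),(0,69),(0,68),(1,66),(0,65),(0,64),(0,63),(0,62),(1,60),(0,59),(2,58),(0,70),(0,69),(0,68),(0,67),(1,71),(0,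70),(0,69),(0,68),(1,66),(0,65),(0,64),(0,63),(0,62),(0,61),(0,60),(1,58),(2,57),(2,56),(0,59),(0,75),(0,74),(0,73),(0,72),(0,76),(0,75),(0,77),(0,94),(0,93),(0,92),(0,91),(0,90),(0,89),(0,88),(0,95),(0,94),(0,93),(0,96),(0,106),(0,105),(0,104),(0,103),(0,102),(1,100),(0,99),(1,97),(1,95),(0,94),(1,92),(0,91),(0,90),(0,89),(1,87),(0,86),(0,85),(1,83),(0,82),(0,81),(0,80),(1,78),(1,76),(1,74),(0,73),(1,71),(0,70),(0,69),(0,68),(0,67),(1,65),(0,64),(0,63),(0,62),(1,60),(1,58),(0,57),(0,56),(2,55),(0,63),(0,62),(0,61),(0,60),(0,64),(0,63),(0,62),(0,65),(0,64),(0,66),(0,81),(0,80),(0,79),(0,78),(0,82),(0,81),(0,80),(0,83),(0,98),(0,97),(0,99),(0,106),(1,107),(1,105),(0,104),(0,103),(0,102),(1,100),(1,98),(1,96),(0,95),(0,94),(0,93),(0,92),(0,91),(0,90),(1,88),(0,87),(0,86),(1,84),(1,82),(0,81),(1,79),(1,77),(0,76),(0,75),(0,74),(0,73),(0,72),(0,71),(0,70),(0,69),(1,67),(1,65),(1,63),(1,61),(1,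59),(0,58),(0,57),(0,56),(0,55),(2,54),(0,57),(0,59),(0,70),(0,69),(0,71),(0,86),(0,85),(0,84),(0,87),(0,86),(0,88),(0,87),(1,85),(1,83),(0,82),(0,81),(0,80),(0,79),(0,78),(0,77),(0,76),(0,75),(0,74),(1,72),(1,70),(1,68),(0,67),(0,66),(0,65),(0,64),(0,68),(0,67),(0,74),(0,73),(0,83),(0,85),(0,89),(0,100),(0,99),(0,98),(0,97),(0,96),(0,95),(0,94),(0,93),(0,92),(1,90),(1,88),(0,87),(0,86),(1,84),(1,82),(0,81),(0,80),(0,79),(0,78),(0,77),(1,75),(0,74),(1,72),(0,71),(0,70),(0,77),(0,76),(0,75),(0,79),(0,92),(0,91),(0,90),(0,89),(0,88),(0,87),(0,93),(0,92),(0,101),(0,100),(0,99),(0,98),(0,97),(0,96),(1,94),(0,93),(1,91),(0,90),(0,96),(0,95),(0,94),(0,98),(1,102),(0,101),(0,100),(0,99),(1,97),(0,96),(0,95),(1,93),(0,92),(0,91),(1,89),(0,88),(1,86),(0,85),(0,84),(1,82),(0,81),(0,80),(1,78),(0,77),(0,76),(1,74),(0,73),(0,72),(0,71),(1,69),(0,68),(1,66),(0,65),(1,63),(0,62),(0,61),(0,60),(1,58),(1,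56),(0,55),(0,54),(2,53),(0,60),(0,59),(0,70),(0,69),(0,68),(0,67),(0,80),(0,79),(0,78),(0,81),(0,80),(0,83),(0,89),(0,88),(0,87),(0,86),(0,85),(0,84),(1,82),(0,81),(1,79),(1,77),(0,76),(0,75),(0,74),(0,73),(1,71),(0,84),(0,83),(0,82),(1,90),(0,89),(0,88),(0,87),(1,85),(0,84),(0,83),(1,81),(0,80),(0,79),(1,77),(0,76),(0,75),(1,73),(0,72),(1,70),(0,69),(0,68),(1,66),(0,65),(0,64),(0,63),(1,61),(0,60),(1,58),(0,57),(0,56),(1,54),(0,53),(2,52),(0,62),(0,61),(0,60),(0,59),(0,63),(1,70),(0,69),(0,68),(0,67),(0,66),(1,64),(1,62),(0,61),(0,60),(1,58),(0,57),(0,56),(0,55),(0,54),(1,52),(2,51),(2,50),(0,63),(0,62),(0,61),(0,60),(0,59),(0,58),(0,57),(0,64),(0,63),(0,62),(0,65),(0,82),(0,81),(0,80),(0,79),(0,78),(0,83),(0,93),(0,92),(0,97),(0,96),(1,94),(0,93),(1,91),(0,90),(0,89),(0,88),(0,87),(0,86),(1,84),(1,82),(0,81),(0,80),(0,79),(1,77),(0,76),(0,75),(0,74),(0,73),(1,71),(0,70),(0,69),(0,68),(1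,66),(1,64),(0,63),(1,61),(0,60),(0,59),(0,58),(1,56),(0,55),(0,54),(0,53),(0,52),(0,51),(0,50),(2,49),(0,51),(0,69),(0,68),(0,67),(0,66),(0,70),(0,69),(0,68),(0,71),(0,73),(0,86),(0,85),(0,84),(0,83),(0,82),(0,81),(0,80),(1,78),(0,77),(0,76),(0,75),(0,74),(1,72),(1,70),(0,74),(0,73),(0,87),(0,88),(1,86),(0,85),(0,84),(0,83),(0,82),(1,80),(0,79),(0,78),(0,77),(1,75),(0,74),(1,72),(0,71),(1,69),(1,67),(1,65),(0,64),(0,63),(0,62),(0,61),(0,60),(0,59),(1,57),(0,56),(0,55),(0,54),(1,52),(1,50),(0,49),(2,48),(0,55),(0,54),(0,53),(0,52),(0,56),(0,55),(0,54),(0,57),(0,56),(0,58),(0,77),(0,76),(0,75),(0,74),(0,78),(0,77),(0,76),(0,79),(0,78),(0,80),(0,89),(0,88),(0,90),(0,93),(1,91),(1,89),(1,87),(0,86),(0,85),(0,84),(0,83),(1,81),(1,79),(1,77),(1,75),(1,73),(0,72),(0,71),(0,70),(0,69),(0,68),(0,67),(0,66),(0,65),(0,64),(0,63),(0,62),(0,61),(1,59),(1,57),(1,55),(1,53),(1,51),(0,50),(0,49),(0,48),(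2,47),(0,49),(0,51),(0,59),(0,58),(0,57),(0,56),(0,60),(0,59),(0,71),(0,70),(0,73),(0,72),(0,75),(0,74),(0,81),(0,80),(0,85),(0,84),(1,82),(0,81),(1,79),(0,78),(0,77),(0,76),(0,75),(1,73),(1,71),(1,69),(0,68),(0,67),(0,66),(0,65),(0,64),(0,63),(1,61),(0,60),(1,58),(0,57),(1,55),(0,54),(0,53),(0,52),(1,50),(1,48),(0,47),(2,46),(0,52),(0,51),(0,61),(0,60),(0,59),(0,63),(0,69),(1,67),(0,66),(0,65),(0,64),(1,62),(0,61),(0,60),(1,58),(0,57),(0,56),(0,55),(1,53),(0,52),(1,50),(0,49),(0,48),(1,46),(2,45),(2,44),(0,52),(0,51),(0,50),(0,49),(0,53),(0,62),(0,61),(0,72),(0,71),(0,70),(0,81),(0,80),(1,78),(0,77),(0,76),(0,75),(1,73),(0,72),(0,71),(1,69),(0,68),(0,67),(0,66),(0,65),(1,63),(0,62),(1,60),(0,59),(0,58),(0,57),(0,56),(1,54),(1,52),(0,51),(0,50),(1,48),(0,47),(0,46),(0,45),(0,44),(2,43),(0,55),(0,54),(0,53),(0,52),(0,51),(0,50),(0,49),(0,56),(0,55),(0,54),(0,57),(0,74),(0,73),(0,72),(0,71),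(0,70),(0,75),(0,81),(0,80),(0,79),(0,78),(1,76),(1,74),(0,73),(0,72),(0,71),(1,69),(0,68),(0,67),(0,66),(0,65),(0,64),(0,63),(1,61),(0,60),(1,58),(1,56),(0,55),(1,53),(0,52),(0,51),(0,50),(1,48),(0,47),(0,46),(0,45),(0,44),(0,43),(2,42),(0,43),(0,59),(0,58),(0,60),(0,65),(0,64),(0,63),(1,61),(1,59),(1,57),(0,56),(0,55),(0,54),(0,53),(0,52),(0,51),(1,49),(0,48),(0,47),(0,46),(1,44),(1,42),(2,41),(0,47),(0,46),(0,45),(0,44),(0,48),(0,47),(0,46),(0,49),(0,48),(0,50),(0,67),(0,66),(0,65),(0,64),(0,68),(0,67),(0,66),(0,69),(0,68),(0,70),(0,76),(0,75),(0,74),(0,73),(1,71),(1,69),(1,67),(1,65),(1,63),(0,62),(0,61),(0,60),(0,59),(0,58),(0,57),(0,56),(0,55),(0,54),(0,53),(1,51),(1,49),(1,47),(1,45),(1,43),(0,42),(0,41),(2,40),(0,41),(0,43),(0,51),(0,50),(0,49),(0,48),(0,52),(0,51),(0,63),(1,61),(0,60),(0,59),(0,58),(0,57),(0,56),(0,55),(1,53),(0,52),(1,50),(0,49),(1,47),(0,46),(0,45),(0,44),(1,42)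,(1,40),(2,39),(2,38),(0,42),(0,41),(0,51),(0,50),(0,49),(0,53),(0,61),(0,60),(0,59),(1,57),(0,56),(0,55),(0,54),(1,52),(0,51),(0,50),(1,48),(0,47),(0,46),(0,45),(1,43),(0,42),(1,40),(0,39),(0,38),(2,37),(0,44),(0,43),(0,42),(0,41),(0,45),(0,54),(0,53),(0,61),(0,60),(0,59),(0,58),(0,57),(1,55),(0,54),(1,52),(0,51),(0,50),(0,49),(0,48),(1,46),(1,44),(0,43),(0,42),(1,40),(0,39),(0,38),(0,37),(2,36),(0,47),(0,46),(0,45),(0,44),(0,43),(0,42),(0,41),(0,48),(0,47),(0,46),(0,49),(0,61),(0,60),(0,59),(0,58),(0,57),(0,56),(0,55),(1,53),(0,52),(1,50),(1,48),(0,47),(1,45),(0,44),(0,43),(0,42),(1,40),(0,39),(0,38),(0,37),(0,36),(2,35),(0,35),(2,34),(0,38),(0,37),(0,36),(0,35),(0,39),(0,38),(0,37),(0,40),(0,39),(0,41),(1,54),(0,53),(0,52),(0,51),(0,50),(0,49),(0,48),(0,47),(0,46),(0,45),(0,44),(1,42),(1,40),(1,38),(1,36),(1,34),(2,33),(2,32),(0,32),(2,31),(0,32),(0,31),(2,30),(0,32),(0,31),(0,30),(2,29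),(0,32),(0,31),(0,30),(0,29),(2,28),(0,32),(0,31),(0,33),(0,44),(1,42),(0,41),(0,40),(0,39),(0,38),(0,37),(0,36),(1,34),(1,32),(1,30),(0,29),(0,28),(2,27),(2,26),(2,25),(2,24),(0,24),(2,23),(0,24),(0,23),(2,22),(1,41),(0,40),(1,38),(0,37),(0,36),(0,35),(0,34),(1,32),(0,31),(0,30),(0,29),(0,28),(0,27),(0,26),(0,25),(0,24),(0,23),(0,22),(2,21),(2,20),(0,24),(0,23),(0,25),(0,32),(0,36),(0,35),(1,33),(1,31),(0,30),(0,29),(0,28),(1,26),(1,24),(1,22),(0,21),(0,20),(2,19),(0,20),(0,22),(0,29),(0,28),(1,26),(0,25),(0,24),(0,23),(1,21),(1,19),(2,18),(2,17),(0,17),(2,16),(0,29),(1,27),(0,26),(0,25),(0,24),(1,22),(0,21),(0,20),(0,19),(0,18),(0,17),(0,16),(2,15),(1,27),(0,26),(0,25),(0,24),(1,22),(0,21),(0,20),(0,19),(0,18),(0,17),(0,16),(0,15),(2,14),(0,17),(0,16),(0,23),(0,22),(0,21),(0,20),(1,18),(0,17),(1,15),(0,14),(2,13),(0,15),(0,14),(0,16),(0,21),(0,20),(0,19),(1,17),(1,15),(1,13),(2,12),(2,11),(0,11),(2,10),(0,16),(0,15),(1,13),(0,12),(0,11),(0,10),(2,9),(0,15),(1,13),(0,12),(0,11),(0,10),(0,9),(2,8),(1,13),(0,12),(0,11),(0,10),(0,9),(0,8),(2,7),(0,8),(0,7),(2,6),(2,5),(2,4),(2,3),(2,2),(2,1),(2,0)]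

/-- A list of moves. -/
def cert_A1c0 : List (ℕ × ℕ) := [(0,100),(0,99),(0,98),(0,97),(0,96),(1,94),(0,93),(0,92),(0,91),(0,90),(1,88),(0,87),(0,93),(0,92),(0,91),(0,101),(0,100),(0,99),(0,98),(1,96),(0,95),(0,94),(0,93),(0,106),(0,105),(0,104),(1,102),(0,101),(0,100),(1,98),(0,97),(0,96),(0,95),(0,121),(0,120),(0,119),(0,118),(0,117),(1,115),(0,114),(0,113),(0,112),(0,111),(1,109),(0,108),(0,107),(0,106),(1,104),(0,103),(0,102),(1,100),(0,99),(0,98),(0,97),(0,122),(0,121),(0,120),(0,119),(1,117),(0,116),(0,122),(0,121),(0,120),(0,123),(0,122),(0,124),(1,125),(1,123),(1,121),(1,119),(0,118),(0,117),(1,115),(0,114),(0,113),(1,111),(0,110),(0,109),(0,108),(1,106),(0,105),(0,104),(1,102),(0,101),(0,100),(0,99),(0,98),(1,96),(1,94),(1,92),(1,90),(0,89),(0,88),(1,86),(0,85),(0,84),(1,82),(0,81),(0,80),(0,79),(0,78),(1,76),(0,75),(0,74),(0,73),(0,72),(1,70),(0,69),(0,68),(0,67),(0,66),(0,65),(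2,64),(2,63),(2,62),(2,61),(2,60),(2,59),(2,58),(2,57),(2,56),(2,55),(2,54),(2,53),(2,52),(2,51),(2,50),(2,49),(2,48),(2,47),(2,46),(2,45),(2,44),(2,43),(2,42),(0,42),(2,41),(1,41),(2,40),(2,39),(0,40),(0,39),(2,38),(0,40),(0,39),(0,38),(2,37),(0,40),(0,39),(0,38),(0,37),(2,36),(0,36),(2,35),(0,38),(0,37),(0,36),(0,39),(0,38),(0,40),(1,41),(1,39),(1,37),(1,35),(2,34),(2,33),(0,33),(2,32),(0,33),(0,32),(2,31),(0,33),(0,32),(0,31),(2,30),(0,33),(0,32),(0,31),(0,30),(2,29),(0,32),(1,33),(1,31),(0,30),(0,29),(2,28),(2,27),(2,26),(2,25),(0,25),(2,24),(0,25),(0,24),(2,23),(0,24),(0,23),(2,22),(2,21),(0,21),(2,20),(1,20),(2,19),(2,18),(0,18),(2,17),(0,17),(2,16),(0,16),(2,15),(0,15),(2,14),(0,15),(1,16),(1,14),(2,13),(2,12),(0,12),(2,11),(0,13),(0,12),(0,11),(2,10),(0,13),(0,12),(0,11),(0,10),(2,9),(0,13),(0,12),(0,11),(0,10),(0,9),(2,8),(0,9),(0,8),(2,7),(2,6),(2,5),(2,4),(2,3),(2,2),(2,0)]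

/-- A list of moves. -/
def cert_A1c1 : List (ℕ × ℕ) := [(0,93),(0,92),(0,91),(0,90),(0,89),(1,87),(0,86),(0,85),(0,84),(0,83),(1,81),(0,80),(0,86),(0,85),(0,84),(0,94),(0,93),(0,92),(0,91),(1,89),(0,88),(0,87),(0,86),(0,99),(0,98),(0,97),(1,95),(0,94),(0,93),(1,91),(0,90),(0,89),(0,88),(0,114),(0,113),(0,112),(0,111),(0,110),(1,108),(0,107),(0,106),(0,105),(0,104),(1,102),(0,101),(0,100),(0,99),(1,97),(0,96),(0,95),(1,93),(0,92),(0,91),(0,90),(0,115),(0,114),(0,113),(0,112),(1,110),(0,109),(0,115),(0,114),(0,113),(0,116),(0,115),(0,117),(1,118),(1,116),(1,114),(1,112),(0,111),(0,110),(1,108),(0,107),(0,106),(1,104),(0,103),(0,102),(0,101),(1,99),(0,98),(0,97),(1,95),(0,94),(0,93),(0,92),(0,91),(1,89),(1,87),(1,85),(1,83),(0,82),(0,81),(1,79),(0,78),(0,77),(1,75),(0,74),(0,73),(0,72),(0,71),(1,69),(0,68),(0,67),(0,66),(0,65),(2,64),(2,63),(2,62),(2,61),(2,60),(2,59),(2,58),(2,57),(2,56),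(2,55),(2,54),(2,53),(2,52),(2,51),(2,50),(2,49),(0,49),(2,48),(1,48),(2,47),(2,46),(0,47),(0,46),(2,45),(0,47),(0,46),(0,45),(2,44),(0,47),(0,46),(0,45),(0,44),(2,43),(0,43),(2,42),(0,45),(0,44),(0,43),(0,46),(0,45),(0,47),(1,48),(1,46),(1,44),(1,42),(2,41),(2,40),(0,40),(2,39),(0,40),(0,39),(2,38),(0,40),(0,39),(0,38),(2,37),(0,40),(0,39),(0,38),(0,37),(2,36),(0,39),(1,40),(1,38),(0,37),(0,36),(2,35),(2,34),(2,33),(2,32),(0,32),(2,31),(0,32),(0,31),(2,30),(0,31),(0,30),(2,29),(2,28),(0,28),(2,27),(1,27),(2,26),(2,25),(0,25),(2,24),(0,24),(2,23),(0,23),(2,22),(0,22),(2,21),(0,22),(1,23),(1,21),(2,20),(2,19),(0,19),(2,18),(0,20),(0,19),(0,18),(2,17),(0,20),(0,19),(0,18),(0,17),(2,16),(0,20),(0,19),(0,18),(0,17),(0,16),(2,15),(0,16),(0,15),(2,14),(2,13),(2,12),(2,11),(2,10),(2,9),(0,8),(2,7),(0,7),(2,6),(0,6),(2,5),(0,5),(2,4),(0,4),(2,3),(1,3),(2,2),(2,1),(2,0)]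

/-- A list of moves. -/
def cert_A1c2 : List (ℕ × ℕ) := [(0,86),(0,85),(0,84),(0,83),(0,82),(1,80),(0,79),(0,78),(0,77),(0,76),(1,74),(0,73),(0,79),(0,78),(0,77),(0,87),(0,86),(0,85),(0,84),(1,82),(0,81),(0,80),(0,79),(0,92),(0,91),(0,90),(1,88),(0,87),(0,86),(1,84),(0,83),(0,82),(0,81),(0,107),(0,106),(0,105),(0,104),(0,103),(1,101),(0,100),(0,99),(0,98),(0,97),(1,95),(0,94),(0,93),(0,92),(1,90),(0,89),(0,88),(1,86),(0,85),(0,84),(0,83),(0,108),(0,107),(0,106),(0,105),(1,103),(0,102),(0,108),(0,107),(0,106),(0,109),(0,108),(0,110),(1,111),(1,109),(1,107),(1,105),(0,104),(0,103),(1,101),(0,100),(0,99),(1,97),(0,96),(0,95),(0,94),(1,92),(0,91),(0,90),(1,88),(0,87),(0,86),(0,85),(0,84),(1,82),(1,80),(1,78),(1,76),(0,75),(0,74),(1,72),(0,71),(0,70),(1,68),(0,67),(0,66),(0,65),(2,64),(2,63),(2,62),(2,61),(2,60),(2,59),(2,58),(2,57),(2,56),(0,56),(2,55),(1,55),(2,54),(2,53),(0,54),(0,53),(2,5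2),(0,54),(0,53),(0,52),(2,51),(0,54),(0,53),(0,52),(0,51),(2,50),(0,50),(2,49),(0,52),(0,51),(0,50),(0,53),(0,52),(0,54),(1,55),(1,53),(1,51),(1,49),(2,48),(2,47),(0,47),(2,46),(0,47),(0,46),(2,45),(0,47),(0,46),(0,45),(2,44),(0,47),(0,46),(0,45),(0,44),(2,43),(0,46),(1,47),(1,45),(0,44),(0,43),(2,42),(2,41),(2,40),(2,39),(0,39),(2,38),(0,39),(0,38),(2,37),(0,38),(0,37),(2,36),(2,35),(0,35),(2,34),(1,34),(2,33),(2,32),(0,32),(2,31),(0,31),(2,30),(0,30),(2,29),(0,29),(2,28),(0,29),(1,30),(1,28),(2,27),(2,26),(0,26),(2,25),(0,27),(0,26),(0,25),(2,24),(0,27),(0,26),(0,25),(0,24),(2,23),(0,27),(0,26),(0,25),(0,24),(0,23),(2,22),(0,23),(0,22),(2,21),(2,20),(2,19),(2,18),(2,17),(2,16),(0,15),(2,14),(0,14),(2,13),(0,13),(2,12),(0,12),(2,11),(0,11),(2,10),(1,10),(2,9),(2,8),(0,8),(2,7),(0,7),(2,6),(0,6),(2,5),(0,5),(2,4),(1,4),(2,3),(2,2),(0,2),(2,1),(2,0)]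

/-- A list of moves. -/
def cert_A1c3 : List (ℕ × ℕ) := [(0,79),(0,78),(0,77),(0,76),(0,75),(1,73),(0,72),(0,71),(0,70),(0,69),(1,67),(0,66),(0,72),(0,71),(0,70),(0,80),(0,79),(0,78),(0,77),(1,75),(0,74),(0,73),(0,72),(0,85),(0,84),(0,83),(1,81),(0,80),(0,79),(1,77),(0,76),(0,75),(0,74),(0,100),(0,99),(0,98),(0,97),(0,96),(1,94),(0,93),(0,92),(0,91),(0,90),(1,88),(0,87),(0,86),(0,85),(1,83),(0,82),(0,81),(1,79),(0,78),(0,77),(0,76),(0,101),(0,100),(0,99),(0,98),(1,96),(0,95),(0,101),(0,100),(0,99),(0,102),(0,101),(0,103),(1,104),(1,102),(1,100),(1,98),(0,97),(0,96),(1,94),(0,93),(0,92),(1,90),(0,89),(0,88),(0,87),(1,85),(0,84),(0,83),(1,81),(0,80),(0,79),(0,78),(0,77),(1,75),(1,73),(1,71),(1,69),(0,68),(0,67),(1,65),(2,64),(2,63),(0,63),(2,62),(1,62),(2,61),(2,60),(0,61),(0,60),(2,59),(0,61),(0,60),(0,59),(2,58),(0,61),(0,60),(0,59),(0,58),(2,57),(0,57),(2,56),(0,59),(0,58),(0,57),(0,60)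,(0,59),(0,61),(1,62),(1,60),(1,58),(1,56),(2,55),(2,54),(0,54),(2,53),(0,54),(0,53),(2,52),(0,54),(0,53),(0,52),(2,51),(0,54),(0,53),(0,52),(0,51),(2,50),(0,53),(1,54),(1,52),(0,51),(0,50),(2,49),(2,48),(2,47),(2,46),(0,46),(2,45),(0,46),(0,45),(2,44),(0,45),(0,44),(2,43),(2,42),(0,42),(2,41),(1,41),(2,40),(2,39),(0,39),(2,38),(0,38),(2,37),(0,37),(2,36),(0,36),(2,35),(0,36),(1,37),(1,35),(2,34),(2,33),(0,33),(2,32),(0,34),(0,33),(0,32),(2,31),(0,34),(0,33),(0,32),(0,31),(2,30),(0,34),(0,33),(0,32),(0,31),(0,30),(2,29),(0,30),(0,29),(2,28),(2,27),(2,26),(2,25),(2,24),(2,23),(0,22),(2,21),(0,21),(2,20),(0,20),(2,19),(0,19),(2,18),(0,18),(2,17),(1,17),(2,16),(2,15),(0,15),(2,14),(0,14),(2,13),(0,13),(2,12),(0,12),(2,11),(1,11),(2,10),(2,9),(0,9),(2,8),(0,8),(2,7),(0,7),(2,6),(0,6),(2,5),(1,5),(2,4),(2,3),(0,3),(2,2),(0,2),(2,1),(2,0)]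

/-- A list of moves. -/
def cert_A1c4 : List (ℕ × ℕ) := [(0,72),(0,71),(0,70),(0,69),(0,68),(1,66),(0,65),(2,64),(2,63),(2,62),(2,61),(2,60),(2,59),(2,58),(2,57),(2,56),(0,61),(0,60),(0,59),(0,58),(0,57),(1,55),(2,54),(0,60),(0,59),(0,58),(0,57),(1,55),(0,54),(2,53),(0,63),(0,62),(0,61),(1,59),(0,58),(0,57),(1,55),(0,54),(0,53),(2,52),(0,76),(0,75),(0,74),(0,73),(0,72),(1,70),(0,69),(0,68),(0,67),(0,66),(1,64),(0,63),(0,62),(0,61),(1,59),(0,58),(0,57),(1,55),(0,54),(0,53),(0,52),(2,51),(0,75),(0,74),(0,73),(0,72),(1,70),(0,69),(0,75),(0,74),(0,73),(0,76),(0,75),(0,77),(1,78),(1,76),(1,74),(1,72),(0,71),(0,70),(1,68),(0,67),(0,66),(1,64),(0,63),(0,62),(0,61),(1,59),(0,58),(0,57),(1,55),(0,54),(0,53),(0,52),(0,51),(2,50),(0,55),(0,54),(0,53),(0,56),(0,55),(0,57),(1,58),(1,56),(1,54),(1,52),(0,51),(0,50),(2,49),(2,48),(2,47),(2,46),(0,46),(2,45),(0,46),(0,45),(2,44),(0,46),(0,45),(0,44),(2,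43),(2,42),(0,44),(0,43),(0,42),(2,41),(0,43),(0,42),(0,44),(1,45),(1,43),(1,41),(2,40),(2,39),(0,39),(2,38),(0,39),(0,38),(2,37),(0,39),(0,38),(0,37),(2,36),(0,38),(0,44),(0,50),(0,49),(0,48),(0,47),(1,45),(1,43),(0,42),(0,41),(1,39),(1,37),(0,36),(2,35),(0,39),(0,38),(0,37),(0,36),(1,40),(0,39),(0,38),(0,42),(1,40),(0,43),(0,56),(0,55),(0,54),(0,53),(0,52),(1,50),(0,49),(0,48),(0,47),(0,46),(1,44),(1,42),(0,41),(1,39),(1,37),(1,35),(2,34),(2,33),(0,33),(2,32),(1,35),(0,34),(0,33),(0,32),(2,31),(0,38),(0,37),(0,36),(0,49),(0,48),(0,47),(0,46),(1,44),(0,43),(0,42),(0,41),(1,39),(0,38),(0,37),(1,35),(0,34),(0,33),(0,32),(0,31),(2,30),(0,39),(0,38),(0,37),(0,36),(0,52),(0,51),(0,50),(1,48),(0,47),(0,46),(1,44),(0,43),(0,42),(1,40),(0,39),(0,38),(0,37),(1,35),(0,34),(0,33),(0,32),(0,31),(0,30),(2,29),(0,30),(0,29),(2,28),(2,27),(2,26),(2,25),(2,24),(2,23),(2,22),(2,21),(0,24),(0,23),(0,22),(0,25),(0,24),(0,26),(1,27),(1,25),(1,23),(1,21),(2,20),(2,19),(0,19),(2,18),(0,19),(0,18),(2,17),(0,19),(0,18),(0,17),(2,16),(0,19),(0,18),(0,17),(0,16),(2,15),(0,18),(1,19),(1,17),(0,16),(0,15),(2,14),(2,13),(2,12),(2,11),(0,11),(2,10),(0,11),(0,10),(2,9),(0,10),(0,9),(2,8),(2,7),(0,7),(2,6),(1,6),(2,5),(2,4),(0,4),(2,3),(0,3),(2,2),(0,2),(2,1),(2,0)]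

/-- A list of moves. -/
def cert_A1c5 : List (ℕ × ℕ) := [(0,65),(2,64),(2,63),(0,68),(0,67),(0,66),(0,65),(0,64),(1,62),(2,61),(0,67),(0,66),(0,65),(0,64),(1,62),(0,61),(2,60),(0,70),(0,69),(0,68),(1,66),(0,65),(0,64),(1,62),(0,61),(0,60),(2,59),(0,83),(0,82),(0,81),(0,80),(0,79),(1,77),(0,76),(0,75),(0,74),(0,73),(1,71),(0,70),(0,69),(0,68),(1,66),(0,65),(0,64),(1,62),(0,61),(0,60),(0,59),(2,58),(0,82),(0,81),(0,80),(0,79),(1,77),(0,76),(0,82),(0,81),(0,80),(0,83),(0,82),(0,84),(1,85),(1,83),(1,81),(1,79),(0,78),(0,77),(1,75),(0,74),(0,73),(1,71),(0,70),(0,69),(0,68),(1,66),(0,65),(0,64),(1,62),(0,61),(0,60),(0,59),(0,58),(2,57),(0,62),(0,61),(0,60),(0,63),(0,62),(0,64),(1,65),(1,63),(1,61),(1,59),(0,58),(0,57),(2,56),(2,55),(2,54),(2,53),(0,53),(2,52),(0,53),(0,52),(2,51),(0,53),(0,52),(0,51),(2,50),(2,49),(0,51),(0,50),(0,49),(2,48),(0,50),(0,49),(0,51),(1,52),(1,50),(1,48),(2,47),(2,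46),(0,46),(2,45),(0,46),(0,45),(2,44),(0,46),(0,45),(0,44),(2,43),(0,45),(0,51),(0,57),(0,56),(0,55),(0,54),(1,52),(1,50),(0,49),(0,48),(1,46),(1,44),(0,43),(2,42),(0,46),(0,45),(0,44),(0,43),(1,47),(0,46),(0,45),(0,49),(1,47),(0,50),(0,63),(0,62),(0,61),(0,60),(0,59),(1,57),(0,56),(0,55),(0,54),(0,53),(1,51),(1,49),(0,48),(1,46),(1,44),(1,42),(2,41),(2,40),(0,40),(2,39),(1,42),(0,41),(0,40),(0,39),(2,38),(0,45),(0,44),(0,43),(0,56),(0,55),(0,54),(0,53),(1,51),(0,50),(0,49),(0,48),(1,46),(0,45),(0,44),(1,42),(0,41),(0,40),(0,39),(0,38),(2,37),(0,46),(0,45),(0,44),(0,43),(0,59),(0,58),(0,57),(1,55),(0,54),(0,53),(1,51),(0,50),(0,49),(1,47),(0,46),(0,45),(0,44),(1,42),(0,41),(0,40),(0,39),(0,38),(0,37),(2,36),(0,37),(0,36),(2,35),(2,34),(2,33),(2,32),(2,31),(2,30),(2,29),(2,28),(0,31),(0,30),(0,29),(0,32),(0,31),(0,33),(1,34),(1,32),(1,30),(1,28),(2,27),(2,26),(0,26),(2,25),(0,26),(0,25),(2,24),(0,26),(0,25),(0,24),(2,23),(0,26),(0,25),(0,24),(0,23),(2,22),(0,25),(1,26),(1,24),(0,23),(0,22),(2,21),(2,20),(2,19),(2,18),(0,18),(2,17),(0,18),(0,17),(2,16),(0,17),(0,16),(2,15),(2,14),(0,14),(2,13),(1,13),(2,12),(2,11),(0,11),(2,10),(0,10),(2,9),(0,9),(2,8),(0,8),(2,7),(1,7),(2,6),(2,5),(0,5),(2,4),(0,4),(2,3),(0,3),(2,2),(0,2),(2,1),(2,0)]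

/-- A list of moves. -/
def cert_A1c7 : List (ℕ × ℕ) := [(2,64),(0,63),(2,62),(0,62),(2,61),(0,65),(0,64),(0,63),(1,61),(2,60),(0,78),(0,77),(0,76),(0,75),(0,74),(1,72),(0,71),(0,70),(0,69),(0,68),(1,66),(0,65),(0,64),(0,63),(1,61),(0,60),(2,59),(0,77),(0,76),(0,75),(0,74),(1,72),(0,71),(0,77),(0,76),(0,75),(0,78),(0,77),(0,79),(1,80),(1,78),(1,76),(1,74),(0,73),(0,72),(1,70),(0,69),(0,68),(1,66),(0,65),(0,64),(0,63),(1,61),(0,60),(0,59),(2,58),(0,74),(0,80),(0,79),(0,78),(0,77),(1,75),(1,73),(0,72),(0,71),(0,88),(0,87),(0,86),(0,85),(0,84),(1,82),(0,81),(0,80),(0,79),(0,78),(0,89),(0,88),(0,87),(0,86),(1,84),(0,83),(0,82),(0,81),(0,94),(0,93),(0,92),(1,90),(0,89),(0,88),(1,86),(0,85),(0,84),(0,109),(0,108),(0,107),(0,106),(0,105),(1,103),(0,102),(0,101),(0,100),(0,99),(1,97),(0,96),(0,95),(0,94),(1,92),(0,91),(0,90),(1,88),(0,87),(0,86),(0,85),(1,83),(0,82),(1,80),(0,79),(1,77),(0,76),(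0,75),(1,73),(0,72),(1,70),(0,69),(0,68),(1,66),(0,65),(0,64),(0,63),(1,61),(0,60),(0,59),(0,58),(2,57),(2,56),(0,59),(0,58),(0,57),(0,56),(2,55),(0,58),(0,57),(0,56),(0,59),(0,58),(0,60),(1,61),(1,59),(1,57),(1,55),(2,54),(2,53),(0,53),(2,52),(0,53),(0,52),(2,51),(0,53),(0,52),(0,51),(2,50),(0,53),(0,52),(0,54),(0,63),(0,62),(0,61),(0,64),(0,80),(0,79),(0,78),(0,77),(0,76),(0,75),(0,74),(0,73),(0,72),(1,70),(0,69),(0,68),(0,67),(1,65),(1,63),(0,62),(1,60),(0,59),(0,58),(0,57),(1,55),(1,53),(1,51),(0,50),(2,49),(0,55),(0,54),(0,53),(0,52),(0,51),(0,50),(0,56),(0,55),(1,57),(0,56),(1,54),(0,53),(0,52),(0,59),(1,57),(0,56),(1,54),(1,60),(0,59),(0,58),(0,57),(0,62),(1,60),(0,59),(0,63),(0,74),(0,73),(0,72),(0,75),(0,74),(0,76),(1,77),(1,75),(1,73),(1,71),(0,70),(0,69),(0,68),(0,67),(0,66),(1,64),(1,62),(0,61),(0,60),(1,58),(1,56),(0,55),(1,53),(1,51),(1,49),(2,48),(2,47),(0,47),(2,46),(1,49),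(0,48),(0,47),(0,46),(2,45),(0,52),(0,51),(0,50),(1,53),(0,52),(0,51),(1,49),(0,48),(0,47),(0,46),(0,45),(2,44),(0,56),(0,55),(0,54),(0,53),(0,52),(0,51),(0,50),(0,57),(0,56),(0,55),(0,69),(0,68),(0,67),(0,66),(0,70),(0,69),(1,71),(0,70),(1,68),(0,67),(1,65),(0,64),(0,63),(1,61),(0,60),(1,58),(0,57),(0,56),(1,54),(0,53),(0,52),(0,51),(1,49),(0,48),(0,47),(0,46),(0,45),(0,44),(2,43),(0,44),(0,43),(2,42),(2,41),(2,40),(2,39),(2,38),(2,37),(2,36),(2,35),(0,42),(0,41),(0,40),(0,43),(0,46),(1,44),(1,42),(0,41),(1,39),(0,38),(0,37),(0,36),(0,39),(0,38),(1,46),(0,45),(0,44),(1,42),(0,41),(0,40),(0,45),(0,48),(1,46),(1,44),(0,43),(0,42),(0,49),(0,48),(0,47),(0,50),(0,56),(0,55),(0,54),(0,53),(1,51),(1,49),(0,48),(1,46),(0,45),(0,44),(0,43),(1,41),(1,39),(1,37),(1,35),(2,34),(2,33),(0,33),(2,32),(0,33),(0,32),(2,31),(0,33),(0,32),(0,31),(2,30),(0,43),(0,42),(0,41),(0,40),(0,39),(0,44),(0,43),(0,54)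,(0,53),(0,52),(0,51),(1,49),(0,48),(0,47),(1,45),(0,44),(1,42),(0,41),(0,40),(1,38),(0,37),(0,36),(0,35),(0,34),(0,33),(0,32),(0,31),(0,30),(2,29),(0,33),(0,32),(0,34),(0,35),(1,33),(1,31),(0,30),(0,29),(2,28),(2,27),(2,26),(2,25),(0,25),(2,24),(0,26),(0,25),(0,24),(2,23),(0,25),(0,24),(0,23),(2,22),(2,21),(0,21),(2,20),(1,20),(2,19),(2,18),(0,18),(2,17),(0,17),(2,16),(0,19),(0,18),(0,17),(0,16),(2,15),(0,15),(2,14),(0,16),(0,15),(0,17),(1,18),(1,16),(1,14),(2,13),(2,12),(0,12),(2,11),(0,12),(0,11),(2,10),(0,12),(0,11),(0,10),(2,9),(0,11),(0,10),(0,9),(2,8),(1,10),(0,9),(0,8),(2,7),(2,6),(2,5),(2,4),(0,4),(2,3),(0,3),(2,2),(0,2),(2,1),(2,0)]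

/-- A list of moves. -/
def cert_A2sq : List (ℕ × ℕ) := [(0,68),(0,67),(0,66),(0,83),(0,82),(0,81),(0,80),(0,79),(1,77),(0,76),(0,75),(0,74),(0,73),(1,71),(0,70),(0,69),(0,68),(0,84),(0,83),(0,82),(0,81),(1,79),(0,78),(0,84),(0,83),(0,82),(0,85),(0,84),(0,86),(1,87),(1,85),(1,83),(1,81),(0,80),(0,79),(1,77),(0,76),(0,75),(1,73),(0,72),(0,71),(0,70),(0,83),(0,89),(0,88),(0,87),(0,86),(1,84),(1,82),(0,81),(0,80),(0,97),(0,96),(0,95),(0,94),(0,93),(1,91),(0,90),(0,89),(0,88),(0,87),(0,98),(0,97),(0,96),(0,95),(1,93),(0,92),(0,91),(0,90),(0,103),(0,102),(0,101),(1,99),(0,98),(0,97),(1,95),(0,94),(0,93),(0,118),(0,117),(0,116),(0,115),(0,114),(1,112),(0,111),(0,110),(0,109),(0,108),(1,106),(0,105),(0,104),(0,103),(1,101),(0,100),(0,99),(1,97),(0,96),(0,95),(0,94),(1,92),(0,91),(1,89),(0,88),(1,86),(0,85),(0,84),(1,82),(0,81),(1,79),(0,78),(0,77),(1,75),(0,74),(0,73),(0,72),(0,88),(0,87),(0,86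),(0,89),(0,105),(0,104),(0,103),(0,102),(0,101),(0,100),(0,99),(0,98),(0,97),(1,95),(0,94),(0,93),(0,92),(1,90),(1,88),(0,87),(1,85),(0,84),(0,83),(0,82),(0,101),(0,100),(0,99),(0,102),(0,101),(0,103),(1,104),(1,102),(1,100),(1,98),(0,97),(0,96),(0,95),(0,94),(0,93),(0,106),(0,105),(0,104),(0,103),(0,107),(0,106),(1,108),(0,107),(1,105),(0,104),(1,102),(0,101),(0,100),(1,98),(0,97),(0,101),(0,111),(0,110),(0,109),(0,108),(0,119),(0,118),(0,117),(0,116),(1,114),(0,113),(0,112),(0,124),(0,123),(0,122),(1,120),(0,119),(0,118),(1,116),(0,115),(0,114),(0,113),(1,111),(0,110),(0,109),(1,107),(0,106),(0,105),(0,104),(1,102),(1,100),(0,99),(0,98),(1,96),(0,95),(0,94),(1,92),(0,91),(0,90),(1,88),(0,87),(1,85),(0,84),(0,83),(1,81),(0,80),(0,79),(1,77),(0,76),(0,75),(0,74),(0,73),(1,71),(1,69),(1,67),(1,65),(0,64),(0,63),(2,62),(0,69),(0,86),(0,85),(0,87),(0,107),(0,106),(0,105),(0,108),(0,107),(0,1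09),(0,118),(0,117),(0,116),(0,119),(0,118),(0,120),(1,121),(1,119),(1,117),(1,115),(0,114),(0,113),(0,112),(1,110),(1,108),(1,106),(1,104),(0,103),(0,102),(0,101),(0,100),(0,99),(0,98),(0,97),(0,96),(0,95),(1,93),(0,92),(0,91),(0,90),(1,88),(1,86),(1,84),(0,83),(0,82),(0,81),(0,80),(1,78),(0,77),(0,76),(1,74),(0,73),(0,72),(1,70),(1,68),(0,67),(0,66),(0,65),(0,64),(0,63),(0,62),(2,61),(0,66),(0,68),(0,95),(0,94),(0,93),(0,92),(0,91),(0,90),(1,96),(0,95),(0,94),(0,93),(0,92),(0,98),(1,96),(0,95),(0,94),(0,99),(1,100),(1,98),(0,97),(0,96),(0,95),(1,93),(1,91),(1,89),(0,88),(0,87),(0,86),(0,85),(0,84),(0,83),(1,81),(0,80),(0,79),(0,89),(0,88),(0,91),(0,102),(0,101),(0,100),(0,99),(1,97),(0,96),(0,104),(0,106),(0,105),(1,103),(0,102),(0,101),(1,99),(0,98),(0,97),(1,95),(0,94),(0,93),(0,92),(1,90),(0,89),(1,87),(0,86),(0,85),(1,83),(0,82),(0,81),(0,86),(0,94),(0,93),(0,102),(0,108),(0,107),(0,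106),(0,105),(1,103),(1,101),(0,100),(0,99),(0,98),(0,97),(1,95),(0,94),(1,92),(0,91),(0,90),(0,89),(1,87),(1,85),(0,84),(0,83),(0,90),(0,89),(0,88),(0,91),(0,111),(0,110),(0,109),(0,108),(0,107),(0,106),(0,105),(0,104),(0,112),(0,113),(1,111),(0,110),(0,109),(0,108),(0,107),(0,115),(0,114),(0,113),(1,111),(0,110),(0,109),(0,117),(0,116),(0,119),(0,118),(0,117),(1,115),(0,114),(0,113),(1,111),(0,110),(1,108),(1,106),(0,105),(1,103),(0,102),(0,101),(0,100),(0,99),(0,98),(0,97),(1,95),(0,94),(1,92),(1,90),(0,89),(1,87),(0,86),(0,85),(0,84),(1,82),(1,80),(1,78),(0,77),(0,76),(0,75),(0,74),(1,72),(0,71),(0,70),(0,69),(1,67),(1,65),(0,64),(0,63),(0,62),(0,61),(2,60),(0,63),(0,65),(0,75),(0,74),(0,73),(0,76),(0,75),(0,78),(0,77),(0,80),(0,79),(0,97),(0,96),(0,95),(0,94),(0,93),(0,92),(0,91),(0,90),(0,89),(0,88),(1,98),(0,97),(0,96),(0,95),(0,94),(0,93),(0,92),(0,100),(1,98),(0,97),(0,96),(0,95),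(0,101),(0,100),(1,98),(0,97),(0,103),(0,102),(0,101),(0,104),(0,103),(0,106),(0,105),(0,113),(0,112),(0,111),(1,109),(0,108),(0,107),(0,106),(1,104),(1,102),(1,100),(0,99),(0,98),(1,96),(1,94),(0,93),(1,91),(0,90),(0,89),(1,87),(0,86),(0,85),(0,84),(0,83),(0,82),(0,81),(0,80),(1,78),(1,76),(1,74),(1,72),(0,71),(0,70),(0,69),(0,68),(0,67),(0,66),(1,64),(1,62),(0,61),(0,60),(2,59),(0,81),(0,80),(0,82),(1,83),(1,81),(1,79),(0,78),(0,77),(0,76),(0,75),(0,74),(0,73),(0,72),(0,71),(1,69),(0,68),(0,67),(0,66),(0,65),(0,79),(0,78),(0,77),(0,76),(0,81),(0,80),(0,79),(0,83),(0,82),(0,85),(0,84),(0,83),(1,81),(0,80),(1,78),(0,77),(1,75),(0,74),(0,73),(1,71),(0,70),(0,69),(0,68),(0,74),(0,87),(0,88),(1,86),(0,85),(0,84),(0,83),(0,82),(0,81),(0,91),(0,90),(0,89),(0,88),(1,86),(0,85),(0,90),(0,89),(0,92),(0,91),(0,94),(0,93),(0,92),(1,90),(1,88),(0,87),(0,86),(1,84),(0,83),(0,82),(1,80),(0,79),(0,78),(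0,77),(1,75),(1,73),(0,72),(0,71),(0,78),(0,77),(0,76),(0,79),(0,96),(0,95),(0,94),(0,93),(0,92),(0,91),(0,90),(0,89),(1,87),(1,97),(0,96),(0,95),(0,94),(0,100),(0,99),(1,97),(0,96),(0,95),(1,93),(0,92),(0,91),(1,89),(0,88),(1,86),(0,85),(0,84),(0,83),(0,82),(1,80),(1,78),(0,77),(1,75),(0,74),(0,73),(0,72),(1,70),(0,69),(1,67),(0,66),(1,64),(0,63),(0,62),(1,60),(0,59),(2,58),(0,70),(0,69),(0,68),(0,67),(0,66),(0,65),(0,71),(0,70),(0,69),(1,72),(0,71),(0,70),(1,68),(0,67),(0,66),(1,64),(0,63),(0,62),(0,61),(0,60),(1,58),(2,57),(2,56),(0,58),(0,77),(0,76),(0,75),(0,74),(0,73),(0,72),(0,78),(0,77),(0,76),(0,79),(0,86),(0,96),(0,95),(0,94),(0,93),(1,91),(0,90),(0,89),(1,87),(1,85),(0,84),(0,83),(0,82),(1,80),(1,78),(0,77),(1,75),(0,74),(0,73),(1,71),(0,70),(0,69),(1,67),(0,66),(0,65),(1,63),(0,62),(0,61),(1,59),(1,57),(0,56),(2,55),(0,65),(0,64),(0,63),(0,66),(0,65),(0,67),(0,75),(0,74),(0,76)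,(0,99),(0,98),(0,97),(0,96),(0,95),(0,94),(0,93),(0,92),(0,91),(1,89),(0,88),(0,87),(0,100),(0,99),(0,98),(1,101),(0,100),(0,99),(1,97),(0,96),(0,95),(0,94),(0,93),(1,91),(0,90),(0,89),(0,103),(1,101),(0,100),(0,99),(1,97),(0,96),(0,95),(1,93),(0,92),(0,91),(0,105),(0,104),(0,106),(1,107),(1,105),(1,103),(0,102),(0,101),(0,100),(0,99),(1,97),(1,95),(0,94),(0,93),(0,92),(1,90),(1,88),(1,86),(0,85),(0,84),(0,83),(0,82),(0,81),(0,80),(0,79),(1,77),(1,75),(1,73),(0,72),(0,71),(0,70),(1,68),(1,66),(1,64),(1,62),(0,61),(0,60),(0,59),(0,58),(0,57),(0,56),(0,55),(2,54),(0,60),(0,59),(0,58),(0,62),(0,61),(0,60),(0,64),(0,63),(0,62),(0,66),(0,65),(0,64),(1,80),(0,79),(0,78),(0,77),(0,76),(0,75),(0,74),(0,82),(1,80),(0,79),(0,78),(0,77),(0,83),(0,82),(1,80),(0,84),(0,83),(0,86),(0,85),(0,88),(0,87),(0,99),(0,98),(0,97),(0,96),(0,100),(0,99),(0,101),(0,103),(0,105),(0,104),(1,102),(1,100),(1,98),(0,9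7),(1,95),(0,94),(0,93),(0,92),(0,91),(0,90),(0,89),(0,88),(1,86),(1,84),(1,82),(0,81),(1,79),(0,78),(1,76),(0,75),(1,73),(0,72),(0,71),(0,70),(0,69),(0,68),(0,67),(0,66),(0,65),(1,63),(1,61),(1,59),(1,57),(0,56),(0,55),(0,54),(2,53),(0,55),(0,57),(0,69),(0,68),(0,70),(0,69),(1,67),(0,66),(0,65),(0,64),(0,63),(0,62),(0,73),(0,72),(0,71),(0,76),(0,75),(0,74),(0,73),(0,89),(0,88),(0,90),(1,91),(1,89),(1,87),(0,86),(0,85),(0,84),(0,83),(0,82),(0,81),(0,80),(0,79),(0,78),(0,77),(0,76),(0,75),(0,74),(1,72),(1,70),(0,69),(1,67),(0,66),(0,65),(0,74),(0,73),(0,72),(0,71),(0,70),(0,76),(0,75),(0,74),(0,78),(0,77),(0,87),(0,86),(0,85),(0,84),(0,89),(0,88),(0,87),(0,91),(0,90),(0,93),(0,92),(0,91),(1,89),(0,88),(1,86),(0,85),(1,83),(0,82),(0,81),(0,80),(0,79),(0,78),(1,76),(0,75),(1,73),(0,72),(1,81),(0,80),(0,79),(0,78),(0,77),(0,76),(0,85),(0,84),(0,83),(1,81),(0,80),(0,84),(0,86),(0,95),(0,94),(0,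93),(0,92),(0,96),(0,98),(0,97),(1,95),(0,94),(0,93),(1,91),(0,90),(0,89),(0,88),(0,87),(1,85),(1,83),(0,82),(0,81),(1,79),(0,78),(0,77),(1,75),(0,74),(0,73),(1,71),(1,69),(0,68),(0,67),(0,66),(1,64),(0,63),(1,61),(0,60),(0,59),(0,58),(1,56),(1,54),(0,53),(2,52),(0,58),(0,57),(0,71),(0,70),(0,69),(0,68),(1,66),(0,65),(1,72),(0,71),(0,70),(1,68),(0,67),(0,66),(1,64),(0,63),(0,62),(0,61),(1,59),(0,58),(1,56),(0,55),(0,54),(1,52),(2,51),(2,50),(0,58),(0,57),(0,56),(0,55),(0,59),(0,67),(0,83),(0,82),(0,81),(0,80),(0,79),(0,78),(1,76),(0,84),(0,83),(0,94),(0,93),(0,92),(0,91),(1,89),(0,88),(0,87),(1,85),(0,84),(1,82),(0,81),(0,80),(1,78),(0,77),(1,75),(0,74),(0,73),(0,72),(0,71),(0,70),(1,68),(1,66),(0,65),(0,64),(0,63),(0,62),(1,60),(1,58),(0,57),(0,56),(1,54),(0,53),(0,52),(0,51),(0,50),(2,49),(0,50),(0,70),(0,69),(0,68),(0,67),(0,66),(0,65),(0,64),(1,62),(0,71),(0,72),(1,70),(0,69),(0,68),(0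,67),(0,66),(1,64),(0,63),(1,61),(0,60),(0,59),(0,58),(0,57),(1,55),(0,54),(0,53),(1,51),(1,49),(2,48),(1,61),(0,60),(0,59),(0,58),(0,57),(0,56),(0,55),(0,63),(1,61),(0,60),(0,59),(0,58),(0,57),(0,64),(0,63),(1,61),(0,60),(0,59),(0,65),(0,64),(0,63),(1,61),(0,66),(0,65),(0,64),(0,67),(0,66),(0,68),(0,84),(0,83),(0,82),(0,85),(0,84),(0,86),(0,92),(1,93),(1,91),(0,90),(0,89),(1,87),(1,85),(1,83),(1,81),(0,80),(0,79),(0,78),(0,77),(0,76),(0,75),(0,74),(0,73),(0,72),(0,71),(1,69),(1,67),(1,65),(1,63),(0,62),(1,60),(1,58),(1,56),(1,54),(0,53),(0,52),(0,51),(0,50),(0,49),(0,48),(2,47),(0,52),(0,51),(0,50),(0,54),(0,53),(0,52),(0,56),(0,55),(0,54),(0,58),(0,57),(0,56),(1,72),(0,71),(0,70),(0,69),(0,68),(0,67),(0,66),(0,65),(0,64),(0,74),(1,72),(0,71),(0,70),(0,69),(0,68),(0,67),(0,76),(0,75),(0,74),(1,72),(0,71),(0,70),(0,76),(0,75),(0,77),(0,87),(0,86),(0,85),(0,84),(0,83),(0,82),(0,81),(0,80),(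1,78),(1,76),(1,74),(0,73),(0,80),(0,79),(0,78),(0,77),(0,82),(0,81),(0,80),(0,84),(0,83),(1,88),(0,87),(0,86),(0,85),(0,84),(1,82),(0,81),(1,79),(0,78),(1,76),(0,75),(0,74),(1,72),(0,71),(1,69),(0,68),(1,66),(0,65),(1,63),(0,62),(0,61),(0,60),(0,59),(0,58),(0,57),(1,55),(1,53),(1,51),(1,49),(0,48),(0,47),(2,46),(0,47),(0,49),(1,59),(0,58),(0,57),(0,56),(0,55),(0,54),(0,63),(0,62),(0,61),(1,59),(0,58),(0,57),(0,62),(0,64),(0,72),(0,71),(0,70),(1,73),(0,72),(0,71),(1,69),(0,68),(0,67),(0,66),(0,65),(1,63),(1,61),(0,60),(0,59),(0,58),(1,56),(0,55),(1,53),(0,52),(0,51),(0,50),(1,48),(1,46),(2,45),(2,44),(0,48),(0,47),(0,63),(0,62),(0,61),(0,60),(0,59),(0,58),(1,56),(0,55),(0,64),(0,63),(0,72),(0,73),(1,71),(0,70),(0,69),(0,68),(0,67),(1,65),(0,64),(1,62),(0,61),(0,60),(1,58),(0,57),(0,56),(1,54),(0,53),(0,52),(0,51),(1,49),(0,48),(1,46),(0,45),(0,44),(2,43),(0,50),(0,49),(0,48),(0,47),(0,51),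(0,59),(0,73),(0,72),(0,74),(0,73),(1,71),(0,70),(0,69),(0,68),(0,67),(0,66),(0,65),(1,63),(0,62),(1,60),(1,58),(0,57),(0,56),(0,55),(0,54),(1,52),(1,50),(0,49),(0,48),(1,46),(0,45),(0,44),(0,43),(2,42),(0,42),(2,41),(0,51),(0,50),(0,49),(0,48),(0,47),(0,46),(1,52),(0,51),(0,50),(0,49),(0,48),(0,54),(1,52),(0,51),(0,50),(0,55),(0,54),(1,52),(0,56),(0,55),(0,57),(0,72),(0,71),(0,73),(0,78),(1,76),(1,74),(1,72),(1,70),(0,69),(0,68),(0,67),(0,66),(1,64),(0,63),(0,62),(0,61),(0,60),(1,58),(1,56),(1,54),(0,53),(1,51),(1,49),(1,47),(1,45),(0,44),(0,43),(0,42),(0,41),(2,40),(0,43),(0,42),(0,41),(0,45),(0,44),(0,43),(0,47),(0,46),(0,45),(0,49),(0,48),(0,47),(0,58),(0,57),(0,56),(0,55),(0,59),(0,58),(0,68),(0,67),(0,66),(1,64),(0,63),(0,62),(1,60),(0,59),(1,57),(0,56),(1,54),(0,53),(0,52),(0,51),(0,50),(0,49),(0,48),(1,46),(1,44),(1,42),(1,40),(2,39),(2,38),(0,38),(2,37),(0,38),(0,37),(2,36),(0,38)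,(0,37),(0,36),(2,35),(1,42),(0,41),(0,40),(0,39),(0,38),(0,46),(0,45),(0,44),(1,42),(0,41),(0,40),(0,45),(0,47),(0,60),(0,59),(0,58),(1,56),(0,55),(0,54),(1,52),(0,51),(0,50),(0,49),(0,48),(1,46),(1,44),(0,43),(0,42),(0,41),(1,39),(1,37),(0,36),(0,35),(2,34),(0,39),(0,38),(0,37),(0,36),(0,35),(0,40),(0,39),(0,38),(0,37),(1,41),(0,40),(0,39),(0,43),(1,41),(0,44),(0,58),(0,57),(0,56),(0,55),(1,53),(0,52),(0,51),(1,49),(0,48),(0,47),(1,45),(1,43),(0,42),(1,40),(1,38),(1,36),(1,34),(2,33),(2,32),(0,32),(2,31),(0,32),(0,31),(2,30),(1,34),(0,33),(0,32),(0,31),(0,30),(2,29),(0,37),(0,36),(0,35),(0,49),(0,48),(0,47),(1,45),(0,44),(0,43),(1,41),(0,40),(1,38),(0,37),(0,36),(1,34),(0,33),(0,32),(0,31),(0,30),(0,29),(2,28),(0,30),(0,29),(0,28),(2,27),(2,26),(2,25),(2,24),(2,23),(2,22),(2,21),(2,20),(0,26),(0,25),(0,24),(0,27),(0,26),(0,28),(0,34),(0,37),(1,35),(1,33),(0,32),(0,31),(1,29),(1,27),(1,25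),(1,23),(0,22),(0,21),(0,20),(2,19),(0,21),(0,20),(0,23),(0,22),(0,25),(0,24),(0,31),(1,29),(0,28),(0,27),(0,26),(0,25),(1,23),(1,21),(1,19),(2,18),(2,17),(0,17),(2,16),(0,17),(0,16),(2,15),(1,27),(0,26),(0,25),(1,23),(0,22),(0,21),(0,20),(0,19),(0,18),(0,17),(0,16),(0,15),(2,14),(0,19),(0,18),(0,17),(0,24),(0,23),(0,22),(1,20),(0,19),(0,18),(1,16),(0,15),(0,14),(2,13),(0,16),(0,15),(0,14),(0,17),(0,16),(0,18),(0,22),(0,21),(1,19),(1,17),(1,15),(1,13),(2,12),(2,11),(0,11),(2,10),(0,11),(0,10),(2,9),(0,15),(1,13),(0,12),(0,11),(0,10),(0,9),(2,8),(1,13),(0,12),(0,11),(0,10),(0,9),(0,8),(2,7),(0,9),(0,8),(0,7),(2,6),(2,5),(2,4),(2,3),(2,2),(2,1),(2,0)]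

/-- A list of moves. -/
def cert_A2c1 : List (ℕ × ℕ) := [(0,100),(0,99),(0,98),(0,97),(0,96),(1,94),(0,93),(0,92),(0,91),(0,90),(1,88),(0,87),(0,86),(0,85),(0,84),(1,82),(0,81),(0,80),(0,86),(0,85),(0,101),(0,100),(0,99),(0,98),(1,96),(0,95),(0,94),(0,93),(0,92),(1,90),(0,89),(0,88),(0,87),(0,102),(0,101),(0,100),(1,98),(0,97),(0,96),(0,102),(0,101),(0,103),(1,104),(1,102),(1,100),(0,99),(0,98),(0,97),(1,95),(0,94),(1,92),(0,91),(0,90),(0,89),(0,102),(0,106),(0,105),(1,103),(1,101),(0,100),(0,99),(0,98),(0,121),(0,120),(0,119),(0,118),(0,117),(1,115),(0,114),(0,113),(0,112),(0,111),(1,109),(0,108),(0,107),(0,106),(0,122),(0,121),(0,120),(0,119),(1,117),(0,116),(0,115),(0,114),(0,113),(1,111),(0,110),(0,109),(0,123),(0,122),(0,121),(1,119),(0,118),(0,117),(0,123),(0,122),(0,124),(1,125),(1,123),(1,121),(0,120),(0,119),(0,118),(1,116),(0,115),(1,113),(0,112),(0,111),(0,110),(1,108),(0,107)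,(1,105),(0,104),(0,103),(1,101),(0,100),(0,99),(1,97),(0,96),(1,94),(0,93),(0,92),(0,91),(0,90),(1,88),(1,86),(1,84),(0,83),(0,82),(0,81),(1,79),(0,78),(1,76),(0,75),(0,74),(0,73),(0,72),(1,70),(0,69),(0,68),(0,67),(0,66),(0,65),(2,64),(2,63),(2,62),(2,61),(2,60),(2,59),(2,58),(2,57),(2,56),(2,55),(2,54),(2,53),(2,52),(2,51),(2,50),(2,49),(0,49),(2,48),(0,48),(2,47),(1,47),(2,46),(2,45),(0,46),(0,45),(2,44),(0,46),(0,45),(0,44),(2,43),(0,43),(2,42),(0,44),(0,43),(0,42),(2,41),(0,43),(0,42),(0,44),(1,45),(1,43),(1,41),(2,40),(2,39),(0,39),(2,38),(0,39),(0,38),(2,37),(0,39),(0,38),(0,37),(2,36),(1,38),(0,37),(0,36),(2,35),(0,39),(0,38),(0,37),(0,36),(0,40),(0,39),(0,38),(0,41),(0,40),(1,42),(1,44),(0,43),(1,41),(1,39),(1,37),(1,35),(2,34),(2,33),(0,33),(2,32),(0,33),(0,32),(2,31),(1,35),(0,34),(0,33),(0,32),(0,31),(2,30),(0,37),(0,36),(0,38),(0,37),(1,35),(0,34),(0,33),(0,32),(0,31),(0,30),(2,29),(0,31),(0,30),(0,29),(2,28),(2,27),(2,26),(2,25),(2,24),(2,23),(2,22),(2,21),(0,22),(0,21),(2,20),(0,21),(1,22),(1,20),(2,19),(2,18),(0,18),(2,17),(0,18),(0,17),(2,16),(0,17),(0,16),(2,15),(0,16),(0,15),(2,14),(0,16),(0,15),(0,17),(1,18),(1,16),(1,14),(2,13),(2,12),(0,12),(2,11),(0,12),(0,11),(2,10),(0,13),(0,12),(0,11),(0,10),(2,9),(0,13),(0,12),(0,11),(0,10),(0,9),(2,8),(0,10),(0,9),(0,8),(2,7),(2,6),(2,5),(2,4),(2,3),(2,2),(2,0)]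

/-- A list of moves. -/
def cert_A2c2 : List (ℕ × ℕ) := [(0,93),(0,92),(0,91),(0,90),(0,89),(1,87),(0,86),(0,85),(0,84),(0,83),(1,81),(0,80),(0,79),(0,78),(0,77),(1,75),(0,74),(0,73),(0,79),(0,78),(0,94),(0,93),(0,92),(0,91),(1,89),(0,88),(0,87),(0,86),(0,85),(1,83),(0,82),(0,81),(0,80),(0,95),(0,94),(0,93),(1,91),(0,90),(0,89),(0,95),(0,94),(0,96),(1,97),(1,95),(1,93),(0,92),(0,91),(0,90),(1,88),(0,87),(1,85),(0,84),(0,83),(0,82),(0,95),(0,99),(0,98),(1,96),(1,94),(0,93),(0,92),(0,91),(0,114),(0,113),(0,112),(0,111),(0,110),(1,108),(0,107),(0,106),(0,105),(0,104),(1,102),(0,101),(0,100),(0,99),(0,115),(0,114),(0,113),(0,112),(1,110),(0,109),(0,108),(0,107),(0,106),(1,104),(0,103),(0,102),(0,116),(0,115),(0,114),(1,112),(0,111),(0,110),(0,116),(0,115),(0,117),(1,118),(1,116),(1,114),(0,113),(0,112),(0,111),(1,109),(0,108),(1,106),(0,105),(0,104),(0,103),(1,101),(0,100),(1,98),(0,97),(0,9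6),(1,94),(0,93),(0,92),(1,90),(0,89),(1,87),(0,86),(0,85),(0,84),(0,83),(1,81),(1,79),(1,77),(0,76),(0,75),(0,74),(1,72),(0,71),(1,69),(0,68),(0,67),(0,66),(0,65),(2,64),(2,63),(2,62),(2,61),(2,60),(2,59),(2,58),(2,57),(2,56),(0,56),(2,55),(0,55),(2,54),(1,54),(2,53),(2,52),(0,53),(0,52),(2,51),(0,53),(0,52),(0,51),(2,50),(0,50),(2,49),(0,51),(0,50),(0,49),(2,48),(0,50),(0,49),(0,51),(1,52),(1,50),(1,48),(2,47),(2,46),(0,46),(2,45),(0,46),(0,45),(2,44),(0,46),(0,45),(0,44),(2,43),(1,45),(0,44),(0,43),(2,42),(0,46),(0,45),(0,44),(0,43),(0,47),(0,46),(0,45),(0,48),(0,47),(1,49),(1,51),(0,50),(1,48),(1,46),(1,44),(1,42),(2,41),(2,40),(0,40),(2,39),(0,40),(0,39),(2,38),(1,42),(0,41),(0,40),(0,39),(0,38),(2,37),(0,44),(0,43),(0,45),(0,44),(1,42),(0,41),(0,40),(0,39),(0,38),(0,37),(2,36),(0,38),(0,37),(0,36),(2,35),(2,34),(2,33),(2,32),(2,31),(2,30),(2,29),(2,28),(0,29),(0,28),(2,27),(0,28),(1,29),(1,27),(2,26),(2,25),(0,25),(2,24),(0,25),(0,24),(2,23),(0,24),(0,23),(2,22),(0,23),(0,22),(2,21),(0,23),(0,22),(0,24),(1,25),(1,23),(1,21),(2,20),(2,19),(0,19),(2,18),(0,19),(0,18),(2,17),(0,20),(0,19),(0,18),(0,17),(2,16),(0,20),(0,19),(0,18),(0,17),(0,16),(2,15),(0,17),(0,16),(0,15),(2,14),(2,13),(2,12),(2,11),(2,10),(2,9),(0,8),(2,7),(0,7),(2,6),(0,6),(2,5),(0,5),(2,4),(0,4),(2,3),(1,3),(2,2),(2,1),(2,0)]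

/-- A list of moves. -/
def cert_A2c3 : List (ℕ × ℕ) := [(0,86),(0,85),(0,84),(0,83),(0,82),(1,80),(0,79),(0,78),(0,77),(0,76),(1,74),(0,73),(0,72),(0,71),(0,70),(1,68),(0,67),(0,66),(0,72),(0,71),(0,87),(0,86),(0,85),(0,84),(1,82),(0,81),(0,80),(0,79),(0,78),(1,76),(0,75),(0,74),(0,73),(0,88),(0,87),(0,86),(1,84),(0,83),(0,82),(0,88),(0,87),(0,89),(1,90),(1,88),(1,86),(0,85),(0,84),(0,83),(1,81),(0,80),(1,78),(0,77),(0,76),(0,75),(0,88),(0,92),(0,91),(1,89),(1,87),(0,86),(0,85),(0,84),(0,107),(0,106),(0,105),(0,104),(0,103),(1,101),(0,100),(0,99),(0,98),(0,97),(1,95),(0,94),(0,93),(0,92),(0,108),(0,107),(0,106),(0,105),(1,103),(0,102),(0,101),(0,100),(0,99),(1,97),(0,96),(0,95),(0,109),(0,108),(0,107),(1,105),(0,104),(0,103),(0,109),(0,108),(0,110),(1,111),(1,109),(1,107),(0,106),(0,105),(0,104),(1,102),(0,101),(1,99),(0,98),(0,97),(0,96),(1,94),(0,93),(1,91),(0,90),(0,89),(1,87),(0,86)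,(0,85),(1,83),(0,82),(1,80),(0,79),(0,78),(0,77),(0,76),(1,74),(1,72),(1,70),(0,69),(0,68),(0,67),(1,65),(2,64),(2,63),(0,63),(2,62),(0,62),(2,61),(1,61),(2,60),(2,59),(0,60),(0,59),(2,58),(0,60),(0,59),(0,58),(2,57),(0,57),(2,56),(0,58),(0,57),(0,56),(2,55),(0,57),(0,56),(0,58),(1,59),(1,57),(1,55),(2,54),(2,53),(0,53),(2,52),(0,53),(0,52),(2,51),(0,53),(0,52),(0,51),(2,50),(1,52),(0,51),(0,50),(2,49),(0,53),(0,52),(0,51),(0,50),(0,54),(0,53),(0,52),(0,55),(0,54),(1,56),(1,58),(0,57),(1,55),(1,53),(1,51),(1,49),(2,48),(2,47),(0,47),(2,46),(0,47),(0,46),(2,45),(1,49),(0,48),(0,47),(0,46),(0,45),(2,44),(0,51),(0,50),(0,52),(0,51),(1,49),(0,48),(0,47),(0,46),(0,45),(0,44),(2,43),(0,45),(0,44),(0,43),(2,42),(2,41),(2,40),(2,39),(2,38),(2,37),(2,36),(2,35),(0,36),(0,35),(2,34),(0,35),(1,36),(1,34),(2,33),(2,32),(0,32),(2,31),(0,32),(0,31),(2,30),(0,31),(0,30),(2,29),(0,30),(0,29),(2,28),(0,30),(0,29),(0,31),(1,32),(1,30),(1,28),(2,27),(2,26),(0,26),(2,25),(0,26),(0,25),(2,24),(0,27),(0,26),(0,25),(0,24),(2,23),(0,27),(0,26),(0,25),(0,24),(0,23),(2,22),(0,24),(0,23),(0,22),(2,21),(2,20),(2,19),(2,18),(2,17),(2,16),(0,15),(2,14),(0,14),(2,13),(0,13),(2,12),(0,12),(2,11),(0,11),(2,10),(1,10),(2,9),(2,8),(0,8),(2,7),(0,7),(2,6),(0,6),(2,5),(0,5),(2,4),(1,4),(2,3),(2,2),(0,2),(2,1),(2,0)]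

/-- A list of moves. -/
def cert_A2c4 : List (ℕ × ℕ) := [(0,79),(0,78),(0,77),(0,76),(0,75),(1,73),(0,72),(0,71),(0,70),(0,69),(1,67),(0,66),(0,65),(2,64),(2,63),(2,62),(2,61),(2,60),(2,59),(2,58),(2,57),(2,56),(2,55),(2,54),(2,53),(2,52),(2,51),(2,50),(2,49),(0,54),(0,53),(0,52),(0,51),(0,50),(1,48),(2,47),(0,53),(0,52),(0,51),(0,50),(1,48),(0,47),(2,46),(0,52),(0,51),(0,50),(1,48),(0,47),(0,46),(2,45),(0,54),(0,53),(1,51),(0,50),(1,48),(0,47),(0,46),(0,45),(2,44),(0,74),(0,73),(0,72),(0,71),(0,70),(1,68),(0,67),(0,66),(0,65),(0,64),(1,62),(0,61),(0,60),(0,59),(0,58),(1,56),(0,55),(0,54),(0,53),(1,51),(0,50),(1,48),(0,47),(0,46),(0,45),(0,44),(2,43),(0,48),(0,47),(0,49),(1,50),(1,48),(1,46),(0,45),(0,44),(0,43),(2,42),(2,41),(2,40),(2,39),(2,38),(0,38),(2,37),(0,38),(0,37),(2,36),(2,35),(0,36),(0,35),(2,34),(0,35),(0,34),(2,33),(0,34),(1,35),(1,33),(2,32),(2,31),(0,31),(2,30),(0,31),(0,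30),(2,29),(0,45),(0,44),(0,43),(0,42),(1,40),(0,39),(0,38),(0,37),(0,36),(1,34),(0,33),(0,32),(1,30),(0,29),(2,28),(0,30),(0,29),(0,28),(2,27),(0,29),(0,28),(0,30),(0,34),(0,33),(1,31),(1,29),(1,27),(2,26),(2,25),(0,25),(2,24),(0,36),(0,35),(0,34),(1,32),(0,31),(0,30),(0,29),(1,27),(0,26),(0,25),(0,24),(2,23),(0,38),(0,37),(1,35),(0,34),(1,32),(0,31),(0,30),(0,29),(1,27),(0,26),(0,25),(0,24),(0,23),(2,22),(0,23),(0,22),(2,21),(0,25),(0,24),(0,23),(0,22),(0,26),(0,25),(0,24),(0,27),(0,26),(0,28),(1,29),(1,27),(1,25),(1,23),(1,21),(2,20),(2,19),(0,19),(2,18),(0,19),(0,18),(2,17),(0,19),(0,18),(0,17),(2,16),(0,19),(0,18),(0,17),(0,16),(2,15),(0,19),(1,20),(1,18),(0,17),(0,16),(0,15),(2,14),(2,13),(2,12),(2,11),(2,10),(0,10),(2,9),(0,10),(0,9),(2,8),(2,7),(0,7),(2,6),(0,6),(2,5),(1,5),(2,4),(2,3),(0,3),(2,2),(0,2),(2,1),(2,0)]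

/-- A list of moves. -/
def cert_A2c5 : List (ℕ × ℕ) := [(0,72),(0,71),(0,70),(0,69),(0,68),(1,66),(0,65),(2,64),(2,63),(2,62),(2,61),(2,60),(2,59),(2,58),(2,57),(2,56),(0,61),(0,60),(0,59),(0,58),(0,57),(1,55),(2,54),(0,60),(0,59),(0,58),(0,57),(1,55),(0,54),(2,53),(0,59),(0,58),(0,57),(1,55),(0,54),(0,53),(2,52),(0,61),(0,60),(1,58),(0,57),(1,55),(0,54),(0,53),(0,52),(2,51),(0,81),(0,80),(0,79),(0,78),(0,77),(1,75),(0,74),(0,73),(0,72),(0,71),(1,69),(0,68),(0,67),(0,66),(0,65),(1,63),(0,62),(0,61),(0,60),(1,58),(0,57),(1,55),(0,54),(0,53),(0,52),(0,51),(2,50),(0,55),(0,54),(0,56),(1,57),(1,55),(1,53),(0,52),(0,51),(0,50),(2,49),(2,48),(2,47),(2,46),(2,45),(0,45),(2,44),(0,45),(0,44),(2,43),(2,42),(0,43),(0,42),(2,41),(0,42),(0,41),(2,40),(0,41),(1,42),(1,40),(2,39),(2,38),(0,38),(2,37),(0,38),(0,37),(2,36),(0,52),(0,51),(0,50),(0,49),(1,47),(0,46),(0,45),(0,44),(0,43),(1,41),(0,40),(0,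39),(1,37),(0,36),(2,35),(0,37),(0,36),(0,35),(2,34),(0,36),(0,35),(0,37),(0,41),(0,40),(1,38),(1,36),(1,34),(2,33),(2,32),(0,32),(2,31),(0,43),(0,42),(0,41),(1,39),(0,38),(0,37),(0,36),(1,34),(0,33),(0,32),(0,31),(2,30),(0,45),(0,44),(1,42),(0,41),(1,39),(0,38),(0,37),(0,36),(1,34),(0,33),(0,32),(0,31),(0,30),(2,29),(0,30),(0,29),(2,28),(0,32),(0,31),(0,30),(0,29),(0,33),(0,32),(0,31),(0,34),(0,33),(0,35),(1,36),(1,34),(1,32),(1,30),(1,28),(2,27),(2,26),(0,26),(2,25),(0,26),(0,25),(2,24),(0,26),(0,25),(0,24),(2,23),(0,26),(0,25),(0,24),(0,23),(2,22),(0,26),(1,27),(1,25),(0,24),(0,23),(0,22),(2,21),(2,20),(2,19),(2,18),(2,17),(0,17),(2,16),(0,17),(0,16),(2,15),(2,14),(0,14),(2,13),(0,13),(2,12),(1,12),(2,11),(2,10),(0,10),(2,9),(0,9),(2,8),(0,8),(2,7),(0,7),(2,6),(1,6),(2,5),(2,4),(0,4),(2,3),(0,3),(2,2),(0,2),(2,1),(2,0)]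

/-- A list of moves. -/
def cert_A2c6 : List (ℕ × ℕ) := [(0,65),(2,64),(2,63),(0,68),(0,67),(0,66),(0,65),(0,64),(1,62),(2,61),(0,67),(0,66),(0,65),(0,64),(1,62),(0,61),(2,60),(0,66),(0,65),(0,64),(1,62),(0,61),(0,60),(2,59),(0,68),(0,67),(1,65),(0,64),(1,62),(0,61),(0,60),(0,59),(2,58),(0,88),(0,87),(0,86),(0,85),(0,84),(1,82),(0,81),(0,80),(0,79),(0,78),(1,76),(0,75),(0,74),(0,73),(0,72),(1,70),(0,69),(0,68),(0,67),(1,65),(0,64),(1,62),(0,61),(0,60),(0,59),(0,58),(2,57),(0,62),(0,61),(0,63),(1,64),(1,62),(1,60),(0,59),(0,58),(0,57),(2,56),(2,55),(2,54),(2,53),(2,52),(0,52),(2,51),(0,52),(0,51),(2,50),(2,49),(0,50),(0,49),(2,48),(0,49),(0,48),(2,47),(0,48),(1,49),(1,47),(2,46),(2,45),(0,45),(2,44),(0,45),(0,44),(2,43),(0,59),(0,58),(0,57),(0,56),(1,54),(0,53),(0,52),(0,51),(0,50),(1,48),(0,47),(0,46),(1,44),(0,43),(2,42),(0,44),(0,43),(0,42),(2,41),(0,43),(0,42),(0,44),(0,48),(0,47),(1,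45),(1,43),(1,41),(2,40),(2,39),(0,39),(2,38),(0,50),(0,49),(0,48),(1,46),(0,45),(0,44),(0,43),(1,41),(0,40),(0,39),(0,38),(2,37),(0,52),(0,51),(1,49),(0,48),(1,46),(0,45),(0,44),(0,43),(1,41),(0,40),(0,39),(0,38),(0,37),(2,36),(0,37),(0,36),(2,35),(0,39),(0,38),(0,37),(0,36),(0,40),(0,39),(0,38),(0,41),(0,40),(0,42),(1,43),(1,41),(1,39),(1,37),(1,35),(2,34),(2,33),(0,33),(2,32),(0,33),(0,32),(2,31),(0,33),(0,32),(0,31),(2,30),(0,33),(0,32),(0,31),(0,30),(2,29),(0,33),(1,34),(1,32),(0,31),(0,30),(0,29),(2,28),(2,27),(2,26),(2,25),(2,24),(0,24),(2,23),(0,24),(0,23),(2,22),(2,21),(0,21),(2,20),(0,20),(2,19),(1,19),(2,18),(2,17),(0,17),(2,16),(0,16),(2,15),(0,15),(2,14),(0,14),(2,13),(1,13),(2,12),(2,11),(0,11),(2,10),(0,10),(2,9),(0,9),(2,8),(0,8),(2,7),(1,7),(2,6),(2,5),(0,5),(2,4),(0,4),(2,3),(0,3),(2,2),(0,2),(2,1),(2,0)]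

/-- A list of moves. -/
def cert_A2c7 : List (ℕ × ℕ) := [(2,64),(0,63),(2,62),(0,62),(2,61),(0,61),(2,60),(0,63),(0,62),(1,60),(2,59),(0,83),(0,82),(0,81),(0,80),(0,79),(1,77),(0,76),(0,75),(0,74),(0,73),(1,71),(0,70),(0,69),(0,68),(0,67),(1,65),(0,64),(0,63),(0,62),(1,60),(0,59),(2,58),(0,82),(0,81),(0,80),(0,79),(1,77),(0,76),(0,75),(0,74),(0,73),(1,71),(0,70),(0,69),(0,75),(0,74),(0,83),(0,82),(0,81),(1,79),(0,78),(0,77),(0,76),(0,87),(0,86),(1,84),(0,83),(1,81),(0,80),(0,79),(0,78),(0,109),(0,108),(0,107),(0,106),(0,105),(1,103),(0,102),(0,101),(0,100),(0,99),(1,97),(0,96),(0,95),(0,94),(0,93),(1,91),(0,90),(0,89),(0,88),(1,86),(0,85),(1,83),(0,82),(0,81),(0,80),(0,79),(1,77),(1,75),(1,73),(0,72),(0,71),(0,70),(1,68),(0,67),(1,65),(0,64),(0,63),(0,62),(1,60),(0,59),(0,58),(2,57),(2,56),(0,58),(0,57),(0,56),(2,55),(0,57),(0,56),(0,55),(2,54),(0,56),(0,55),(0,57),(1,58),(1,56),(1,54),(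2,53),(2,52),(0,52),(2,51),(0,52),(0,51),(2,50),(0,52),(0,59),(0,69),(0,68),(0,70),(1,71),(1,69),(1,67),(0,66),(0,65),(0,64),(0,63),(0,62),(1,60),(1,58),(0,57),(0,56),(0,55),(1,53),(1,51),(0,50),(2,49),(0,53),(0,52),(0,51),(0,50),(0,49),(2,48),(0,52),(0,51),(0,50),(0,49),(1,53),(0,52),(0,51),(0,55),(1,53),(0,56),(0,76),(0,75),(0,74),(0,73),(0,72),(1,70),(0,69),(0,68),(0,67),(0,66),(0,65),(0,64),(1,62),(0,61),(0,60),(0,59),(1,57),(1,55),(0,54),(1,52),(1,50),(1,48),(2,47),(2,46),(0,46),(2,45),(1,48),(0,47),(0,46),(0,45),(2,44),(0,51),(0,50),(0,49),(0,69),(0,68),(0,67),(0,66),(1,64),(0,63),(0,62),(0,61),(0,70),(0,69),(0,68),(1,66),(0,65),(0,64),(0,74),(0,73),(1,71),(0,70),(1,68),(0,67),(0,66),(0,65),(1,63),(0,62),(1,60),(0,59),(0,58),(1,56),(0,55),(0,54),(1,52),(0,51),(0,50),(1,48),(0,47),(0,46),(0,45),(0,44),(2,43),(0,44),(0,43),(2,42),(0,50),(0,49),(0,48),(0,47),(0,46),(0,45),(0,44),(0,43),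(0,51),(0,50),(0,52),(0,55),(1,53),(1,51),(1,49),(0,48),(0,47),(0,46),(0,45),(0,49),(0,48),(0,47),(0,51),(1,55),(0,54),(0,53),(0,52),(1,50),(0,49),(0,54),(0,53),(0,57),(1,55),(0,54),(1,52),(0,51),(0,58),(0,57),(0,56),(0,55),(0,59),(0,67),(0,66),(0,68),(1,69),(1,67),(1,65),(0,64),(0,63),(0,62),(1,60),(1,58),(0,57),(0,56),(1,54),(0,53),(0,52),(1,50),(1,48),(1,46),(1,44),(1,42),(2,41),(2,40),(0,40),(2,39),(0,40),(0,39),(2,38),(0,40),(0,39),(0,38),(2,37),(0,40),(0,39),(0,38),(0,37),(2,36),(0,40),(1,41),(1,39),(0,38),(0,37),(0,36),(2,35),(2,34),(2,33),(2,32),(2,31),(0,31),(2,30),(0,31),(0,30),(2,29),(2,28),(0,34),(0,33),(0,32),(0,31),(0,30),(0,35),(0,34),(0,33),(0,32),(1,36),(0,35),(0,34),(0,38),(1,36),(0,39),(0,50),(0,49),(0,48),(0,47),(1,45),(0,44),(0,43),(0,42),(1,40),(1,38),(0,37),(1,35),(1,33),(1,31),(1,29),(0,28),(2,27),(0,27),(2,26),(0,27),(0,29),(0,28),(1,26),(2,25),(2,24),(0,27),(0,26)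,(0,25),(0,24),(2,23),(0,32),(0,31),(0,41),(0,40),(0,39),(1,37),(0,36),(0,35),(1,33),(0,32),(1,30),(0,29),(0,28),(0,27),(0,26),(0,25),(0,24),(0,23),(2,22),(1,26),(0,25),(0,24),(0,23),(0,22),(2,21),(0,21),(2,20),(1,20),(2,19),(2,18),(0,18),(2,17),(0,18),(0,17),(2,16),(0,17),(0,16),(2,15),(0,15),(2,14),(0,17),(0,16),(0,15),(0,18),(0,17),(0,19),(1,20),(1,18),(1,16),(1,14),(2,13),(2,12),(0,12),(2,11),(0,12),(0,11),(2,10),(0,12),(0,11),(0,10),(2,9),(0,12),(0,11),(0,10),(0,9),(2,8),(1,11),(0,10),(0,9),(0,8),(2,7),(2,6),(2,5),(2,4),(2,3),(0,3),(2,2),(0,2),(2,1),(2,0)]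

end Cfsg.Agent.H77.Y332Words
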