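import Mathlib
import Cfsg.Agent.Alt.Automorphism

/-!
# The automorphism group of the alternating group of degree six has order at most 1440
-/

set_option autoImplicit false
set_option linter.unusedSectionVars false

namespace Cfsg.Agent.H77.AltSix

open Equiv Equiv.Perm Cfsg.Agent.Alt

variable {α : Type*} [Fintype α] [DecidableEq α]

/-- For `n ≥ 4`, conjugation gives every automorphism preserving three-cycles. -/
theorem exists_conjNormal_eq_of_threeCycle (h4 : 4 ≤ Nat.card α)
    (φ : MulAut (alternatingGroup α)) (h3c : ∀ c : alternatingGroup α, IsThreeCycle (c : Perm α) →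
      IsThreeCycle ((φ c : alternatingGroup α) : Perm α)) : ∃ σ : Perm α, MulAut.conjNormal σ = φ := by
  have : Nonempty α := by
    rcases isEmpty_or_nonempty α with h | h
    · simp at h4
    · exact h
  obtain ⟨a⟩ := this
  obtain ⟨b, -, -, hba, -, -, -⟩ := exists_two_others h4 a a
  have hab : a ≠ b := hba.symm
  obtain ⟨u, v, huv, hedge⟩ := exists_common_edge h4 φ h3c hab
  set f : α → α := fun x => if hxa : x = a then u else if hxb : x = b then v else
    ((φ ⟨cyc3 a b x, cyc3_mem hab (Ne.symm hxa) (Ne.symm hxb)⟩ : alternatingGroup α) : Perm α) v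
    with hf
  have hfa : f a = u := by simp [hf]
  have hfb : f b = v := by simp [hf, hab.symm]
  have hform : ∀ x (hxa : x ≠ a) (hxb : x ≠ b),
      ((φ ⟨cyc3 a b x, cyc3_mem hab hxa.symm hxb.symm⟩ : alternatingGroup α) : Perm α) =
        cyc3 u v (f x) ∧ f x ≠ u ∧ f x ≠ v := by
    intro x hxa hxb
    have h3 := h3c ⟨cyc3 a b x, cyc3_mem hab hxa.symm hxb.symm⟩
      (isThreeCycle_cyc3 hab hxa.symm hxb.symm)
    have he := hedge x hxa hxb
    have hne : ((φ ⟨cyc3 a b x, cyc3_mem hab hxa.symm hxb.symm⟩ : alternatingGroup α) :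
        Perm α) u ≠ u := by rw [he]; exact huv.symm
    obtain ⟨h1, h2, h4'⟩ := threeCycle_distinct h3 hne
    have e := eq_cyc3 h3 hne
    rw [he] at e h1 h2 h4'
    have hfx : f x = ((φ ⟨cyc3 a b x, cyc3_mem hab hxa.symm hxb.symm⟩ : alternatingGroup α) :
        Perm α) v := by simp [hf, hxa, hxb]
    rw [hfx]
    exact ⟨e, h2.symm, h4'.symm⟩
  have hinj : Function.Injective f := by
    intro x y hxy
    by_cases hxa : x = a
    · subst hxa
      by_contra hne
      by_cases hyb : y = b
      · subst hyb; rw [hfa, hfb] at hxy; exact huv hxy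
      exact (hform y (Ne.symm hne) hyb).2.1 (hxy.symm.trans hfa)
    by_cases hxb : x = b
    · subst hxb
      by_contra hne
      by_cases hya : y = a
      · subst hya; rw [hfa, hfb] at hxy; exact huv hxy.symm
      exact (hform y hya (Ne.symm hne)).2.2 (hxy.symm.trans hfb)
    by_cases hya : y = a
    · subst hya; exact absurd (hxy.trans hfa) (hform x hxa hxb).2.1
    by_cases hyb : y = b
    · subst hyb; exact absurd (hxy.trans hfb) (hform x hxa hxb).2.2
    have h := φ.injective (Subtype.ext ((hform x hxa hxb).1.trans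
      (hxy ▸ (hform y hya hyb).1.symm)))
    have h' := congrArg (fun g : alternatingGroup α => (g : Perm α) b) h
    simpa [cyc3_apply_mid (Ne.symm hxa) (Ne.symm hxb),
      cyc3_apply_mid (Ne.symm hya) (Ne.symm hyb)] using h'
  refine ⟨Equiv.ofBijective f (Finite.injective_iff_bijective.1 hinj), ?_⟩
  set σ := Equiv.ofBijective f (Finite.injective_iff_bijective.1 hinj) with hσ
  let F : alternatingGroup α →* Perm α :=
    (alternatingGroup α).subtype.comp (MulEquiv.toMonoidHom φ)
  let G : alternatingGroup α →* Perm α :=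
    (MulAut.conj σ).toMonoidHom.comp (alternatingGroup α).subtype
  have hgen : Subgroup.closure ((alternatingGroup α).subtype ⁻¹'
      {g : Perm α | ∃ x, x ≠ a ∧ x ≠ b ∧ g = cyc3 a b x}) = ⊤ := by
    apply Subgroup.map_injective (f := (alternatingGroup α).subtype) Subtype.val_injective
    rw [MonoidHom.map_closure, ← MonoidHom.range_eq_map, Subgroup.range_subtype,
      Set.image_preimage_eq_of_subset, closure_cyc3_pair hab]
    rintro g ⟨x, hxa, hxb, rfl⟩
    exact ⟨⟨_, cyc3_mem hab hxa.symm hxb.symm⟩, rfl⟩
  have hFG : F = G := by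
    apply MonoidHom.eq_of_eqOn_dense hgen
    rintro ⟨g, hg⟩ ⟨x, hxa, hxb, hgx⟩
    simp only [Subgroup.coe_subtype] at hgx
    subst hgx
    simp only [F, G, MonoidHom.comp_apply, MulEquiv.coe_toMonoidHom, Subgroup.coe_subtype,
      MulAut.conj_apply]
    rw [cyc3_conj, (hform x hxa hxb).1]
    simp [hσ, hfa, hfb]
  ext c : 2
  rw [MulAut.conjNormal_apply]
  exact (DFunLike.congr_fun hFG c).symm

/-- Even permutations with an odd permutation in their centralizer and the same cycle type are
conjugate by an even permutation. -/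
theorem isConj_alternating {g h : alternatingGroup α}
    (hc : ¬ Subgroup.centralizer {(g : Perm α)} ≤ alternatingGroup α)
    (ht : (g : Perm α).cycleType = (h : Perm α).cycleType) : IsConj g h := by
  obtain ⟨c, hcm, hcodd⟩ := SetLike.not_le_iff_exists.1 hc
  obtain ⟨d, hd⟩ := isConj_iff.1 (Perm.isConj_iff_cycleType_eq.2 ht)
  rw [Perm.mem_alternatingGroup] at hcodd
  have hc1 : Perm.sign c = -1 := (Int.units_eq_one_or _).resolve_left hcodd
  rcases Int.units_eq_one_or (Perm.sign d) with h1 | h1
  · exact isConj_iff.2 ⟨⟨d, Perm.mem_alternatingGroup.2 h1⟩, Subtype.ext hd⟩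
  · refine isConj_iff.2 ⟨⟨d * c, Perm.mem_alternatingGroup.2 (by rw [map_mul, h1, hc1]; decide)⟩, ?_⟩
    apply Subtype.ext
    change d * c * (g : Perm α) * (d * c)⁻¹ = (h : Perm α)
    have hcg := Subgroup.mem_centralizer_singleton_iff.1 hcm
    rw [← hd, show d * c * (g : Perm α) * (d * c)⁻¹ = d * (c * g * c⁻¹) * d⁻¹ by group, hcg,
      mul_inv_cancel_right]

theorem cycleType_of_orderOf_eq_three (h6 : Fintype.card α = 6) {g : Perm α} (hg : orderOf g = 3) :
    g.cycleType = {3} ∨ g.cycleType = {3, 3} := by
  have hall : ∀ c ∈ g.cycleType, c = 3 := fun c hc => by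
    have h1 := Perm.dvd_of_mem_cycleType hc
    rw [hg] at h1
    exact ((Nat.dvd_prime Nat.prime_three).1 h1).resolve_left
      (by have := Perm.two_le_of_mem_cycleType hc; omega)
  have hr := Multiset.eq_replicate_card.2 hall
  have hs := Perm.sum_cycleType_le g
  rw [hr, Multiset.sum_replicate, h6, smul_eq_mul] at hs
  have hne : Multiset.card g.cycleType ≠ 0 := by
    intro h0
    rw [Multiset.card_eq_zero, Perm.cycleType_eq_zero] at h0
    rw [h0, orderOf_one] at hg
    omega
  rcases (show Multiset.card g.cycleType = 1 ∨ Multiset.card g.cycleType = 2 by omega) with h | h <;>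
    rw [hr, h]
  · exact Or.inl rfl
  · exact Or.inr rfl

/-- If an automorphism moves one three-cycle out of the class, it moves all of them. -/
theorem threeCycle_map_iff (h5 : 5 ≤ Fintype.card α) (φ : MulAut (alternatingGroup α))
    {c d : alternatingGroup α} (hc : IsThreeCycle (c : Perm α)) (hd : IsThreeCycle (d : Perm α)) :
    IsThreeCycle ((φ c : alternatingGroup α) : Perm α) ↔
      IsThreeCycle ((φ d : alternatingGroup α) : Perm α) := by
  have hcd : IsConj c d := by
    refine isConj_alternating ?_ (hc.cycleType.trans hd.cycleType.symm)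
    rw [Perm.centralizer_le_alternating_iff]
    rintro ⟨-, h2, -⟩
    rw [hc.cycleType, Multiset.sum_singleton] at h2
    omega
  have h1 := Perm.isConj_iff_cycleType_eq.1 ((alternatingGroup α).subtype.map_isConj (φ.toMonoidHom.map_isConj hcd))
  change ((φ c : alternatingGroup α) : Perm α).cycleType = ((φ d : alternatingGroup α) : Perm α).cycleType at h1
  unfold IsThreeCycle
  rw [h1]

theorem card_mulAut_dvd (h6 : Fintype.card α = 6) :
    Nat.card (MulAut (alternatingGroup α)) ∣ 2 * Nat.factorial 6 := by
  classical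
  have h4 : 4 ≤ Nat.card α := by rw [Nat.card_eq_fintype_card]; omega
  set R := (MulAut.conjNormal : Perm α →* MulAut (alternatingGroup α)).range with hR
  have hpres : ∀ φ : MulAut (alternatingGroup α), (∀ c : alternatingGroup α, IsThreeCycle (c : Perm α) →
      IsThreeCycle ((φ c : alternatingGroup α) : Perm α)) → φ ∈ R := fun φ h => by
    obtain ⟨σ, hσ⟩ := exists_conjNormal_eq_of_threeCycle h4 φ h
    exact ⟨σ, hσ⟩
  have horder : ∀ (φ : MulAut (alternatingGroup α)) (c : alternatingGroup α),
      IsThreeCycle (c : Perm α) → orderOf ((φ c : alternatingGroup α) : Perm α) = 3 := fun φ c hc => by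
    rw [Subgroup.orderOf_coe, MulEquiv.orderOf_eq, ← Subgroup.orderOf_coe, hc.orderOf]
  have hswap : ∀ φ : MulAut (alternatingGroup α), φ ∉ R → ∀ c : alternatingGroup α,
      IsThreeCycle (c : Perm α) → ((φ c : alternatingGroup α) : Perm α).cycleType = {3, 3} := by
    intro φ hφ c hc
    refine (cycleType_of_orderOf_eq_three h6 (horder φ c hc)).resolve_left fun h => ?_
    exact hφ (hpres φ fun d hd => (threeCycle_map_iff (by omega) φ hc hd).1 h)
  have hconj33 : ∀ e f : alternatingGroup α, (e : Perm α).cycleType = {3, 3} →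
      (f : Perm α).cycleType = {3, 3} → IsConj e f := by
    intro e f he hf
    refine isConj_alternating ?_ (he.trans hf.symm)
    rw [Perm.centralizer_le_alternating_iff]
    rintro ⟨-, -, h3⟩
    have := h3 3
    rw [he] at this
    simp at this
  have hcomp : ∀ φ ψ : MulAut (alternatingGroup α), φ ∉ R → ψ ∉ R → ψ * φ ∈ R := by
    intro φ ψ hφ hψ
    apply hpres
    intro c hc
    change IsThreeCycle ((ψ (φ c) : alternatingGroup α) : Perm α)
    have h1 : orderOf ((ψ (φ c) : alternatingGroup α) : Perm α) = 3 := horder (ψ * φ) c hc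
    refine (cycleType_of_orderOf_eq_three h6 h1).resolve_right fun h33 => ?_
    -- no element of order three is sent to a three-cycle by `ψ`
    obtain ⟨d, hd⟩ := ψ.surjective c
    have hd3 : orderOf (d : Perm α) = 3 := by
      rw [Subgroup.orderOf_coe, ← MulEquiv.orderOf_eq ψ d, hd, ← Subgroup.orderOf_coe, hc.orderOf]
    rcases cycleType_of_orderOf_eq_three h6 hd3 with h | h
    · have := hswap ψ hψ d h
      rw [hd, hc.cycleType] at this
      have h2 := congrArg Multiset.card this
      simp at h2
    · have hcc : IsConj d (φ c) := hconj33 _ _ h (hswap φ hφ c hc)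
      have h2 := Perm.isConj_iff_cycleType_eq.1 ((alternatingGroup α).subtype.map_isConj (ψ.toMonoidHom.map_isConj hcc))
      change ((ψ d : alternatingGroup α) : Perm α).cycleType = ((ψ (φ c) : alternatingGroup α) : Perm α).cycleType at h2
      rw [hd, hc.cycleType, h33] at h2
      have h3 := congrArg Multiset.card h2
      simp at h3
  have hidx : R.index ∣ 2 := by
    by_cases hR1 : R = ⊤
    · rw [hR1, Subgroup.index_top]; exact one_dvd _
    obtain ⟨a, ha⟩ : ∃ a, a ∉ R := by
      by_contra hc
      push Not at hc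
      exact hR1 (eq_top_iff.2 fun x _ => hc x)
    refine dvd_of_eq ((Subgroup.index_eq_two_iff).2 ⟨a, fun b => ?_⟩)
    by_cases hb : b ∈ R
    · exact Or.inr ⟨hb, fun h => ha (by simpa using R.mul_mem (R.inv_mem hb) h)⟩
    · exact Or.inl ⟨hcomp a b ha hb, hb⟩
  rw [← R.card_mul_index, mul_comm 2]
  refine Nat.mul_dvd_mul (dvd_trans (Subgroup.card_range_dvd _) (dvd_of_eq ?_)) hidx
  rw [Nat.card_perm, Nat.card_eq_fintype_card, h6]

end Cfsg.Agent.H77.AltSix
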