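import Mathlib
import Cfsg.Agent.S0014
import Cfsg.Agent.PGroup.Frattini

/-!
# Automorphisms of a finite `p`-group and its generating tuples
-/

namespace Cfsg.Agent.H77.AutFrattini

/-- A free action divides the cardinality. -/
theorem card_dvd_of_free {A X : Type*} [Group A] [MulAction A X] [Finite X]
    (h : ∀ x : X, ∀ a : A, a • x = x → a = 1) : Nat.card A ∣ Nat.card X := by
  have e : ∀ ω : MulAction.orbitRel.Quotient A X, MulAction.stabilizer A ω.out = ⊥ := fun ω =>
    (Subgroup.eq_bot_iff_forall _).2 fun a ha => h _ a ha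
  have := Nat.card_congr ((MulAction.selfEquivSigmaOrbitsQuotientStabilizer A X).trans
    (Equiv.sigmaCongrRight fun ω => (Subgroup.quotientEquivOfEq (e ω)).trans QuotientGroup.quotientBot.toEquiv))
  rw [this]
  rw [Nat.card_congr (Equiv.sigmaEquivProd _ _), Nat.card_prod]
  exact Dvd.intro_left _ rfl

variable {P : Type*} [Group P] [Finite P] {p n r : ℕ} [Fact p.Prime]

omit [Finite P] in
theorem card_frattini (hP : Nat.card P = p ^ n) (hr : (frattini P).index = p ^ r) :
    Nat.card (frattini P) = p ^ (n - r) := by
  have h := (frattini P).card_mul_index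
  rw [hr, hP] at h
  have hp : 1 < p := (Fact.out : p.Prime).one_lt
  have hrn : r ≤ n := (Nat.pow_dvd_pow_iff_le_right hp).1 (Dvd.intro_left _ h)
  refine Nat.eq_of_mul_eq_mul_right (pow_pos (by omega : 0 < p) r) ?_
  rw [h, ← pow_add, Nat.sub_add_cancel hrn]

/-- Generating `r`-tuples exist. -/
theorem exists_gen (hP : Nat.card P = p ^ n) (hr : (frattini P).index = p ^ r) :
    ∃ f : Fin r → P, Subgroup.closure (Set.range f) = ⊤ := by
  classical
  have : Fintype P := Fintype.ofFinite P
  obtain ⟨T, -, hT, hTt⟩ :=
    (Cfsg.Agent.S0014.result p r (IsPGroup.of_card hP) hr).1 Finset.univ (by simp)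
  refine ⟨fun i => ((T.equivFinOfCardEq hT).symm i : P), ?_⟩
  rw [← hTt]
  congr 1
  ext x
  constructor
  · rintro ⟨i, rfl⟩; exact Finset.mem_coe.2 (Finset.coe_mem _)
  · intro hx; exact ⟨T.equivFinOfCardEq hT ⟨x, hx⟩, by simp⟩

omit [Finite P] in
theorem aut_ext_of_closure {S : Set P} (hS : Subgroup.closure S = ⊤) (α β : MulAut P)
    (h : ∀ x ∈ S, α x = β x) : α = β := by
  have := MonoidHom.eq_of_eqOn_dense hS (f := α.toMonoidHom) (g := β.toMonoidHom) h
  exact MulEquiv.ext fun x => DFunLike.congr_fun this x

/-- A tuple generating modulo the Frattini subgroup generates. -/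
theorem closure_eq_top_iff {k : ℕ} (t : Fin k → P) :
    Subgroup.closure (Set.range t) = ⊤ ↔
      Subgroup.closure (Set.range fun i => (t i : P ⧸ frattini P)) = ⊤ := by
  have e : Subgroup.closure (Set.range fun i => (t i : P ⧸ frattini P)) =
      (Subgroup.closure (Set.range t)).map (QuotientGroup.mk' (frattini P)) := by
    rw [MonoidHom.map_closure, ← Set.range_comp]; rfl
  rw [e]
  constructor
  · intro h
    rw [h, Subgroup.map_top_of_surjective _ (QuotientGroup.mk'_surjective _)]
  · intro h
    refine frattini_nongenerating ?_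
    have h2 := congrArg (Subgroup.comap (QuotientGroup.mk' (frattini P))) h
    rwa [Subgroup.comap_map_eq, Subgroup.comap_top, QuotientGroup.ker_mk'] at h2

omit [Finite P] in
/-- The number of tuples with given image modulo the Frattini subgroup. -/
theorem card_fiber {k : ℕ} (u : Fin k → P ⧸ frattini P) :
    Nat.card {t : Fin k → P // ∀ i, (t i : P ⧸ frattini P) = u i} = Nat.card (frattini P) ^ k := by
  have e : {t : Fin k → P // ∀ i, (t i : P ⧸ frattini P) = u i} ≃
      ((i : Fin k) → {x : P // (x : P ⧸ frattini P) = u i}) :=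
    Equiv.subtypePiEquivPi (p := fun i (x : P) => (x : P ⧸ frattini P) = u i)
  rw [Nat.card_congr e, Nat.card_pi]
  have : ∀ i, Nat.card {x : P // (x : P ⧸ frattini P) = u i} = Nat.card (frattini P) := by
    intro i
    obtain ⟨x, hx⟩ := QuotientGroup.mk_surjective (u i)
    refine (Nat.card_congr (α := frattini P) (β := {y : P // (y : P ⧸ frattini P) = u i})
      { toFun := fun a => ⟨x * a.1, ?_⟩
        invFun := fun y => ⟨x⁻¹ * y.1, ?_⟩
        left_inv := fun a => Subtype.ext (inv_mul_cancel_left x a.1)
        right_inv := fun y => Subtype.ext (mul_inv_cancel_left x y.1) }).symm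
    · rw [← hx, eq_comm, QuotientGroup.eq, inv_mul_cancel_left]; exact a.2
    · rw [← QuotientGroup.eq, hx]; exact y.2.symm
  simp [this]

/-- The number of generating `r`-tuples of an elementary abelian group of order `p ^ r`. -/
theorem card_gen_elementary {Q : Type*} [CommGroup Q] [Finite Q]
    (hQ : Nat.card Q = p ^ r) (hexp : ∀ x : Q, x ^ p = 1) :
    Nat.card {t : Fin r → Q // Subgroup.closure (Set.range t) = ⊤} =
      ∏ i ∈ Finset.range r, (p ^ r - p ^ i) := by
  classical
  have hp : p.Prime := Fact.out
  have hz : ∀ x : Additive Q, p • x = 0 := fun x => by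
    apply Additive.toMul.injective
    rw [toMul_nsmul, toMul_zero]
    exact hexp _
  let := AddCommGroup.zmodModule (n := p) hz
  have : Fintype (Additive Q) := Fintype.ofFinite _
  have : Module.Finite (ZMod p) (Additive Q) := Module.Finite.of_finite
  have hdim : Module.finrank (ZMod p) (Additive Q) = r := by
    have : Nat.card (Additive Q) = Nat.card (ZMod p) ^ Module.finrank (ZMod p) (Additive Q) :=
      Module.natCard_eq_pow_finrank
    rw [Nat.card_zmod, Nat.card_congr (Additive.toMul (α := Q)), hQ] at this
    exact (Nat.pow_right_injective hp.two_le this).symm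
  have hsub : Nat.card {t : Fin r → Q // Subgroup.closure (Set.range t) = ⊤} =
      Nat.card {s : Fin r → Additive Q // LinearIndependent (ZMod p) s} := by
    refine Nat.card_congr ((Equiv.arrowCongr (Equiv.refl _) Additive.ofMul).subtypeEquiv fun t => ?_)
    rw [linearIndependent_iff_card_eq_finrank_span, Set.finrank, Fintype.card_fin]
    have e : (Submodule.span (ZMod p) (Set.range (Additive.ofMul ∘ t))).toAddSubgroup =
        (Subgroup.closure (Set.range t)).toAddSubgroup := by
      rw [Subgroup.toAddSubgroup_closure]
      refine le_antisymm ?_ ?_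
      · intro x hx
        exact (Submodule.span_le (p := AddSubgroup.toZModSubmodule p
          (AddSubgroup.closure (Additive.toMul ⁻¹' Set.range t)))).2
          (by rintro _ ⟨i, rfl⟩; exact AddSubgroup.subset_closure ⟨i, rfl⟩) hx
      · rw [AddSubgroup.closure_le]
        rintro x ⟨i, hi⟩
        exact Submodule.subset_span ⟨i, by simp [hi]⟩
    set W : Submodule (ZMod p) (Additive Q) := Submodule.span (ZMod p) (Set.range (Additive.ofMul ∘ t)) with hW
    change _ ↔ r = Module.finrank (ZMod p) ↥W
    constructor
    · intro h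
      have : W = ⊤ :=
        Submodule.toAddSubgroup_injective (by rw [e, h]; rfl)
      rw [this, finrank_top, hdim]
    · intro h
      have : W = ⊤ :=
        Submodule.eq_top_of_finrank_eq (by omega)
      rw [this] at e
      exact Subgroup.toAddSubgroup.injective e.symm
  rw [hsub, card_linearIndependent (by omega), ZMod.card, hdim, Finset.prod_range]

end Cfsg.Agent.H77.AutFrattini
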