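import Mathlib.LinearAlgebra.Center
import Mathlib.LinearAlgebra.Dual.Lemmas
import Mathlib.LinearAlgebra.Matrix.SchurComplement
import Mathlib.LinearAlgebra.Matrix.SpecialLinearGroup
import Mathlib.LinearAlgebra.Matrix.Trace
import Mathlib.LinearAlgebra.FiniteDimensional.Lemmas

/-!
For non-scalar matrices `A, B` of size at least three, the trace of `A * g B g⁻¹`, `g` of
determinant one, takes both the value zero and a non-zero value.
-/

set_option autoImplicit false

namespace Cfsg.Agent.H77.ClassProductSL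

open Matrix

variable {F : Type*} [Field F] {n : Type*} [Fintype n] [DecidableEq n]

/-- A linear functional separating a vector from a subspace, as a row vector. -/
theorem exists_dot {S : Submodule F (n → F)} {x : n → F} (hx : x ∉ S) :
    ∃ φ : n → F, φ ⬝ᵥ x = 1 ∧ ∀ s ∈ S, φ ⬝ᵥ s = 0 := by
  obtain ⟨f, hfx, hfS⟩ := Submodule.exists_dual_map_eq_bot_of_notMem hx inferInstance
  refine ⟨fun i => (f x)⁻¹ * f (Pi.single i 1), ?_⟩
  have hf : ∀ y : n → F, (fun i => (f x)⁻¹ * f (Pi.single i 1)) ⬝ᵥ y = (f x)⁻¹ * f y := by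
    intro y
    conv_rhs => rw [pi_eq_sum_univ' y, map_sum, Finset.mul_sum]
    refine Finset.sum_congr rfl fun i _ => ?_
    rw [map_smul, smul_eq_mul]
    ring
  refine ⟨by rw [hf, inv_mul_cancel₀ hfx], fun s hs => ?_⟩
  have : f s ∈ S.map f := ⟨s, hs, rfl⟩
  rw [hfS, Submodule.mem_bot] at this
  rw [hf, this, mul_zero]

/-- A non-scalar matrix moves some vector out of its line. -/
theorem exists_linearIndependent {M : Matrix n n F} (hM : ∀ c : F, M ≠ c • 1) :
    ∃ w, LinearIndependent F ![w, M *ᵥ w] := by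
  by_contra h
  push Not at h
  obtain ⟨a, ha⟩ := LinearMap.exists_eq_smul_id_of_forall_notLinearIndependent
    (f := Matrix.toLin' M) (fun v => by simpa [Matrix.toLin'_apply] using h v)
  refine hM a ?_
  apply Matrix.toLin'.injective
  rw [ha, map_smul, Matrix.toLin'_one]
  rfl

variable (K : Submodule F (Matrix n n F))

/-- Invariance under conjugation by transvections. -/
def Stable : Prop :=
  ∀ v ψ : n → F, ψ ⬝ᵥ v = 0 → ∀ X ∈ K, (1 + vecMulVec v ψ) * X * (1 - vecMulVec v ψ) ∈ K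

variable {K}

theorem conj_expand (v ψ : n → F) (X : Matrix n n F) :
    (1 + vecMulVec v ψ) * X * (1 - vecMulVec v ψ) =
      X + vecMulVec v (ψ ᵥ* X) - vecMulVec (X *ᵥ v) ψ - (ψ ⬝ᵥ (X *ᵥ v)) • vecMulVec v ψ := by
  simp only [add_mul, one_mul, mul_sub, mul_one, mul_vecMulVec, vecMulVec_mul,
    Matrix.add_mulVec, vecMulVec_mulVec, op_smul_eq_smul, add_vecMulVec, smul_vecMulVec,
    ← dotProduct_mulVec]
  abel

/-- A stable subspace with a non-scalar member contains all nilpotent matrices of rank one. -/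
theorem vecMulVec_mem (hK : Stable K) (h3 : 3 ≤ Fintype.card n) {X : Matrix n n F} (hX : X ∈ K)
    (hXs : ∀ c : F, X ≠ c • 1) {w σ : n → F} (hwσ : σ ⬝ᵥ w = 0) : vecMulVec w σ ∈ K := by
  obtain ⟨v, hv⟩ := exists_linearIndependent hXs
  have hne : Submodule.span F (Set.range ![v, X *ᵥ v]) ≠ ⊤ := by
    intro h
    have h1 := finrank_span_eq_card hv
    rw [h, finrank_top, Module.finrank_fintype_fun_eq_card, Fintype.card_fin] at h1
    omega
  obtain ⟨x, -, hx⟩ := SetLike.exists_of_lt hne.lt_top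
  obtain ⟨ψ, hψx, hψ⟩ := exists_dot hx
  have hψv : ψ ⬝ᵥ v = 0 := hψ v (Submodule.subset_span ⟨0, rfl⟩)
  have hψXv : ψ ⬝ᵥ (X *ᵥ v) = 0 := hψ _ (Submodule.subset_span ⟨1, rfl⟩)
  have hψ0 : ψ ≠ 0 := fun h => by rw [h, zero_dotProduct] at hψx; exact zero_ne_one hψx
  set Y := vecMulVec v (ψ ᵥ* X) - vecMulVec (X *ᵥ v) ψ with hY
  have hYK : Y ∈ K := by
    have h := K.sub_mem (hK v ψ hψv X hX) hX
    rw [conj_expand, hψXv, zero_smul, sub_zero] at h
    convert h using 1
    rw [hY]; abel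
  have hXv : X *ᵥ v ∉ Submodule.span F {v} := by
    intro h
    obtain ⟨c, hc⟩ := Submodule.mem_span_singleton.1 h
    rw [LinearIndependent.pair_iff] at hv
    have := hv c (-1) (by rw [neg_one_smul, ← sub_eq_add_neg, hc, sub_self])
    exact one_ne_zero (neg_eq_zero.1 this.2)
  obtain ⟨ψ', hψ'x, hψ'⟩ := exists_dot hXv
  have hψ'v : ψ' ⬝ᵥ v = 0 := hψ' v (Submodule.mem_span_singleton_self v)
  have hbase : vecMulVec v ψ ∈ K := by
    have h := K.sub_mem (hK v ψ' hψ'v Y hYK) hYK
    have hYv : Y *ᵥ v = 0 := by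
      rw [hY, Matrix.sub_mulVec, vecMulVec_mulVec, vecMulVec_mulVec, op_smul_eq_smul,
        op_smul_eq_smul, ← dotProduct_mulVec, hψXv, hψv, zero_smul, zero_smul, sub_zero]
    have hψ'Y : ψ' ᵥ* Y = -ψ := by
      rw [hY, Matrix.vecMul_sub, vecMul_vecMulVec, vecMul_vecMulVec, hψ'v, hψ'x, zero_smul,
        one_smul, zero_sub]
    rw [conj_expand, hYv, dotProduct_zero, zero_smul, sub_zero, zero_vecMulVec, sub_zero, hψ'Y,
      add_sub_cancel_left, vecMulVec_neg] at h
    exact neg_mem_iff.1 h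
  -- all functionals killing `v`
  have hv0 : v ≠ 0 := hv.ne_zero 0
  have hrow : ∀ τ : n → F, τ ⬝ᵥ v = 0 → vecMulVec v τ ∈ K := by
    intro τ hτ
    by_cases hdep : ∃ c : F, τ = c • ψ
    · obtain ⟨c, rfl⟩ := hdep
      rw [vecMulVec_smul]
      exact K.smul_mem c hbase
    · push Not at hdep
      obtain ⟨s, hs1, hs2⟩ := exists_dot (x := ψ) (S := Submodule.span F {τ}) fun h => by
        obtain ⟨c, hc⟩ := Submodule.mem_span_singleton.1 h
        have hc0 : c ≠ 0 := fun h0 => hψ0 (by rw [← hc, h0, zero_smul])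
        exact hdep c⁻¹ (by rw [← hc, smul_smul, inv_mul_cancel₀ hc0, one_smul])
      have hτs : τ ⬝ᵥ s = 0 := by
        rw [dotProduct_comm]; exact hs2 τ (Submodule.mem_span_singleton_self τ)
      have h := K.sub_mem hbase (hK s τ hτs _ hbase)
      rw [conj_expand, vecMul_vecMulVec, hτ, zero_smul, vecMulVec_zero, add_zero,
        vecMulVec_mulVec, op_smul_eq_smul, dotProduct_comm ψ s, hs1, one_smul, hτ, zero_smul,
        sub_zero, sub_sub_cancel] at h
      exact h
  -- move the vector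
  have hall : ∀ w : n → F, LinearIndependent F ![v, w] → ∀ τ : n → F, τ ⬝ᵥ w = 0 →
      vecMulVec w τ ∈ K := by
    intro w hw τ hτ
    obtain ⟨σ₀, hσv, hσ⟩ := exists_dot (x := v) (S := Submodule.span F {w - v}) fun h => by
      obtain ⟨c, hc⟩ := Submodule.mem_span_singleton.1 h
      rw [LinearIndependent.pair_iff] at hw
      have := hw (-c - 1) c (by rw [← sub_eq_zero.2 hc]; module)
      rw [this.2, neg_zero, zero_sub, neg_eq_zero] at this
      exact one_ne_zero this.1
    have h0 : σ₀ ⬝ᵥ (w - v) = 0 := hσ _ (Submodule.mem_span_singleton_self _)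
    set ρ : n → F := τ + (τ ⬝ᵥ (w - v)) • σ₀ with hρ
    have hρv : ρ ⬝ᵥ v = 0 := by
      rw [hρ, add_dotProduct, smul_dotProduct, hσv, smul_eq_mul, mul_one, dotProduct_sub, hτ]
      ring
    have hρd : ρ ⬝ᵥ (w - v) = τ ⬝ᵥ (w - v) := by
      rw [hρ, add_dotProduct, smul_dotProduct, h0, smul_zero, add_zero]
    have h := hK (w - v) σ₀ h0 _ (hrow ρ hρv)
    have key : (1 + vecMulVec (w - v) σ₀) * vecMulVec v ρ * (1 - vecMulVec (w - v) σ₀) =
        vecMulVec w τ := by
      rw [mul_vecMulVec, vecMulVec_mul, Matrix.add_mulVec, Matrix.one_mulVec, vecMulVec_mulVec,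
        op_smul_eq_smul, hσv, one_smul, add_sub_cancel, Matrix.vecMul_sub, Matrix.vecMul_one,
        vecMul_vecMulVec, hρd, hρ, add_sub_cancel_right]
    rwa [key] at h
  by_cases hw : LinearIndependent F ![v, w]
  · exact hall w hw σ hwσ
  · rw [LinearIndependent.pair_iff' hv0] at hw
    push Not at hw
    obtain ⟨c, rfl⟩ := hw
    by_cases hc : c = 0
    · subst hc; simp
    · rw [smul_vecMulVec]
      refine K.smul_mem c (hrow σ ?_)
      rw [dotProduct_smul, smul_eq_mul, mul_eq_zero] at hwσ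
      exact hwσ.resolve_left hc

/-- The element of `SL` given by a transvection. -/
def transv (v ψ : n → F) (h : ψ ⬝ᵥ v = 0) : SpecialLinearGroup n F :=
  ⟨1 + vecMulVec v ψ, by
    rw [vecMulVec_eq Unit, det_one_add_replicateCol_mul_replicateRow, h, add_zero]⟩

theorem transv_inv (v ψ : n → F) (h : ψ ⬝ᵥ v = 0) :
    (((transv v ψ h)⁻¹ : SpecialLinearGroup n F) : Matrix n n F) = 1 - vecMulVec v ψ := by
  have hinv : (1 + vecMulVec v ψ) * (1 - vecMulVec v ψ) = 1 := by
    rw [mul_sub, mul_one, add_mul, one_mul, vecMulVec_mul, vecMul_vecMulVec, h, zero_smul,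
      vecMulVec_zero, add_zero, add_sub_cancel_right]
  have h1 : ((transv v ψ h : SpecialLinearGroup n F) : Matrix n n F) *
      (((transv v ψ h)⁻¹ : SpecialLinearGroup n F) : Matrix n n F) = 1 := by
    rw [← SpecialLinearGroup.coe_mul, mul_inv_cancel, SpecialLinearGroup.coe_one]
  exact Matrix.inv_eq_right_inv h1 ▸ Matrix.inv_eq_right_inv hinv

/-- The trace of `A * g B g⁻¹` is not of constant zero-ness. -/
theorem exists_trace_zero_and_ne (h3 : 3 ≤ Fintype.card n) {A B : Matrix n n F}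
    (hA : ∀ c : F, A ≠ c • 1) (hB : ∀ c : F, B ≠ c • 1) :
    (∃ g : SpecialLinearGroup n F, (A * ((g : Matrix n n F) * B *
      ((g⁻¹ : SpecialLinearGroup n F) : Matrix n n F))).trace = 0) ∧
    ∃ g : SpecialLinearGroup n F, (A * ((g : Matrix n n F) * B *
      ((g⁻¹ : SpecialLinearGroup n F) : Matrix n n F))).trace ≠ 0 := by
  obtain ⟨u, hu⟩ := exists_linearIndependent hA
  have hne : Submodule.span F (Set.range ![u, A *ᵥ u]) ≠ ⊤ := by
    intro h
    have h1 := finrank_span_eq_card hu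
    rw [h, finrank_top, Module.finrank_fintype_fun_eq_card, Fintype.card_fin] at h1
    omega
  obtain ⟨x, -, hx⟩ := SetLike.exists_of_lt hne.lt_top
  obtain ⟨φ, hφx, hφ⟩ := exists_dot hx
  have hφu : φ ⬝ᵥ u = 0 := hφ u (Submodule.subset_span ⟨0, rfl⟩)
  have hφAu : φ ⬝ᵥ (A *ᵥ u) = 0 := hφ _ (Submodule.subset_span ⟨1, rfl⟩)
  set T := vecMulVec (A *ᵥ u) φ - vecMulVec u (φ ᵥ* A) with hT
  have hTs : ∀ c : F, T ≠ c • 1 := by
    intro c hc
    have hTu : T *ᵥ u = 0 := by
      rw [hT, Matrix.sub_mulVec, vecMulVec_mulVec, vecMulVec_mulVec, op_smul_eq_smul,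
        op_smul_eq_smul, ← dotProduct_mulVec, hφu, hφAu, zero_smul, zero_smul, sub_zero]
    rw [hc, Matrix.smul_mulVec, Matrix.one_mulVec] at hTu
    have hc0 : c = 0 := (smul_eq_zero.1 hTu).resolve_right (hu.ne_zero 0)
    have hTx : T *ᵥ x = 0 := by rw [hc, hc0, zero_smul, Matrix.zero_mulVec]
    rw [hT, Matrix.sub_mulVec, vecMulVec_mulVec, vecMulVec_mulVec, op_smul_eq_smul,
      op_smul_eq_smul, hφx, one_smul, sub_eq_zero] at hTx
    rw [LinearIndependent.pair_iff] at hu
    exact one_ne_zero (hu (-((φ ᵥ* A) ⬝ᵥ x)) 1 (by rw [one_smul, hTx, neg_smul, neg_add_cancel])).2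
  let K : Submodule F (Matrix n n F) :=
    { carrier := {X | ∀ g : SpecialLinearGroup n F,
        (T * ((g : Matrix n n F) * X * ((g⁻¹ : SpecialLinearGroup n F) : Matrix n n F))).trace = 0}
      add_mem' := fun {X Y} hX hY g => by
        rw [mul_add, add_mul, mul_add, Matrix.trace_add, hX g, hY g, add_zero]
      zero_mem' := fun g => by simp
      smul_mem' := fun c X hX g => by
        rw [Matrix.mul_smul, Matrix.smul_mul, Matrix.mul_smul, Matrix.trace_smul, hX g, smul_zero] }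
  have hKstab : Stable K := by
    intro v ψ hψ X hX g
    have h := hX (g * transv v ψ hψ)
    rw [_root_.mul_inv_rev, SpecialLinearGroup.coe_mul, SpecialLinearGroup.coe_mul, transv_inv] at h
    rw [← h]
    simp only [transv, mul_assoc]
  obtain ⟨g₀, hg₀⟩ : ∃ g : SpecialLinearGroup n F,
      (T * ((g : Matrix n n F) * B * ((g⁻¹ : SpecialLinearGroup n F) : Matrix n n F))).trace ≠ 0 := by
    by_contra hcon
    push Not at hcon
    obtain ⟨w, hw⟩ := exists_linearIndependent hTs
    have hTw : T *ᵥ w ∉ Submodule.span F {w} := by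
      intro h
      obtain ⟨c, hc⟩ := Submodule.mem_span_singleton.1 h
      rw [LinearIndependent.pair_iff] at hw
      have := hw c (-1) (by rw [neg_one_smul, ← sub_eq_add_neg, hc, sub_self])
      exact one_ne_zero (neg_eq_zero.1 this.2)
    obtain ⟨σ, hσ1, hσ⟩ := exists_dot hTw
    have h := vecMulVec_mem hKstab h3 (X := B) hcon hB (hσ w (Submodule.mem_span_singleton_self w))
    have h1 := h 1
    rw [inv_one, SpecialLinearGroup.coe_one, one_mul, mul_one, mul_vecMulVec, trace_vecMulVec,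
      dotProduct_comm, hσ1] at h1
    exact one_ne_zero h1
  set B' := (g₀ : Matrix n n F) * B * ((g₀⁻¹ : SpecialLinearGroup n F) : Matrix n n F) with hB'
  set c := (T * B').trace with hc
  have hlin : ∀ t : F, (A * ((((transv (t • u) φ (by rw [dotProduct_smul, hφu, smul_zero])) * g₀ :
      SpecialLinearGroup n F) : Matrix n n F) * B *
      (((transv (t • u) φ (by rw [dotProduct_smul, hφu, smul_zero])) * g₀)⁻¹ :
        SpecialLinearGroup n F))).trace = (A * B').trace + t * c := by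
    intro t
    rw [_root_.mul_inv_rev, SpecialLinearGroup.coe_mul, SpecialLinearGroup.coe_mul, transv_inv]
    have he : (transv (t • u) φ (by rw [dotProduct_smul, hφu, smul_zero]) :
        SpecialLinearGroup n F).1 * (g₀ : Matrix n n F) * B *
        (((g₀⁻¹ : SpecialLinearGroup n F) : Matrix n n F) * (1 - vecMulVec (t • u) φ)) =
        (1 + vecMulVec (t • u) φ) * B' * (1 - vecMulVec (t • u) φ) := by
      simp only [transv, hB', mul_assoc]
    rw [he, conj_expand, hc, hT, mul_sub, mul_sub, mul_add, Matrix.trace_sub, Matrix.trace_sub,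
      Matrix.trace_add, mul_vecMulVec, mul_vecMulVec, Matrix.mul_smul, mul_vecMulVec,
      Matrix.trace_smul, trace_vecMulVec, trace_vecMulVec, trace_vecMulVec, Matrix.sub_mul,
      Matrix.trace_sub, vecMulVec_mul, vecMulVec_mul, trace_vecMulVec, trace_vecMulVec]
    have e1 : ∀ M : Matrix n n F, (M *ᵥ (t • u)) = t • (M *ᵥ u) := fun M => Matrix.mulVec_smul M t u
    simp only [e1, Matrix.mulVec_smul, smul_dotProduct, dotProduct_smul, smul_eq_mul]
    have e2 : (A *ᵥ u) ⬝ᵥ φ = 0 := by rw [dotProduct_comm]; exact hφAu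
    have e3 : (A *ᵥ (B' *ᵥ u)) ⬝ᵥ φ = u ⬝ᵥ ((φ ᵥ* A) ᵥ* B') := by
      rw [dotProduct_comm, dotProduct_mulVec, dotProduct_mulVec, dotProduct_comm]
    rw [e2, e3]
    ring
  have hc0 : c ≠ 0 := hg₀
  refine ⟨⟨_, (hlin (-(A * B').trace / c)).trans (by field_simp; ring)⟩,
    ⟨transv ((((1 : F) - (A * B').trace) / c) • u) φ
      (by rw [dotProduct_smul, hφu, smul_zero]) * g₀, ?_⟩⟩
  rw [hlin, show (A * B').trace + (1 - (A * B').trace) / c * c = 1 by field_simp; ring]
  exact one_ne_zero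

end Cfsg.Agent.H77.ClassProductSL
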