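import Mathlib
import Cfsg.Agent.CoprimeAct.Basic
import Cfsg.Agent.Transfer.Residual
import Cfsg.Agent.H4.GlaubermanThompson
import Cfsg.Agent.Solvable.ThompsonFPF
import Cfsg.Agent.Modules.Thompson

/-!
Coprime action in which the maximal invariant proper subgroups are nilpotent.

The odd order theorem enters as a hypothesis.
-/

set_option autoImplicit false
set_option linter.style.haveILetI false
set_option linter.unusedSectionVars false
set_option linter.unusedVariables false

namespace Cfsg.Agent.H77

open Subgroup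

universe u v

theorem isNilpotent_iff_sylow_normal (X : Type u) [Group X] [Finite X] :
    Group.IsNilpotent X ↔
      ∀ (q : ℕ) (_ : Fact q.Prime) (P : Sylow q X), (P : Subgroup X).Normal :=
  Group.isNilpotent_of_finite_tfae.out 0 3

section
variable {A : Type v} [Group A] [Finite A] {G : Type u} [Group G] [Finite G]
  [MulDistribMulAction A G]

/-- Invariance of a subgroup under the action. -/
def IsInv (A : Type v) [Group A] {G : Type u} [Group G] [MulDistribMulAction A G]
    (H : Subgroup G) : Prop := ∀ a : A, ∀ x ∈ H, a • x ∈ H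

theorem nilpotent_of_inv (hmax : ∀ H : Subgroup G, H ≠ ⊤ → (∀ a : A, ∀ x ∈ H, a • x ∈ H) →
      (∀ K : Subgroup G, H < K → (∀ a : A, ∀ x ∈ K, a • x ∈ K) → K = ⊤) → Group.IsNilpotent H)
    (H : Subgroup G) (hH : H ≠ ⊤) (hi : IsInv A H) : Group.IsNilpotent H := by
  obtain ⟨M, ⟨hMt, hMi, hHM⟩, hmx⟩ := (Set.toFinite
    {K : Subgroup G | K ≠ ⊤ ∧ IsInv A K ∧ H ≤ K}).exists_maximal ⟨H, hH, hi, le_rfl⟩
  haveI := hmax M hMt hMi fun K hMK hK => by
    by_contra hne
    exact hMK.not_ge (hmx ⟨hne, hK, hHM.trans hMK.le⟩ hMK.le)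
  exact Group.nilpotent_of_mulEquiv (Subgroup.subgroupOfEquivOfLe hHM)

theorem inv_of_map_eq {H : Subgroup G}
    (h : ∀ a : A, H.map (MulDistribMulAction.toMonoidHom G a) = H) : IsInv A H :=
  fun a x hx => h a ▸ mem_map_of_mem (MulDistribMulAction.toMonoidHom G a) hx

theorem map_eq_of_inv {H : Subgroup G} (hH : IsInv A H) (a : A) :
    H.map (MulDistribMulAction.toMonoidHom G a) = H := by
  refine le_antisymm ?_ fun x hx => ⟨a⁻¹ • x, hH a⁻¹ x hx, smul_inv_smul a x⟩
  rintro _ ⟨x, hx, rfl⟩
  exact hH a x hx

theorem inv_normalizer {H : Subgroup G} (hH : IsInv A H) :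
    IsInv A (normalizer (H : Set G)) := by
  intro a g hg
  rw [mem_normalizer_iff]
  intro y
  have key : a⁻¹ • ((a • g) * y * (a • g)⁻¹) = g * (a⁻¹ • y) * g⁻¹ := by
    simp only [smul_mul', smul_inv', inv_smul_smul]
  constructor
  · intro hy
    have h := hH a _ ((mem_normalizer_iff.1 hg _).1 (hH a⁻¹ y hy))
    rwa [← key, smul_inv_smul] at h
  · intro hy
    have h := hH a⁻¹ _ hy
    rw [key] at h
    simpa using hH a _ ((mem_normalizer_iff.1 hg _).2 h)

theorem inv_of_characteristic (H : Subgroup G) [hH : H.Characteristic] : IsInv A H :=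
  inv_of_map_eq fun a =>
    characteristic_iff_map_eq.1 hH (MulDistribMulAction.toMulAut A G a)

theorem inv_commutator : IsInv A (commutator G) := inv_of_characteristic _

theorem inv_sup {H K : Subgroup G} (hH : IsInv A H) (hK : IsInv A K) : IsInv A (H ⊔ K) :=
  inv_of_map_eq fun a => by rw [Subgroup.map_sup, map_eq_of_inv hH a, map_eq_of_inv hK a]

theorem inv_pResidual (p : ℕ) : IsInv A (Cfsg.pResidual p G) :=
  inv_of_map_eq fun a =>
    Cfsg.Agent.Transfer.map_pResidual_equiv (MulDistribMulAction.toMulAut A G a)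

end

/-- The action on the quotient by an invariant normal subgroup. -/
@[reducible] def quotientAction {A : Type v} [Group A] {G : Type u} [Group G]
    [MulDistribMulAction A G] (N : Subgroup G) [N.Normal] (hN : IsInv A N) :
    MulDistribMulAction A (G ⧸ N) where
  smul a := QuotientGroup.map N N (MulDistribMulAction.toMonoidHom G a) fun x hx => hN a x hx
  one_smul q := by
    induction q using QuotientGroup.induction_on with
    | H g => exact congrArg QuotientGroup.mk (one_smul A g)
  mul_smul a b q := by
    induction q using QuotientGroup.induction_on with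
    | H g => exact congrArg QuotientGroup.mk (mul_smul a b g)
  smul_mul a x y := map_mul (QuotientGroup.map N N (MulDistribMulAction.toMonoidHom G a) _) x y
  smul_one a := map_one (QuotientGroup.map N N (MulDistribMulAction.toMonoidHom G a) _)

theorem solvable_of_nilpotent_invariant (hoddA : ∀ (A : Type v) [Group A] [Finite A],
      Odd (Nat.card A) → Group.IsSolvable A)
    (hoddG : ∀ (G : Type u) [Group G] [Finite G], Odd (Nat.card G) → Group.IsSolvable G)
    (A : Type v) [Group A] [Finite A] :
    ∀ (n : ℕ) (G : Type u) [Group G] [Finite G] [MulDistribMulAction A G], Nat.card G = n →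
      (Nat.card A).Coprime (Nat.card G) →
      (∀ H : Subgroup G, H ≠ ⊤ → IsInv A H → Group.IsNilpotent H) → Group.IsSolvable G := by
  intro n
  induction n using Nat.strong_induction_on with
  | _ n ih =>
    intro G _ _ _ hn hcop hnil
    by_cases hN : ∃ N : Subgroup G, N.Normal ∧ IsInv A N ∧ N ≠ ⊥ ∧ N ≠ ⊤
    · obtain ⟨N, hNn, hNi, hNb, hNt⟩ := hN
      haveI := hNn
      letI := quotientAction N hNi
      have hlt : Nat.card (G ⧸ N) < n := by
        rw [← hn, N.card_eq_card_quotient_mul_card_subgroup]
        exact lt_mul_of_one_lt_right Nat.card_pos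
          (Finite.one_lt_card_iff_nontrivial.2 ((nontrivial_iff_ne_bot N).2 hNb))
      haveI hQ : Group.IsSolvable (G ⧸ N) := ih _ hlt (G ⧸ N) rfl
        (Nat.Coprime.coprime_dvd_right (card_quotient_dvd_card N) hcop) fun H hH hHi => by
          have hne : H.comap (QuotientGroup.mk' N) ≠ ⊤ := fun h => hH (by
            rw [← map_comap_eq_self_of_surjective (QuotientGroup.mk'_surjective N) H, h,
              map_top_of_surjective _ (QuotientGroup.mk'_surjective N)])
          haveI := hnil _ hne fun a x hx => hHi a (x : G ⧸ N) hx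
          refine Group.nilpotent_of_surjective
            ((QuotientGroup.mk' N).subgroupComap H) fun y => ?_
          obtain ⟨x, hx⟩ := QuotientGroup.mk'_surjective N (y : G ⧸ N)
          exact ⟨⟨x, by rw [mem_comap, hx]; exact y.2⟩, Subtype.ext hx⟩
      haveI : Group.IsNilpotent N := hnil N hNt hNi
      refine Group.isSolvable_of_ker_le_range N.subtype (QuotientGroup.mk' N) ?_
      rw [QuotientGroup.ker_mk', range_subtype]
    push Not at hN
    by_cases hodd : ∃ p : ℕ, p.Prime ∧ p ≠ 2 ∧ p ∣ Nat.card G
    · obtain ⟨p, hp, hp2, hpd⟩ := hodd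
      haveI := Fact.mk hp
      have hsol : Group.IsSolvable A ∨ Group.IsSolvable G := by
        rcases Nat.even_or_odd (Nat.card A) with h | h
        · right
          refine hoddG G (Nat.not_even_iff_odd.1 fun he => ?_)
          have := Nat.eq_one_of_dvd_coprimes hcop (even_iff_two_dvd.1 h) (even_iff_two_dvd.1 he)
          omega
        · exact Or.inl (hoddA A h)
      obtain ⟨P, hP⟩ := Cfsg.Agent.CoprimeAct.exists_invariant_sylow_smul hcop hsol p
      set Z := Cfsg.centerThompsonOf p (P : Subgroup G) with hZ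
      have hZi : IsInv A Z := inv_of_map_eq fun a => by
        rw [hZ, Cfsg.Agent.Modules.map_centerThompsonOf
          (show Function.Injective (MulDistribMulAction.toMonoidHom G a) from
            MulAction.injective a), map_eq_of_inv hP a]
      have hPne : (P : Subgroup G) ≠ ⊥ := P.ne_bot_of_dvd_card hpd
      have hZne : Z ≠ ⊥ := Cfsg.Agent.Modules.centerThompsonOf_ne_bot P.2 hPne
      by_cases htop : normalizer (Z : Set G) = ⊤
      · have hZtop := hN Z (normalizer_eq_top_iff.1 htop) hZi hZne
        have hPtop : (P : Subgroup G) = ⊤ := top_le_iff.1 (hZtop ▸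
          (inf_le_left.trans (map_subtype_le _) : Z ≤ (P : Subgroup G)))
        have hG : IsPGroup p G := by
          have := P.2
          rw [hPtop] at this
          exact this.of_equiv topEquiv
        haveI := hG.isNilpotent
        infer_instance
      · haveI := hnil _ htop (inv_normalizer hZi)
        have hnpc := Cfsg.Agent.H4.glauberman_thompson_npc hp2 P
          (Cfsg.Agent.Solvable.hasNormalPComplement_of_isNilpotent _)
        have hc := Cfsg.Agent.Transfer.isComplement'_pResidual hnpc P
        rcases eq_or_ne (Cfsg.pResidual p G) ⊥ with h | h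
        · rw [h] at hc
          have hPtop : (P : Subgroup G) = ⊤ := isComplement'_bot_left.1 hc
          have hG : IsPGroup p G := by
            have := P.2
            rw [hPtop] at this
            exact this.of_equiv topEquiv
          haveI := hG.isNilpotent
          infer_instance
        · rw [hN _ inferInstance (inv_pResidual p) h] at hc
          exact absurd (isComplement'_top_left.1 hc) hPne
    · haveI := Fact.mk Nat.prime_two
      have hG : IsPGroup 2 G := by
        rw [IsPGroup.iff_card]
        refine ⟨_, Nat.eq_prime_pow_of_unique_prime_dvd Nat.card_pos.ne' fun {q} hq hqd => ?_⟩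
        by_contra hne
        exact hodd ⟨q, hq, hne, hqd⟩
      haveI := hG.isNilpotent
      infer_instance

theorem structure_of_nilpotent_max {A : Type v} {G : Type u} [Group A] [Group G] [Finite A]
    [Finite G] [MulDistribMulAction A G]
    (hoddA : ∀ (A : Type v) [Group A] [Finite A], Odd (Nat.card A) → Group.IsSolvable A)
    (hoddG : ∀ (G : Type u) [Group G] [Finite G], Odd (Nat.card G) → Group.IsSolvable G)
    (hcop : (Nat.card A).Coprime (Nat.card G))
    (hmax : ∀ H : Subgroup G, H ≠ ⊤ → (∀ a : A, ∀ x ∈ H, a • x ∈ H) →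
      (∀ K : Subgroup G, H < K → (∀ a : A, ∀ x ∈ K, a • x ∈ K) → K = ⊤) → Group.IsNilpotent H)
    (hG : ¬ Group.IsNilpotent G) :
    Group.IsSolvable G ∧
      (∃ p q a b : ℕ, p.Prime ∧ q.Prime ∧ p ≠ q ∧ Nat.card G = p ^ a * q ^ b) ∧
      ∃ (p : ℕ) (P : Sylow p G), p.Prime ∧ p ∣ Nat.card G ∧ (P : Subgroup G).Normal ∧
        (∀ a : A, ∀ x ∈ (P : Subgroup G), a • x ∈ (P : Subgroup G)) := by
  classical
  have hnil := nilpotent_of_inv hmax
  have hsol : Group.IsSolvable G :=
    solvable_of_nilpotent_invariant hoddA hoddG A _ G rfl hcop hnil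
  refine ⟨hsol, ?_⟩
  haveI : Nontrivial G := by
    rcases subsingleton_or_nontrivial G with h | h
    · exact absurd (inferInstance : Group.IsNilpotent G) hG
    · exact h
  obtain ⟨M, ⟨hMt, hMi, hGM⟩, hmx⟩ := (Set.toFinite
    {K : Subgroup G | K ≠ ⊤ ∧ IsInv A K ∧ commutator G ≤ K}).exists_maximal
    ⟨commutator G, (Group.IsSolvable.commutator_lt_top_of_nontrivial G).ne, inv_commutator, le_rfl⟩
  haveI hMn : M.Normal := ⟨fun x hx g => by
    have h := M.mul_mem (hGM (commutator_mem_commutator (mem_top g) (mem_top x))) hx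
    simpa [commutatorElement_def, mul_assoc] using h⟩
  haveI hMnil : Group.IsNilpotent M := hnil M hMt hMi
  obtain ⟨r, hr, hrd⟩ := Nat.exists_prime_and_dvd (fun h => hMt (index_eq_one.1 h))
  haveI := Fact.mk hr
  obtain ⟨R, hR⟩ := Cfsg.Agent.CoprimeAct.exists_invariant_sylow_smul hcop (Or.inr hsol) r
  have hMR : M ⊔ (R : Subgroup G) = ⊤ := by
    by_contra hne
    have hle : M ⊔ (R : Subgroup G) ≤ M :=
      hmx ⟨hne, inv_sup hMi hR, hGM.trans le_sup_left⟩ le_sup_left
    exact R.not_dvd_index (hrd.trans (index_dvd_of_le (le_sup_right.trans hle)))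
  have hidx : ∀ q : ℕ, q.Prime → q ≠ r → ¬ q ∣ M.index := by
    intro q hq hqr hqd
    obtain ⟨k, hk⟩ := IsPGroup.iff_card.1 R.2
    have h1 : M.index ∣ r ^ k := by
      rw [← hk, ← relIndex_top_right, ← hMR, sup_comm, relIndex_sup_right]
      exact relIndex_dvd_card M _
    exact hqr ((Nat.prime_dvd_prime_iff_eq hq hr).1 (hq.dvd_of_dvd_pow (hqd.trans h1)))
  have hnormal : ∀ (q : ℕ) [Fact q.Prime], q ≠ r → ∀ Q : Sylow q G,
      (Q : Subgroup G).Normal := by
    intro q _ hqr Q
    obtain ⟨S⟩ : Nonempty (Sylow q M) := inferInstance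
    haveI : (S : Subgroup M).Normal :=
      (isNilpotent_iff_sylow_normal _).1 hMnil q inferInstance S
    haveI : (S : Subgroup M).Characteristic := S.characteristic_of_normal inferInstance
    haveI hn : ((S : Subgroup M).map M.subtype).Normal := inferInstance
    have hnd : ¬ q ∣ ((S : Subgroup M).map M.subtype).index := by
      rw [index_map_subtype]
      exact (Nat.Prime.not_dvd_mul Fact.out S.not_dvd_index (hidx q Fact.out hqr))
    set T := IsPGroup.toSylow (S.2.map M.subtype) hnd with hT
    haveI : Unique (Sylow q G) := T.unique_of_normal hn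
    rw [Subsingleton.elim Q T]
    exact hn
  have hinv : ∀ (q : ℕ) [Fact q.Prime] (Q : Sylow q G), (Q : Subgroup G).Normal →
      IsInv A (Q : Subgroup G) := by
    intro q _ Q hQ
    haveI := Q.characteristic_of_normal hQ
    exact inv_of_characteristic _
  by_cases hall : ∀ (q : ℕ) [Fact q.Prime], q ≠ r → ∀ Q : Sylow q G,
      (Q : Subgroup G) ⊔ (R : Subgroup G) ≠ ⊤
  · -- then every Sylow subgroup is normal
    exfalso
    apply hG
    have hRn : (R : Subgroup G).Normal := by
      rw [← normalizer_eq_top_iff, ← index_eq_one]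
      by_contra hne
      obtain ⟨q, hq, hqd⟩ := Nat.exists_prime_and_dvd hne
      haveI := Fact.mk hq
      rcases eq_or_ne q r with rfl | hqr
      · exact R.not_dvd_index (hqd.trans (index_dvd_of_le le_normalizer))
      obtain ⟨Q⟩ : Nonempty (Sylow q G) := inferInstance
      haveI := hnil _ (hall q hqr Q) (inv_sup (hinv q Q (hnormal q hqr Q)) hR)
      haveI : ((R.subtype (le_sup_right : (R : Subgroup G) ≤ (Q : Subgroup G) ⊔ R) :
          Sylow r ↥((Q : Subgroup G) ⊔ R)) : Subgroup ↥((Q : Subgroup G) ⊔ R)).Normal :=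
        (isNilpotent_iff_sylow_normal _).1 this r inferInstance _
      have hle : (Q : Subgroup G) ⊔ R ≤ normalizer ((R : Subgroup G) : Set G) :=
        (normal_subgroupOf_iff_le_normalizer le_sup_right).1 this
      exact Q.not_dvd_index (hqd.trans (index_dvd_of_le (le_sup_left.trans hle)))
    refine (isNilpotent_iff_sylow_normal _).2 fun q hqf Q => ?_
    haveI := hqf
    rcases eq_or_ne q r with rfl | hqr
    · haveI : Unique (Sylow q G) := R.unique_of_normal hRn
      rw [Subsingleton.elim Q R]
      exact hRn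
    · exact hnormal q hqr Q
  · push Not at hall
    obtain ⟨q, hqf, hqr, Q, hQR⟩ := hall
    haveI := hqf
    have hQn := hnormal q hqr Q
    obtain ⟨a, ha⟩ := IsPGroup.iff_card.1 Q.2
    obtain ⟨b, hb⟩ := IsPGroup.iff_card.1 R.2
    have hcard : Nat.card G = q ^ a * r ^ b := by
      rw [← ha, ← hb]
      refine Nat.dvd_antisymm ?_ ?_
      · rw [← (Q : Subgroup G).card_mul_index, ← relIndex_top_right, ← hQR, sup_comm,
          relIndex_sup_right]
        exact mul_dvd_mul_left _ (relIndex_dvd_card _ _)
      · refine Nat.Coprime.mul_dvd_of_dvd_of_dvd ?_ (card_subgroup_dvd_card _)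
          (card_subgroup_dvd_card _)
        rw [ha, hb]
        exact Nat.coprime_pow_primes a b Fact.out hr hqr
    refine ⟨⟨q, r, a, b, Fact.out, hr, hqr, hcard⟩, q, Q, Fact.out, ?_, hQn, hinv q Q hQn⟩
    by_contra hq
    apply hG
    have hQ : (Q : Subgroup G) = ⊥ := by
      by_contra h
      rcases Q.2.card_eq_or_dvd with h1 | h1
      · exact h (card_eq_one.1 h1)
      · exact hq (h1.trans (card_subgroup_dvd_card _))
    rw [hQ, bot_sup_eq] at hQR
    have hGr : IsPGroup r G := by
      have := R.2
      rw [hQR] at this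
      exact this.of_equiv topEquiv
    exact hGr.isNilpotent

end Cfsg.Agent.H77
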