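import Cfsg.Prelude.Def_PLocal
import Cfsg.Agent.PGroupExtra.RegularPowers
import Cfsg.Agent.H73.HallPetrescu
import Mathlib

/-!
# Regular p-groups: class less than p, and the equation `a^q = b^q`
-/

set_option autoImplicit false
set_option linter.unusedSectionVars false

namespace Cfsg.Agent.H77.Regular

open Cfsg.Agent.H73
open scoped commutatorElement

section HallPetrescu

variable {J : Type*} [Group J] [Finite J] {p : ℕ}

/-- In a group of class less than `p` the `p^n`-th power map is multiplicative modulo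
`p^n`-th powers of commutators. -/
theorem exists_correction (hp : p.Prime) (hcl : (⊤ : Subgroup J).lowerCentralSeries (p - 1) = ⊥)
    (x y : J) (n : ℕ) :
    ((y ^ p ^ n)⁻¹ * (x ^ p ^ n)⁻¹ * (x * y) ^ p ^ n) ∈
      Cfsg.powerClosure p n (commutator J) := by
  have hbot : lcFilt J p = ⊥ := hcl
  obtain ⟨hmul, hinv, -⟩ := isPolySeq_closed (G := J) p
  have key : ∀ (j k : ℕ), j + k = p → 2 ≤ k → ∀ g : ℕ → J, IsPolySeq p 0 g →
      (∀ i < k, g i = 1) → g (p ^ n) ∈ Cfsg.powerClosure p n (commutator J) := by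
    intro j
    induction j with
    | zero =>
      intro k hk _ g hg h0
      obtain rfl : k = p := by omega
      have hall : ∀ i, g i = 1 := by
        intro i
        induction i using Nat.strong_induction_on with
        | _ i ih =>
          rcases lt_or_ge i k with h | h
          · exact h0 i h
          · have := hg.apply_mem (k := k) (s := i - k) le_rfl (fun l hl => ih _ (by omega))
            rw [Nat.sub_add_cancel h, Nat.zero_add, hbot, Subgroup.mem_bot] at this
            exact this
      rw [hall]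
      exact one_mem _
    | succ j ih =>
      intro k hk hk2 g hg h0
      have hc := hg.apply_mem (k := k) (s := 0) (by omega) (fun i hi => by
        rw [Nat.zero_add]; exact h0 i hi)
      rw [Nat.zero_add] at hc
      set c := g k with hcdef
      have hc1 : c ∈ commutator J := by
        rw [← Subgroup.top_lowerCentralSeries_one]
        exact Subgroup.lowerCentralSeries_antitone _ (show 1 ≤ k - 1 by omega) hc
      have hg' : IsPolySeq p 0 (fun m => (c ^ m.choose k)⁻¹ * g m) :=
        hmul _ _ _ (hinv _ _ (isPolySeq_choose p k 0 (by rwa [Nat.zero_add]))) hg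
      have h := ih (k + 1) (by omega) (by omega) _ hg' (fun i hi => by
        rcases Nat.lt_succ_iff_lt_or_eq.1 hi with h | h
        · simp [Nat.choose_eq_zero_of_lt h, h0 i h]
        · subst h; simp [c])
      obtain ⟨t, ht⟩ : p ^ n ∣ (p ^ n).choose k := by
        have hcop : Nat.Coprime (p ^ n) k := (hp.coprime_iff_not_dvd.2 (fun hd => by
          have := Nat.le_of_dvd (by omega) hd; omega)).pow_left n
        refine hcop.dvd_of_dvd_mul_right ?_
        obtain ⟨i, rfl⟩ : ∃ i, k = i + 1 := ⟨k - 1, by omega⟩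
        obtain ⟨m, hm⟩ : ∃ m, p ^ n = m + 1 := ⟨p ^ n - 1, by have := pow_pos hp.pos n; omega⟩
        rw [hm, ← Nat.add_one_mul_choose_eq]
        exact dvd_mul_right _ _
      have hmem : c ^ (p ^ n).choose k ∈ Cfsg.powerClosure p n (commutator J) := by
        rw [ht, mul_comm, pow_mul]
        exact Cfsg.Agent.Regular.pow_mem_powerClosure (pow_mem hc1 t)
      simpa using mul_mem hmem h
  have hg : IsPolySeq p 0 (fun m => (y ^ m)⁻¹ * (x ^ m)⁻¹ * (x * y) ^ m) :=
    hmul _ _ _ (hmul _ _ _ (hinv _ _ (isPolySeq_pow _ p)) (hinv _ _ (isPolySeq_pow _ p)))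
      (isPolySeq_pow _ p)
  refine key (p - 2) 2 (by have := hp.two_le; omega) le_rfl _ hg (fun i hi => ?_)
  interval_cases i
  · simp
  · simp [mul_assoc]

end HallPetrescu

variable {G : Type*} [Group G] [Finite G] {p : ℕ} [Fact p.Prime]

/-- The pull-back of the power closure to a subgroup. -/
theorem map_powerClosure_le (J : Subgroup G) (n : ℕ) :
    (Cfsg.powerClosure p n (commutator J)).map J.subtype ≤ Cfsg.powerClosure p n ⁅J, J⁆ := by
  rw [Cfsg.powerClosure, MonoidHom.map_closure, Subgroup.closure_le]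
  rintro _ ⟨_, ⟨w, hw, rfl⟩, rfl⟩
  rw [map_pow]
  refine Cfsg.Agent.Regular.pow_mem_powerClosure ?_
  rw [← Subgroup.map_subtype_commutator]
  exact Subgroup.mem_map_of_mem _ hw

/-- A `p`-group of class less than `p` is regular. -/
theorem isRegular_of_class_lt (hG : IsPGroup p G)
    (hcl : (⊤ : Subgroup G).lowerCentralSeries (p - 1) = ⊥) : Cfsg.IsRegularPGroup p G := by
  refine ⟨hG, fun a b n => ?_⟩
  set J := Subgroup.closure ({a, b} : Set G)
  have ha : a ∈ J := Subgroup.subset_closure (Set.mem_insert _ _)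
  have hb : b ∈ J := Subgroup.subset_closure (Set.mem_insert_of_mem _ rfl)
  have hclJ : (⊤ : Subgroup J).lowerCentralSeries (p - 1) = ⊥ := by
    rw [← Subgroup.map_eq_bot_iff_of_injective _ J.subtype_injective, eq_bot_iff, ← hcl]
    exact Subgroup.lowerCentralSeries_map_subtype_le J (p - 1)
  have h := map_powerClosure_le (p := p) J n
    (Subgroup.mem_map_of_mem J.subtype (exists_correction (Fact.out : p.Prime) hclJ ⟨a, ha⟩ ⟨b, hb⟩ n))
  refine ⟨_, h, ?_⟩
  simp [mul_assoc]

/-- `a^q = b^q` if and only if `(a b⁻¹)^q = 1`, in a regular `p`-group. -/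
theorem pow_eq_pow_iff (hG : Cfsg.IsRegularPGroup p G) (k : ℕ) (a b : G) :
    a ^ p ^ k = b ^ p ^ k ↔ (a * b⁻¹) ^ p ^ k = 1 := by
  suffices ∀ (m : ℕ) (a b : G), Nat.card (Subgroup.closure ({a, b} : Set G)) = m →
      (a ^ p ^ k = b ^ p ^ k ↔ (a * b⁻¹) ^ p ^ k = 1) from this _ a b rfl
  intro m
  induction m using Nat.strong_induction_on with
  | _ m ih =>
  intro a b hm
  set q := p ^ k with hq
  set J := Subgroup.closure ({a, b} : Set G) with hJ
  set u := a * b⁻¹ with hu
  have ha : a ∈ J := Subgroup.subset_closure (Set.mem_insert _ _)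
  have hb : b ∈ J := Subgroup.subset_closure (Set.mem_insert_of_mem _ rfl)
  have huJ : u ∈ J := mul_mem ha (inv_mem hb)
  have hubJ : Subgroup.closure ({u, b} : Set G) = J := by
    refine le_antisymm ((Subgroup.closure_le _).2 ?_) ((Subgroup.closure_le _).2 ?_)
    · rintro w (rfl | rfl)
      · exact huJ
      · exact hb
    · have hu' : u ∈ Subgroup.closure ({u, b} : Set G) := Subgroup.subset_closure (Set.mem_insert _ _)
      have hb' : b ∈ Subgroup.closure ({u, b} : Set G) :=
        Subgroup.subset_closure (Set.mem_insert_of_mem _ rfl)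
      rintro w (rfl | rfl)
      · simpa [hu] using mul_mem hu' hb'
      · exact hb'
  set D := ⁅J, J⁆ with hD
  have hDJ : D ≤ J := Subgroup.commutator_le_self J
  -- the pair of an element and a conjugate of it generates a smaller subgroup
  have smaller : D ≠ ⊥ → ∀ x ∈ J, ∀ y ∈ J, ∀ z : G, z ∈ J → z ∈ Subgroup.zpowers x ⊔ D →
      y = z → Nat.card (Subgroup.closure ({x, y} : Set G)) < m := by
    rintro hne x hx y hy z hzJ hz rfl
    have hle : Subgroup.closure ({x, y} : Set G) ≤ J := (Subgroup.closure_le _).2 (by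
      rintro w (rfl | rfl) <;> assumption)
    rw [← hm]
    refine lt_of_le_of_ne (Subgroup.card_le_of_le hle) fun e => hne ?_
    refine Cfsg.Agent.Regular.commutator_eq_bot_of_generated (hG.1.to_subgroup J) hx ?_
    rw [← hD]
    conv_lhs => rw [← Subgroup.eq_of_le_of_card_ge hle e.ge]
    refine (Subgroup.closure_le _).2 ?_
    rintro w (rfl | rfl)
    · exact Subgroup.mem_sup_left (Subgroup.mem_zpowers _)
    · exact hz
  -- the derived subgroup has exponent dividing `q` once the basic commutator does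
  have trivialD : D ≠ ⊥ → ⁅u, b⁆ ^ q = 1 → ∀ c ∈ Cfsg.powerClosure p k D, c = 1 := by
    intro hne hd c hc
    have hDlt : Nat.card D < m := by
      rw [← hm]
      refine lt_of_le_of_ne (Subgroup.card_le_of_le hDJ) fun e => hne ?_
      refine Cfsg.Agent.Regular.commutator_eq_bot_of_generated (hG.1.to_subgroup J) ha ?_
      rw [← hD, Subgroup.eq_of_le_of_card_ge hDJ e.ge]
      exact le_sup_right
    have hmulD : ∀ x ∈ D, ∀ y ∈ D, x ^ q = 1 → y ^ q = 1 → (x * y) ^ q = 1 := by
      intro x hx y hy hx1 hy1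
      have hle : Subgroup.closure ({x, y⁻¹} : Set G) ≤ D := (Subgroup.closure_le _).2 (by
        rintro w (rfl | rfl)
        · exact hx
        · exact inv_mem hy)
      have := (ih _ (lt_of_le_of_lt (Subgroup.card_le_of_le hle) hDlt) x y⁻¹ rfl).1
        (by rw [inv_pow, hx1, hy1, inv_one])
      rwa [inv_inv] at this
    let E : Subgroup J :=
      { carrier := {x | (x : G) ∈ D ∧ (x : G) ^ q = 1}
        mul_mem' := fun {x y} hx hy => ⟨mul_mem hx.1 hy.1, hmulD _ hx.1 _ hy.1 hx.2 hy.2⟩
        one_mem' := ⟨one_mem _, one_pow _⟩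
        inv_mem' := fun {x} hx => ⟨inv_mem hx.1, by
          rw [Subgroup.coe_inv, inv_pow, hx.2, inv_one]⟩ }
    have hEn : E.Normal := by
      refine ⟨fun x hx g => ⟨?_, ?_⟩⟩
      · have hx' : x ∈ commutator J := by
          have h1 : (x : G) ∈ (commutator J).map J.subtype := by
            rw [Subgroup.map_subtype_commutator]; exact hx.1
          obtain ⟨y, hy, hyx⟩ := h1
          rwa [← Subtype.ext hyx]
        rw [hD, ← Subgroup.map_subtype_commutator]
        exact Subgroup.mem_map_of_mem _ ((inferInstance : (commutator J).Normal).conj_mem x hx' g)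
      · rw [Subgroup.coe_mul, Subgroup.coe_mul, Subgroup.coe_inv, conj_pow, hx.2]
        simp
    let π := QuotientGroup.mk' E
    have hpb : Commute (π ⟨u, huJ⟩) (π ⟨b, hb⟩) := by
      rw [← commutatorElement_eq_one_iff_commute, ← map_commutatorElement]
      exact (QuotientGroup.eq_one_iff _).2
        ⟨Subgroup.commutator_mem_commutator huJ hb, hd⟩
    have hgen : Subgroup.closure ({⟨u, huJ⟩, ⟨b, hb⟩} : Set J) = ⊤ := by
      apply Subgroup.map_injective J.subtype_injective
      rw [MonoidHom.map_closure, ← MonoidHom.range_eq_map, Subgroup.range_subtype, Set.image_pair]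
      exact hubJ
    have hall : ∀ x y : J, Commute (π x) (π y) := by
      have h1 : ∀ z ∈ ({⟨u, huJ⟩, ⟨b, hb⟩} : Set J), ∀ y : J, Commute (π z) (π y) := by
        intro z hz y
        have : (⊤ : Subgroup J) ≤ (Subgroup.centralizer {π z}).comap π := by
          rw [← hgen, Subgroup.closure_le]
          intro w hw
          rw [SetLike.mem_coe, Subgroup.mem_comap, Subgroup.mem_centralizer_singleton_iff]
          rcases hz with rfl | rfl <;> rcases hw with rfl | rfl
          · rfl
          · exact hpb.eq.symm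
          · exact hpb.eq
          · rfl
        exact (Subgroup.mem_centralizer_singleton_iff.1 (this (Subgroup.mem_top y))).symm
      intro x y
      have : (⊤ : Subgroup J) ≤ (Subgroup.centralizer {π y}).comap π := by
        rw [← hgen, Subgroup.closure_le]
        intro w hw
        rw [SetLike.mem_coe, Subgroup.mem_comap, Subgroup.mem_centralizer_singleton_iff]
        exact (h1 w hw y).eq
      exact Subgroup.mem_centralizer_singleton_iff.1 (this (Subgroup.mem_top x))
    have hcomm : commutator J ≤ E := by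
      rw [commutator_def, Subgroup.commutator_le]
      intro x _ y _
      exact (QuotientGroup.eq_one_iff _).1
        ((map_commutatorElement π x y).trans (commutatorElement_eq_one_iff_commute.2 (hall x y)))
    have hDq : ∀ x ∈ D, x ^ q = 1 := by
      intro x hx
      rw [hD, ← Subgroup.map_subtype_commutator] at hx
      obtain ⟨y, hy, rfl⟩ := hx
      exact (hcomm hy).2
    rw [← Subgroup.mem_bot]
    refine (Subgroup.closure_le _).2 ?_ hc
    rintro _ ⟨w, hw, rfl⟩
    exact hDq w hw
  obtain ⟨c, hc, habc⟩ := hG.2 u b k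
  rw [hubJ, ← hD] at hc
  have hab : a = u * b := by rw [hu, inv_mul_cancel_right]
  rw [← hab, ← hq] at habc
  have hc1 : (a ^ q = b ^ q ∨ u ^ q = 1) → c = 1 := by
    intro hor
    by_cases hne : D = ⊥
    · have hle : Cfsg.powerClosure p k D ≤ ⊥ := by
        rw [hne, Cfsg.powerClosure, Subgroup.closure_le]
        rintro _ ⟨w, hw, rfl⟩
        rw [Subgroup.mem_bot] at hw
        simp [hw]
      exact Subgroup.mem_bot.1 (hle hc)
    refine trivialD hne ?_ c hc
    rcases hor with h | h
    · -- `b` fixes `a ^ q`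
      have hz : b * a * b⁻¹ ∈ J := mul_mem (mul_mem hb ha) (inv_mem hb)
      have hz' : b * a * b⁻¹ ∈ Subgroup.zpowers a ⊔ D := by
        rw [show b * a * b⁻¹ = ⁅b, a⁆ * a by rw [commutatorElement_def]; group]
        exact mul_mem (Subgroup.mem_sup_right (Subgroup.commutator_mem_commutator hb ha))
          (Subgroup.mem_sup_left (Subgroup.mem_zpowers a))
      have h2 := (ih _ (smaller hne a ha _ hz _ hz hz' rfl) a (b * a * b⁻¹) rfl).1
        (by rw [conj_pow, h]; exact ((Commute.refl b).pow_right q).mul_inv_cancel.symm)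
      rw [show a * (b * a * b⁻¹)⁻¹ = ⁅a, b⁆ by rw [commutatorElement_def]; group] at h2
      rwa [show ⁅u, b⁆ = ⁅a, b⁆ by rw [hu]; simp [commutatorElement_def, mul_assoc]]
    · have hz : b * u * b⁻¹ ∈ J := mul_mem (mul_mem hb huJ) (inv_mem hb)
      have hz' : b * u * b⁻¹ ∈ Subgroup.zpowers u ⊔ D := by
        rw [show b * u * b⁻¹ = ⁅b, u⁆ * u by rw [commutatorElement_def]; group]
        exact mul_mem (Subgroup.mem_sup_right (Subgroup.commutator_mem_commutator hb huJ))
          (Subgroup.mem_sup_left (Subgroup.mem_zpowers u))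
      have h2 := (ih _ (smaller hne u huJ _ hz _ hz hz' rfl) u (b * u * b⁻¹) rfl).1
        (by rw [conj_pow, h]; simp)
      rwa [show u * (b * u * b⁻¹)⁻¹ = ⁅u, b⁆ by rw [commutatorElement_def]; group] at h2
  constructor
  · intro h
    rw [hc1 (Or.inl h), mul_one, h] at habc
    exact right_eq_mul.1 habc
  · intro h
    rw [hc1 (Or.inr h), mul_one, h, one_mul] at habc
    exact habc

/-- The solutions of `x ^ q = 1` form a subgroup of a regular `p`-group. -/
theorem mul_pow_eq_one (hG : Cfsg.IsRegularPGroup p G) (k : ℕ) {x y : G}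
    (hx : x ^ p ^ k = 1) (hy : y ^ p ^ k = 1) : (x * y) ^ p ^ k = 1 := by
  have := (pow_eq_pow_iff hG k x y⁻¹).1 (by rw [inv_pow, hx, hy, inv_one])
  rwa [inv_inv] at this

/-- `a ^ q` commutes with `b` if and only if `(a⁻¹ b⁻¹ a b) ^ q = 1`. -/
theorem pow_commute_iff (hG : Cfsg.IsRegularPGroup p G) (k : ℕ) (a b : G) :
    a ^ p ^ k * b = b * a ^ p ^ k ↔ (a⁻¹ * b⁻¹ * a * b) ^ p ^ k = 1 := by
  have h := pow_eq_pow_iff hG k a⁻¹ (b⁻¹ * a⁻¹ * b⁻¹⁻¹)
  rw [conj_pow, show a⁻¹ * (b⁻¹ * a⁻¹ * b⁻¹⁻¹)⁻¹ = a⁻¹ * b⁻¹ * a * b by group] at h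
  rw [← h, inv_pow, inv_inv]
  constructor
  · intro e
    rw [mul_assoc, ← (Commute.inv_left e).eq.symm]
    group
  · intro e
    have e2 : Commute (a ^ p ^ k)⁻¹ b := by
      have e3 := congrArg (b * ·) e
      change _ * b = b * _
      simpa [mul_assoc] using e3.symm
    simpa using e2.inv_left.eq

end Cfsg.Agent.H77.Regular
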